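import Groth.Agent.TateLoc.K809.SmoothVan
import Groth.Agent.Etrest.FppfExact
import Groth.Agent.S0779

/-!
# fppf cohomology of sheaves without higher direct images on the small étale site
-/

set_option autoImplicit false
universe u
open CategoryTheory CategoryTheory.Limits AlgebraicGeometry Opposite

noncomputable section

namespace K810.EtRes

open Groth.Agent

/-- `H^q_et(X, F|_{X_et}) = H^q_fppf(X, F)` if the higher direct images of `F` on the small étale site vanish. -/
theorem nonempty_hEquiv (X : Scheme.{u}) (F : BigSite.Ab Scheme.fppfPrecoverage X)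
    (hF : ∀ q : ℕ, 0 < q → IsZero ((BigSite.RresEt Scheme.fppfPrecoverage X q).obj F)) (q : ℕ) :
    Nonempty (EtCoh.H X ((BigSite.resEt Scheme.fppfPrecoverage X).obj F) q ≃+
      BigSite.H Scheme.fppfPrecoverage X F q) := by
  have hc : EtFppf.ACont X := Groth.Agent.S0779.result _
  obtain ⟨e⟩ := Etrest.RAcyc.nonempty_extAddEquiv (EtFppf.aAdj X)
    (Etrest.FppfExact.aPush_injective X) (G := F) hF
    ((constantSheaf (Scheme.smallEtaleTopology X) AddCommGrpCat.{u + 1}).obj (AddCommGrpCat.of (ULift ℤ))) q
  have e2 : Abelian.Ext ((EtFppf.aPull X).obj ((constantSheaf (Scheme.smallEtaleTopology X) AddCommGrpCat.{u + 1}).obj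
      (AddCommGrpCat.of (ULift ℤ)))) F q ≃+ EtFppf.HF X F q :=
    (((Abelian.extFunctor q).mapIso
      (Etrest.FppfExact.constIso X (AddCommGrpCat.of (ULift ℤ))).symm.op).app F).addCommGroupIsoToAddEquiv
  exact ⟨e.trans e2⟩

end K810.EtRes
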