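import Groth.Agent.Proet.ZU
import Groth.Agent.BigSite.K299.PullInj
import Groth.Agent.TateLoc.K809.Les

/-!
# `H^1(S, f_* F)` embeds in `H^1(T, F)`

* `lift_of_H1`, `H1_of_lift`: `H^1(G) = 0` iff global sections lift along an injective embedding.
* `subsingleton_H1_push`: if `H^1(T, F) = 0` then `H^1(S, f_* F) = 0` on the big sites.
-/

set_option autoImplicit false
universe w' w v u

open CategoryTheory Category Limits Opposite Abelian AlgebraicGeometry

noncomputable section

namespace K810.PushH1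

open Groth.Agent.Proet.ZU K809.Les

section Gen

variable {C : Type u} [Category.{v} C] [LocallySmall.{w} C] {J : GrothendieckTopology C} [HasSheafify J AddCommGrpCat.{w}]
  [HasExt.{w'} (Sheaf J AddCommGrpCat.{w})] {T : C} (hT : IsTerminal T)

include hT

theorem lift_of_H1 {S : ShortComplex (Sheaf J AddCommGrpCat.{w})} (hS : S.ShortExact)
    (h : Subsingleton (Sheaf.H.{w'} S.X₁ 1)) (q : S.X₃.obj.obj (op T)) :
    ∃ i : S.X₂.obj.obj (op T), S.g.hom.app (op T) i = q := by
  have h' : Subsingleton (Ext.{w'} ((zF.{w} J).obj T) S.X₁ 1) := (HTop hT S.X₁ 1).toEquiv.subsingleton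
  have hx : del ((zF.{w} J).obj T) hS 0 (Ext.mk₀ ((ev J T S.X₃).symm q)) = 0 := Subsingleton.elim _ _
  obtain ⟨y, hy⟩ := (exact₃ ((zF.{w} J).obj T) hS 0 _).1 hx
  obtain ⟨z, rfl⟩ := (Ext.mk₀_bijective _ _).2 y
  have h2 : z ≫ S.g = (ev J T S.X₃).symm q := by
    apply (Ext.mk₀_bijective _ _).1
    rw [← hy, mp_apply, Ext.mk₀_comp_mk₀]
  refine ⟨ev J T S.X₂ z, ?_⟩
  rw [← ev_comp, h2, AddEquiv.apply_symm_apply]

theorem H1_of_lift {S : ShortComplex (Sheaf J AddCommGrpCat.{w})} (hS : S.ShortExact)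
    (h : Subsingleton (Sheaf.H.{w'} S.X₂ 1))
    (hl : ∀ q : S.X₃.obj.obj (op T), ∃ i : S.X₂.obj.obj (op T), S.g.hom.app (op T) i = q) :
    Subsingleton (Sheaf.H.{w'} S.X₁ 1) := by
  have h' : Subsingleton (Ext.{w'} ((zF.{w} J).obj T) S.X₂ 1) := (HTop hT S.X₂ 1).toEquiv.subsingleton
  have h1 : Subsingleton (Ext.{w'} ((zF.{w} J).obj T) S.X₁ 1) := by
    refine subsingleton_of_forall_eq 0 fun x => ?_
    obtain ⟨y, rfl⟩ := (exact₁ ((zF.{w} J).obj T) hS 0 x).1 (Subsingleton.elim _ _)
    obtain ⟨z, rfl⟩ := (Ext.mk₀_bijective _ _).2 y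
    obtain ⟨i, hi⟩ := hl (ev J T S.X₃ z)
    refine (exact₃ ((zF.{w} J).obj T) hS 0 _).2 ⟨Ext.mk₀ ((ev J T S.X₂).symm i), ?_⟩
    rw [mp_apply, Ext.mk₀_comp_mk₀]
    congr 1
    apply (ev J T S.X₃).injective
    rw [ev_comp, AddEquiv.apply_symm_apply, hi]
  exact (HTop hT S.X₁ 1).symm.toEquiv.subsingleton

end Gen

variable (K : Precoverage Scheme.{u}) {S T : Scheme.{u}} (f : T ⟶ S)

instance injective_push (I : BigSite.Ab K T) [Injective I] :
    Injective ((BigSite.pushBig K f AddCommGrpCat.{u + 1}).obj I) :=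
  (BigSite.bigAdj K f AddCommGrpCat.{u + 1}).map_injective _ inferInstance

instance preservesLimits_push :
    PreservesLimitsOfSize.{0, 0} (BigSite.pushBig K f AddCommGrpCat.{u + 1}) :=
  (BigSite.bigAdj K f AddCommGrpCat.{u + 1}).rightAdjoint_preservesLimits

instance preservesFiniteLimits_push :
    PreservesFiniteLimits (BigSite.pushBig K f AddCommGrpCat.{u + 1}) :=
  PreservesLimitsOfSize.preservesFiniteLimits _

instance preservesMono_push :
    (BigSite.pushBig K f AddCommGrpCat.{u + 1}).PreservesMonomorphisms := inferInstance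

/-- The base change of the final object is final. -/
def isTerminal_pullback : IsTerminal ((Over.pullback f).obj (Over.mk (𝟙 S))) :=
  (Over.mkIdTerminal (X := S)).isTerminalObj (Over.pullback f) _

/-- `H^1(S, f_* F) = 0` if `H^1(T, F) = 0`. -/
theorem subsingleton_H1_push (F : BigSite.Ab K T) (h : Subsingleton (BigSite.H K T F 1)) :
    Subsingleton (BigSite.H K S ((BigSite.pushBig K f AddCommGrpCat.{u + 1}).obj F) 1) := by
  let R := BigSite.pushBig K f AddCommGrpCat.{u + 1}
  let ι := Injective.ι F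
  let S₁ : ShortComplex (BigSite.Ab K T) := ShortComplex.mk ι (cokernel.π ι) (cokernel.condition ι)
  have hS₁ : S₁.ShortExact := { exact := ShortComplex.exact_cokernel ι }
  have hR : Mono (R.map ι) := inferInstance
  let S₂ : ShortComplex (BigSite.Ab K S) :=
    ShortComplex.mk (R.map ι) (cokernel.π (R.map ι)) (cokernel.condition (R.map ι))
  have hS₂ : S₂.ShortExact := { exact := ShortComplex.exact_cokernel (R.map ι) }
  have hI : Injective (R.obj (Injective.under F)) := injective_push K f _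
  have hI1 : Subsingleton (Sheaf.H S₂.X₂ 1) := by
    have : Injective S₂.X₂ := hI
    exact subsingleton_of_forall_eq 0 fun x => Ext.eq_zero_of_injective x
  have hex : (S₁.map R).Exact := hS₁.exact.map_of_mono_of_preservesKernel R inferInstance inferInstance
  let c : cokernel (R.map ι) ⟶ R.obj (cokernel ι) :=
    cokernel.desc (S₁.map R).f (S₁.map R).g (S₁.map R).zero
  have hc : Mono c := (S₁.map R).exact_iff_mono_cokernel_desc.1 hex
  have hcπ : cokernel.π (R.map ι) ≫ c = R.map (cokernel.π ι) := cokernel.π_desc _ _ _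
  refine H1_of_lift.{u + 1, u + 1, u, u + 1} (Over.mkIdTerminal (X := S)) hS₂ hI1 fun q => ?_
  obtain ⟨i, hi⟩ := lift_of_H1.{u + 1, u + 1, u, u + 1} (isTerminal_pullback f) hS₁ h (c.hom.app (op (Over.mk (𝟙 S))) q)
  refine ⟨i, ?_⟩
  have hinj : Function.Injective (c.hom.app (op (Over.mk (𝟙 S)))) := by
    intro s s' hs
    apply (ev (QuotSh.J K S) (Over.mk (𝟙 S)) (cokernel (R.map ι))).symm.injective
    rw [← cancel_mono c, ev_symm_comp, ev_symm_comp]
    exact congrArg _ hs
  apply hinj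
  refine Eq.trans ?_ hi
  exact ConcreteCategory.congr_hom (congrArg (fun z => z.hom.app (op (Over.mk (𝟙 S)))) hcπ) i

end K810.PushH1
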