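import Groth.Agent.Sga3B.GaPts
import Groth.Prelude.Def_CGrpSh2
import Groth.Prelude.Def_EtDlF

/-!
# The sheaf of points of `𝔾_m` is the sheaf of units

* `gmEquiv`: points of `𝔾_m` are invertible functions.
* `isoF`: `CGrpSh2.Gm fppf X ≅ EtDl.GmF X`.
* `isoEt`: its restriction to the small étale site is `EtCoh.Gm X`.
-/

set_option autoImplicit false
universe u
open CategoryTheory Opposite MonObj GrpObj AlgebraicGeometry

noncomputable section

namespace K810.GmIso

open Groth.Agent.Sga3B.DSPts Groth.Agent.Sga3B.GaPts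

variable {S : Scheme.{u}}

/-- the unit attached to a point of `𝔾_m` -/
def gmU {T : Over S} (x : T ⟶ Red.Gm S) : (Γ(T.left, ⊤))ˣ :=
  (dsChar x).toHomUnits (Multiplicative.ofAdd 1)

lemma gmU_mul {T : Over S} (x y : T ⟶ Red.Gm S) : gmU (x * y) = gmU x * gmU y := by
  apply Units.ext
  change dsChar (x * y) (Multiplicative.ofAdd 1) = _
  rw [dsChar_mul]
  rfl

lemma gmU_comp {T T' : Over S} (h : T' ⟶ T) (x : T ⟶ Red.Gm S) :
    (gmU (h ≫ x) : Γ(T'.left, ⊤)) = h.left.appTop (gmU x : Γ(T.left, ⊤)) := by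
  change dsChar (h ≫ x) (Multiplicative.ofAdd 1) = _
  rw [dsChar_comp]
  rfl

lemma gmU_injective (T : Over S) : Function.Injective (gmU : (T ⟶ Red.Gm S) → _) := by
  intro x y h
  have h1 : (dsChar x).toHomUnits = (dsChar y).toHomUnits := by
    apply MonoidHom.ext_mint
    exact h
  have h2 : dsChar x = dsChar y := by
    refine MonoidHom.ext fun z => ?_
    exact congrArg Units.val (DFunLike.congr_fun h1 z)
  rw [← dsEquiv_dsChar x, h2, dsEquiv_dsChar]

lemma gmU_surjective (T : Over S) : Function.Surjective (gmU : (T ⟶ Red.Gm S) → _) := by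
  intro u
  refine ⟨dsEquiv T ℤ ((Units.coeHom _).comp (zpowersHom _ u)), ?_⟩
  apply Units.ext
  change dsChar (dsEquiv T ℤ _) (Multiplicative.ofAdd 1) = _
  rw [dsChar_dsEquiv]
  change ((u ^ (1 : ℤ) : (Γ(T.left, ⊤))ˣ) : Γ(T.left, ⊤)) = u
  rw [zpow_one]

/-- Points of `𝔾_m` are invertible functions. -/
def gmEquiv (T : Over S) : (T ⟶ Red.Gm S) ≃* (Γ(T.left, ⊤))ˣ :=
  MulEquiv.ofBijective (MonoidHom.mk' gmU gmU_mul) ⟨gmU_injective T, gmU_surjective T⟩

/-- The underlying presheaf. -/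
def preIso (X : Scheme.{u}) : CGrpSh.ptsPre (Red.Gm X) ≅ (Over.forget X).op ⋙ EtCoh.ΓUnits.{u} :=
  NatIso.ofComponents
    (fun T => (AddEquiv.ulift.trans ((MulEquiv.toAdditive (gmEquiv (unop T))).trans
      AddEquiv.ulift.symm) : ULift.{u + 1} (Additive (unop T ⟶ Red.Gm X)) ≃+
        ULift.{u + 1} (Additive (Γ((unop T).left, ⊤))ˣ)).toAddCommGrpIso)
    (by
      intro T T' f
      refine AddCommGrpCat.ext fun x => ULift.ext _ _ ?_
      refine congrArg Additive.ofMul ?_
      apply Units.ext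
      exact gmU_comp f.unop (Additive.toMul (ULift.down x)))

/-- The sheaf of points of `𝔾_m` on the big fppf site is the sheaf of units. -/
def isoF (X : Scheme.{u}) : CGrpSh2.Gm Scheme.fppfPrecoverage X ≅ EtDl.GmF X :=
  (sheafToPresheaf _ _).preimageIso (preIso X)

/-- The restriction of `𝔾_m` to the small étale site. -/
def isoEt (X : Scheme.{u}) :
    (BigSite.resEt Scheme.fppfPrecoverage X).obj (CGrpSh2.Gm Scheme.fppfPrecoverage X) ≅ EtCoh.Gm X :=
  (sheafToPresheaf _ _).preimageIso (Functor.isoWhiskerLeft (EtFppf.a X).op (preIso X))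

end K810.GmIso
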