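import Groth.Agent.Sga3.H790.RkChar
import Groth.Agent.Etdl.H432.Sec
import Groth.Agent.Sga3B.Pts
import Groth.Prelude.Def_CGrpSh2

/-!
# The dual sheaf of a diagonalisable group is a constant sheaf

`dsDualIso S M : constant sheaf M ≅ 𝓗om(D_S(M), 𝔾_m)` on the big fppf site of any scheme `S`, any group `M`.
-/

set_option autoImplicit false
universe u

open CategoryTheory Category Limits Opposite AlgebraicGeometry MonoidalCategory CartesianMonoidalCategory MonObj

noncomputable section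

namespace K810.DualDS

open Groth.Agent Groth.Agent.Sga3B Groth.Agent.Sga3B.DSPts Groth.Agent.Sga3B.GaPts Groth.Agent.Sga3.H790.RkFam
  Groth.Agent.Sga3.H790.RkSys

variable {S : Scheme.{u}} {M : Type} [AddCommGroup M]

local notation "fp" => Scheme.fppfPrecoverage

/-- value of a section of the dual sheaf -/
def val {G : Over S} [GrpObj G] [IsCommMonObj G] {U V : Over S}
    (χ : (CGrpSh.pts fp G).over U ⟶ (CGrpSh2.Gm fp S).over U) (g : V ⟶ U) (x : V ⟶ G) : V ⟶ Red.Gm S :=
  Additive.toMul (ULift.down (χ.hom.app (op (Over.mk g)) (ULift.up (Additive.ofMul x))))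

theorem val_mul {G : Over S} [GrpObj G] [IsCommMonObj G] {U V : Over S}
    (χ : (CGrpSh.pts fp G).over U ⟶ (CGrpSh2.Gm fp S).over U) (g : V ⟶ U) (x y : V ⟶ G) :
    val χ g (x * y) = val χ g x * val χ g y := by
  have h := (χ.hom.app (op (Over.mk g))).hom.map_add (ULift.up (Additive.ofMul x)) (ULift.up (Additive.ofMul y))
  exact congrArg (fun z => Additive.toMul (ULift.down z)) h

theorem comp_val {G : Over S} [GrpObj G] [IsCommMonObj G] {U V W : Over S}
    (χ : (CGrpSh.pts fp G).over U ⟶ (CGrpSh2.Gm fp S).over U) (g : V ⟶ U) (h : W ⟶ V) (x : V ⟶ G) :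
    h ≫ val χ g x = val χ (h ≫ g) (h ≫ x) := by
  let l : Over.mk (h ≫ g) ⟶ Over.mk g := Over.homMk h rfl
  have h1 := ConcreteCategory.congr_hom (χ.hom.naturality l.op) (ULift.up (Additive.ofMul x))
  exact (congrArg (fun z => Additive.toMul (ULift.down z)) h1).symm

theorem val_ext {G : Over S} [GrpObj G] [IsCommMonObj G] {U : Over S}
    (χ ψ : (CGrpSh.pts fp G).over U ⟶ (CGrpSh2.Gm fp S).over U)
    (h : ∀ (V : Over S) (g : V ⟶ U) (x : V ⟶ G), val χ g x = val ψ g x) : χ = ψ := by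
  refine Sheaf.hom_ext (NatTrans.ext (funext fun V => AddCommGrpCat.ext fun s => ?_))
  exact congrArg (fun z => ULift.up (Additive.ofMul z)) (h (unop V).left (unop V).hom (Additive.toMul (ULift.down s)))

instance isMonHom_chi (S : Scheme.{u}) (m : M) : IsMonHom (Red.chi S m) := by
  apply Pts.isMonHom_of_points
  intro X x y
  change (x * y) ≫ Red.DSmap S _ = (x ≫ Red.DSmap S _) * (y ≫ Red.DSmap S _)
  rw [← DSPts.dsEquiv_dsChar ((x * y) ≫ Red.DSmap S _),
    ← DSPts.dsEquiv_dsChar (x ≫ Red.DSmap S _), ← DSPts.dsEquiv_dsChar (y ≫ Red.DSmap S _),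
    ← map_mul]
  congr 1
  rw [DSPts.dsChar_DSmap, DSPts.dsChar_DSmap, DSPts.dsChar_DSmap, DSPts.dsChar_mul]
  rfl

theorem gmFn_inj {T : Over S} {x y : T ⟶ Red.Gm S} (h : Red.gmFn x = Red.gmFn y) : x = y := by
  rw [GaPts.gmFn_eq, GaPts.gmFn_eq] at h
  have h1 : dsChar x = dsChar y := MonoidHom.ext_mint h
  rw [← dsEquiv_dsChar x, h1, dsEquiv_dsChar]

theorem comp_chi_add {T : Over S} (x : T ⟶ Red.DS S M) (m m' : M) :
    x ≫ Red.chi S (m + m') = (x ≫ Red.chi S m) * (x ≫ Red.chi S m') := by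
  apply gmFn_inj
  rw [GaPts.gmFn_chi, GaPts.gmFn_eq, dsChar_mul, MonoidHom.mul_apply, ← GaPts.gmFn_eq, ← GaPts.gmFn_eq,
    GaPts.gmFn_chi, GaPts.gmFn_chi, ofAdd_add, map_mul]

/-- the character attached to `m` over `U` -/
def ch (U : Over S) (m : M) :
    (CGrpSh.pts fp (Red.DS S M)).over U ⟶ (CGrpSh2.Gm fp S).over U :=
  ((QuotSh.J fp S).overPullback _ U).map (CGrpSh.ptsMap fp (Red.chi S m))

theorem val_ch {U V : Over S} (m : M) (g : V ⟶ U) (x : V ⟶ Red.DS S M) :
    val (ch U m) g x = x ≫ Red.chi S m := rfl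

theorem ch_add (U : Over S) (m m' : M) : ch U (m + m') = ch U m + ch U m' := by
  apply val_ext
  intro V g x
  exact comp_chi_add x m m'

/-- The map from the constant presheaf. -/
def phi (S : Scheme.{u}) (M : Type) [AddCommGroup M] :
    (Functor.const (Over S)ᵒᵖ).obj (AddCommGrpCat.of (ULift.{u + 1} M)) ⟶
      (CGrpSh2.dualSh fp (CGrpSh.pts fp (Red.DS S M))).obj where
  app U := AddCommGrpCat.ofHom (AddMonoidHom.mk' (fun m : ULift.{u + 1} M => ch (unop U) m.down)
    (fun m m' => ch_add (unop U) m.down m'.down))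
  naturality U V f := by
    refine AddCommGrpCat.ext fun m => ?_
    rfl

theorem phi_app (U : Over S) (m : ULift.{u + 1} M) : (phi S M).app (op U) m = ch U m.down := rfl

/-- Different elements give different characters over a nonempty scheme. -/
theorem ch_injective (U : Over S) (p : U.left) {m m' : M} (h : ch U m = ch U m') : m = m' := by
  let κ : Type u := U.left.residueField p
  let A : Type u := MonoidAlgebra κ (Multiplicative M)
  let V : Over S := Over.mk (Spec.map (CommRingCat.ofHom (algebraMap κ A)) ≫ U.left.fromSpecResidueField p ≫ U.hom)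
  let g : V ⟶ U := Over.homMk (Spec.map (CommRingCat.ofHom (algebraMap κ A)) ≫ U.left.fromSpecResidueField p)
    (Category.assoc _ _ _)
  let χ : Multiplicative M →* Γ(V.left, ⊤) :=
    ((Scheme.ΓSpecIso (CommRingCat.of A)).inv.hom : A →* Γ(Spec (CommRingCat.of A), ⊤)).comp
      (MonoidAlgebra.of κ (Multiplicative M))
  let t : V ⟶ Red.DS S M := dsEquiv V M χ
  have h1 : t ≫ Red.chi S m = t ≫ Red.chi S m' := by
    rw [← val_ch m g t, ← val_ch m' g t, h]
  have h2 := congrArg Red.gmFn h1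
  rw [GaPts.gmFn_chi, GaPts.gmFn_chi, dsChar_dsEquiv] at h2
  have h3 : (MonoidAlgebra.of κ (Multiplicative M)) (Multiplicative.ofAdd m) =
      (MonoidAlgebra.of κ (Multiplicative M)) (Multiplicative.ofAdd m') :=
    (Scheme.ΓSpecIso (CommRingCat.of A)).commRingCatIsoToRingEquiv.symm.injective h2
  exact Multiplicative.ofAdd.injective (MonoidAlgebra.of_injective h3)

instance isLocallyInjective_phi : Presheaf.IsLocallyInjective (QuotSh.J fp S) (phi S M) where
  equalizerSieve_mem {U} m m' h := by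
    have key : ∀ p : (unop U).left, m = m' := fun p => by
      apply ULift.down_injective
      exact ch_injective (unop U) p h
    change _ ∈ EtFppf.J S _
    rw [Etrest.BigEtSite.mem_J_iff]
    intro p
    refine ⟨unop U, 𝟙 _, ?_, inferInstanceAs (Flat (𝟙 _)), inferInstanceAs (LocallyOfFinitePresentation (𝟙 _)), ⟨p, rfl⟩⟩
    change _ = _
    rw [key p]

theorem locally_ch (U : Over S) (χ : (CGrpSh.pts fp (Red.DS S M)).over U ⟶ (CGrpSh2.Gm fp S).over U) (p : U.left) :
    ∃ (V : Over S) (g : V ⟶ U) (m : M), Flat g.left ∧ LocallyOfFinitePresentation g.left ∧ p ∈ Set.range g.left ∧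
      ∀ (Y : Over S) (h : Y ⟶ V) (y : Y ⟶ Red.DS S M), val χ (h ≫ g) y = y ≫ Red.chi S m := by
  obtain ⟨W, hW, hpW, -⟩ := exists_isAffineOpen_mem_and_subset (x := p) (U := ⊤) (by trivial)
  let R : Type u := Γ(U.left, W)
  let i : Spec (CommRingCat.of R) ⟶ U.left := hW.fromSpec
  let v : Spec (CommRingCat.of R) ⟶ S := i ≫ U.hom
  let g₀ : Over.mk v ⟶ U := Over.homMk i rfl
  let a : Red.DS S M ⊗ Over.mk v ⟶ Red.Gm S := val χ (snd _ _ ≫ g₀) (fst _ _)
  have ha' : ∀ (Y : Over S) (x : Y ⟶ Red.DS S M) (t : Y ⟶ Over.mk v), lift x t ≫ a = val χ (t ≫ g₀) x := by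
    intro Y x t
    rw [comp_val, lift_fst, ← Category.assoc, lift_snd]
  have ha : ∀ (Y : Over S) (x y : Y ⟶ Red.DS S M) (t : Y ⟶ Over.mk v),
      lift (x * y) t ≫ a = (lift x t ≫ a) * (lift y t ≫ a) := by
    intro Y x y t
    rw [ha', ha', ha', val_mul]
  obtain ⟨q, hq⟩ : p ∈ Set.range i := by
    rw [hW.range_fromSpec]
    exact hpW
  have hq' : (PrimeSpectrum.asIdeal (R := R) q).IsPrime := PrimeSpectrum.isPrime _
  obtain ⟨e, m, he, hm⟩ := Groth.Agent.Sga3.H790.RkFam.exists_const a ha (PrimeSpectrum.asIdeal (R := R) q)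
  let Re : Type u := Localization.Away e
  let j : Spec (CommRingCat.of Re) ⟶ Spec (CommRingCat.of R) := Spec.map (CommRingCat.ofHom (algebraMap R Re))
  let V : Over S := Over.mk (j ≫ v)
  let g₁ : V ⟶ Over.mk v := Over.homMk j rfl
  refine ⟨V, g₁ ≫ g₀, m, ?_, ?_, ?_, ?_⟩
  · exact inferInstanceAs (Flat (j ≫ i))
  · exact inferInstanceAs (LocallyOfFinitePresentation (j ≫ i))
  · obtain ⟨r, hr⟩ : q ∈ Set.range j := by
      have h1 : Set.range j = (PrimeSpectrum.basicOpen e : Set (PrimeSpectrum R)) :=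
        PrimeSpectrum.localization_away_comap_range Re e
      rw [h1]
      exact he
    refine ⟨r, ?_⟩
    change i (j r) = p
    rw [hr, hq]
  · intro Y h y
    have h1 := hm Y y (h ≫ g₁) ?_
    · rw [← h1, ha', Category.assoc]
    · change IsUnit ((h ≫ g₁).left.appTop ((Scheme.ΓSpecIso (CommRingCat.of R)).inv e))
      have h2 : (h ≫ g₁).left = h.left ≫ j := rfl
      rw [h2, Scheme.Hom.comp_appTop]
      change IsUnit (h.left.appTop (j.appTop ((Scheme.ΓSpecIso (CommRingCat.of R)).inv e)))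
      have h3 : j.appTop ((Scheme.ΓSpecIso (CommRingCat.of R)).inv e) =
          (Scheme.ΓSpecIso (CommRingCat.of Re)).inv (algebraMap R Re e) :=
        (ConcreteCategory.congr_hom
          (Scheme.ΓSpecIso_inv_naturality (CommRingCat.ofHom (algebraMap R Re))) e).symm
      rw [h3]
      have h4 : IsUnit (algebraMap R Re e) := IsLocalization.Away.algebraMap_isUnit e
      exact (h4.map (Scheme.ΓSpecIso (CommRingCat.of Re)).inv.hom).map h.left.appTop.hom

instance isLocallySurjective_phi : Presheaf.IsLocallySurjective (QuotSh.J fp S) (phi S M) where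
  imageSieve_mem {U} χ := by
    change _ ∈ EtFppf.J S _
    rw [Etrest.BigEtSite.mem_J_iff]
    intro p
    obtain ⟨V, g, m, h1, h2, h3, h4⟩ := locally_ch U χ p
    refine ⟨V, g, ⟨ULift.up m, ?_⟩, h1, h2, h3⟩
    apply val_ext
    intro Y h y
    rw [phi_app, val_ch]
    exact (h4 Y h y).symm

instance isIso_map_phi : IsIso ((presheafToSheaf (QuotSh.J fp S) AddCommGrpCat.{u + 1}).map (phi S M)) := by
  rw [← GrothendieckTopology.W_iff, GrothendieckTopology.W_iff_isLocallyBijective]
  exact ⟨inferInstance, inferInstance⟩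

/-- The dual sheaf of the diagonalisable group `D_S(M)` is the constant sheaf `M`. -/
def dsDualIso (S : Scheme.{u}) (M : Type) [AddCommGroup M] :
    (constantSheaf (QuotSh.J fp S) AddCommGrpCat.{u + 1}).obj (AddCommGrpCat.of (ULift.{u + 1} M)) ≅
      CGrpSh2.dualSh fp (CGrpSh.pts fp (Red.DS S M)) :=
  (@asIso _ _ _ _ _ (isIso_map_phi (S := S) (M := M))) ≪≫
    asIso ((sheafificationAdjunction (QuotSh.J fp S) AddCommGrpCat.{u + 1}).counit.app
      (CGrpSh2.dualSh fp (CGrpSh.pts fp (Red.DS S M))))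

end K810.DualDS
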