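import Groth.Agent.Dix.K109.Scd
import Groth.Agent.TateLoc.K773.DualTors

/-!
# `H³(k, Ĝ) = 0` over perfect fields of strict cohomological dimension two

`H³(k, F) = 0` for every étale sheaf `F` on `Spec k` which is split by a finite extension with finitely generated
sections, if this holds for the torsion free ones and `cd(k) ≤ 2`; hence `H³(k, Ĝ) = 0` for affine commutative group
schemes of finite type over a perfect field.
-/

set_option autoImplicit false
set_option backward.isDefEq.respectTransparency.types false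
universe u

open CategoryTheory CategoryTheory.Limits MonoidalCategory CartesianMonoidalCategory MonObj GrpObj AlgebraicGeometry
open Opposite
open CategoryTheory.Abelian (Ext)
open TensorProduct
open Groth.Agent.CurvesA Groth.Agent.CurvesA.EtFieldObj Groth.Agent.CurvesA.EtFieldDesc
open Groth.Agent.CurvesA.EtFieldTr Groth.Agent.CurvesA.EtFieldFin

noncomputable section

namespace K810.HThree

section ab

variable {K : Type u} [Field K]

/-- A common exponent for all torsion sections. -/
theorem exists_torsion_exponent {F : EtCoh.Ab (Spec (CommRingCat.of K))} (hF : Fin' F) :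
    ∃ t : ℕ, 0 < t ∧ ∀ (U : (Spec (CommRingCat.of K)).Etale) (s : EtCoh.sect F U),
      IsOfFinAddOrder s → t • s = 0 := by
  obtain ⟨N, _, _, _, _, hN, hfin⟩ := hF
  have hfg : Group.FG (Multiplicative (F.obj.obj (op (etObj K N)))) := by
    have h1 : AddGroup.FG (F.obj.obj (op (etObj K N))) := by
      rw [← Module.Finite.iff_addGroup_fg]
      exact hfin
    exact AddGroup.fg_iff_mul_fg.1 h1
  obtain ⟨t, ht, h⟩ := K773.FGStab.exists_torsion_exponent (Multiplicative (F.obj.obj (op (etObj K N))))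
  refine ⟨t, ht, fun U s hs => ?_⟩
  apply sect_ext
  intro N' _ _ _ _ b
  rw [map_zero]
  obtain ⟨M, _, _, _, _, ⟨φ⟩, ⟨ψ⟩⟩ := exists_galois (K := K) N' N
  apply map_injective F (etMap φ)
  rw [map_zero]
  obtain ⟨a₀, ha₀⟩ := hN M (etMap ψ) (F.obj.map (etMap φ).op (F.obj.map b.op s))
  obtain ⟨n, hn, h1⟩ := isOfFinAddOrder_iff_nsmul_eq_zero.1 hs
  have h2 : n • a₀ = 0 := by
    apply map_injective F (etMap ψ)
    rw [map_nsmul, ha₀, ← map_nsmul, ← map_nsmul, h1, map_zero, map_zero, map_zero]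
  have h3 : t • a₀ = 0 := by
    have h4 := h (Multiplicative.ofAdd a₀) (isOfFinOrder_iff_pow_eq_one.2 ⟨n, hn, by
      rw [← ofAdd_nsmul, h2]; rfl⟩)
    rw [← ofAdd_nsmul] at h4
    exact h4
  rw [map_nsmul, map_nsmul, ← ha₀, ← map_nsmul, h3, map_zero]

/-- The exact sequence `0 → F[t] → F → tF → 0`. -/
abbrev seq (F : EtCoh.Ab (Spec (CommRingCat.of K))) (t : ℕ) : ShortComplex (EtCoh.Ab (Spec (CommRingCat.of K))) :=
  ShortComplex.mk (kernel.ι (factorThruImage (t • 𝟙 F))) (factorThruImage (t • 𝟙 F)) (kernel.condition _)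

theorem shortExact_seq (F : EtCoh.Ab (Spec (CommRingCat.of K))) (t : ℕ) : (seq F t).ShortExact where
  exact := ShortComplex.exact_of_f_is_kernel _ (kernelIsKernel _)
  mono_f := inferInstanceAs (Mono (kernel.ι _))
  epi_g := inferInstanceAs (Epi (factorThruImage _))

theorem nsmul_id_app (F : EtCoh.Ab (Spec (CommRingCat.of K))) (m : ℕ) (U : (Spec (CommRingCat.of K)).Etale)
    (s : EtCoh.sect F U) : (m • 𝟙 F : F ⟶ F).hom.app (op U) s = m • s := by
  induction m with
  | zero => rw [zero_nsmul, zero_nsmul]; rfl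
  | succ m ih =>
    rw [succ_nsmul, succ_nsmul, ← ih]
    rfl

theorem image_app (F : EtCoh.Ab (Spec (CommRingCat.of K))) (m : ℕ) (U : (Spec (CommRingCat.of K)).Etale)
    (s : EtCoh.sect F U) :
    (image.ι (m • 𝟙 F)).hom.app (op U) ((factorThruImage (m • 𝟙 F)).hom.app (op U) s) = m • s := by
  have h1 := congrArg (fun φ : F ⟶ F => φ.hom.app (op U) s) (image.fac (m • 𝟙 F))
  exact h1.trans (nsmul_id_app F m U s)

theorem killedBy_kernel (F : EtCoh.Ab (Spec (CommRingCat.of K))) (t : ℕ) :
    EtCoh.KilledBy t (kernel (factorThruImage (t • 𝟙 F))) := by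
  intro U s
  apply app_injective (kernel.ι (factorThruImage (t • 𝟙 F))) U
  rw [map_nsmul, map_zero, ← image_app]
  have h1 := congrArg (fun φ => φ.hom.app (op U) s) (kernel.condition (factorThruImage (t • 𝟙 F)))
  have h2 : (factorThruImage (t • 𝟙 F)).hom.app (op U) ((kernel.ι (factorThruImage (t • 𝟙 F))).hom.app (op U) s) = 0 := h1
  rw [h2, map_zero]

theorem killedBy_image (F : EtCoh.Ab (Spec (CommRingCat.of K))) (a b : ℕ) (h : EtCoh.KilledBy (a * b) F) :
    EtCoh.KilledBy b (image (a • 𝟙 F)) := by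
  intro U s
  apply sect_ext
  intro N' _ _ _ _ c
  rw [map_zero]
  obtain ⟨N'', _, _, _, _, d, β, hβ⟩ := exists_lift (factorThruImage (a • 𝟙 F)) ((image (a • 𝟙 F)).obj.map c.op s)
  apply map_injective _ d
  rw [map_zero, map_nsmul, map_nsmul, ← hβ]
  apply app_injective (image.ι (a • 𝟙 F))
  rw [map_nsmul, image_app, map_zero, smul_smul, mul_comm]
  exact h _ β

/-- Two out of three for vanishing. -/
theorem subsingleton_of_seq {F : EtCoh.Ab (Spec (CommRingCat.of K))} (t q : ℕ)
    (h1 : Subsingleton (EtCoh.H (Spec (CommRingCat.of K)) (kernel (factorThruImage (t • 𝟙 F))) q))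
    (h2 : Subsingleton (EtCoh.H (Spec (CommRingCat.of K)) (image (t • 𝟙 F)) q)) :
    Subsingleton (EtCoh.H (Spec (CommRingCat.of K)) F q) := by
  apply EtFieldH.subsingleton_H
  intro x
  have e1 : Subsingleton (Ext (ZL K K) (kernel (factorThruImage (t • 𝟙 F))) q) :=
    (EtFieldH.HEquiv (kernel (factorThruImage (t • 𝟙 F))) q).symm.toEquiv.subsingleton
  have e2 : Subsingleton (Ext (ZL K K) (image (t • 𝟙 F)) q) :=
    (EtFieldH.HEquiv (image (t • 𝟙 F)) q).symm.toEquiv.subsingleton
  obtain ⟨y, hy⟩ := Ext.covariant_sequence_exact₂ (ZL K K) (shortExact_seq F t) x (e2.elim _ _)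
  rw [← hy, e1.elim y 0, Ext.zero_comp]

/-- Sheaves killed by an integer. -/
theorem subsingleton_of_killedBy (d : ℕ) (hcd : ∀ p : ℕ, p.Prime → Dix.CohDimLEAt (Spec (CommRingCat.of K)) p d)
    (q : ℕ) (hq : d < q) (m : ℕ) (hm : m ≠ 0) :
    ∀ (F : EtCoh.Ab (Spec (CommRingCat.of K))), EtCoh.KilledBy m F →
      Subsingleton (EtCoh.H (Spec (CommRingCat.of K)) F q) := by
  induction m using Nat.recOnMul with
  | zero => exact absurd rfl hm
  | one =>
    intro F hF
    refine hcd 2 Nat.prime_two F ?_ q hq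
    exact Groth.Agent.Etbc.H231.CycTower.isPrimaryTorsion_of_killedBy (k := 0) (by rwa [pow_zero])
  | prime p hp =>
    intro F hF
    refine hcd p hp F ?_ q hq
    exact Groth.Agent.Etbc.H231.CycTower.isPrimaryTorsion_of_killedBy (k := 1) (by rwa [pow_one])
  | mul a b iha ihb =>
    intro F hF
    exact subsingleton_of_seq a q (iha (left_ne_zero_of_mul hm) _ (killedBy_kernel F a))
      (ihb (right_ne_zero_of_mul hm) _ (killedBy_image F a b hF))

/-- Reduction to torsion free sheaves. -/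
theorem subsingleton_of_fin (d : ℕ)
    (hcd : ∀ p : ℕ, p.Prime → Dix.CohDimLEAt (Spec (CommRingCat.of K)) p d) (q : ℕ) (hq : d < q)
    (hlat : ∀ F : EtCoh.Ab (Spec (CommRingCat.of K)), Fin' F →
      (∀ (n : ℕ) (U : (Spec (CommRingCat.of K)).Etale) (s : EtCoh.sect F U), n ≠ 0 → n • s = 0 → s = 0) →
        Subsingleton (EtCoh.H (Spec (CommRingCat.of K)) F q))
    (F : EtCoh.Ab (Spec (CommRingCat.of K))) (hF : Fin' F) :
    Subsingleton (EtCoh.H (Spec (CommRingCat.of K)) F q) := by
  obtain ⟨t, ht, h⟩ := exists_torsion_exponent hF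
  refine subsingleton_of_seq t q (subsingleton_of_killedBy d hcd q hq t ht.ne' _ (killedBy_kernel F t))
    (hlat _ (hF.of_mono (image.ι _)) fun n U s hn hs => ?_)
  apply sect_ext
  intro N' _ _ _ _ c
  rw [map_zero]
  obtain ⟨N'', _, _, _, _, d, β, hβ⟩ := exists_lift (factorThruImage (t • 𝟙 F)) ((image (t • 𝟙 F)).obj.map c.op s)
  apply map_injective _ d
  rw [map_zero, ← hβ]
  apply app_injective (image.ι (t • 𝟙 F))
  rw [image_app, map_zero]
  apply h
  rw [isOfFinAddOrder_iff_nsmul_eq_zero]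
  refine ⟨n * t, Nat.mul_pos (Nat.pos_of_ne_zero hn) ht, ?_⟩
  rw [mul_smul, ← image_app F t, hβ, ← map_nsmul, ← map_nsmul, ← map_nsmul, hs, map_zero, map_zero, map_zero]

end ab

section dual

open Groth.Agent.Books.AffBridge Groth.Agent.Books.AffBridge2 Groth.Agent.Etdl.H432.Sec K771.HomEv K771.Pts K773
open K620.HopfSeq

variable {K : Type u} [Field K]

section hopf

variable {A : Type u} [CommRing A] [HopfAlgebra K A] [IsCommMonObj (SpecOver K A)] [Algebra.FiniteType K A]

variable (K A) in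
/-- The restriction of the dual sheaf to the small étale site. -/
theorem fin_dual : Fin' ((EtFppf.aPush _).obj (Perf.D K A)) := by
  obtain ⟨L, _, _, _, _, t, ht, h1, h2⟩ := Perf.exists_stable_dual K A
  obtain ⟨N, _, _, _, _, ⟨φ⟩, -⟩ := exists_galois (K := K) L L
  refine ⟨N, inferInstance, inferInstance, inferInstance, inferInstance, ?_, ?_⟩
  · intro N' _ _ _ _ b s
    obtain ⟨x, hx⟩ := h1 N' (b ≫ etMap φ) s
    refine ⟨((EtFppf.aPush _).obj (Perf.D K A)).obj.map (etMap φ).op x, ?_⟩
    rw [← map_comp_apply]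
    exact hx
  · have hfg : Group.FG (GroupLike N (N ⊗[K] A)) := Groth.Agent.TateLoc.K798.CharFG.fg_groupLike
    have h3 : Module.Finite ℤ (Additive (GroupLike N (N ⊗[K] A))) := by
      rw [Module.Finite.iff_addGroup_fg]
      infer_instance
    have h4 : IsNoetherian ℤ (Additive (GroupLike N (N ⊗[K] A))) :=
      isNoetherian_of_isNoetherianRing_of_finite ℤ _
    let f : Γs (Perf.D K A) (SpecOver K N) →+ Additive (GroupLike N (N ⊗[K] A)) :=
      { toFun := fun s => Additive.ofMul ⟨CharSec.ch s, CharSec.isGroupLike_ch s⟩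
        map_zero' := congrArg Additive.ofMul (GroupLike.val_injective (CharSec.ch_zero))
        map_add' := fun x y => congrArg Additive.ofMul (GroupLike.val_injective (CharSec.ch_add x y)) }
    have hf : Function.Injective f := fun x y hxy => CharSec.ch_injective (congrArg (fun z => (Additive.toMul z).val) hxy)
    exact Module.Finite.of_injective f.toIntLinearMap hf

variable (K A) in
theorem subsingleton_hopf [PerfectField K] (d : ℕ)
    (hcd : ∀ p : ℕ, p.Prime → Dix.CohDimLEAt (Spec (CommRingCat.of K)) p d) (q : ℕ) (hq : d < q)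
    (hlat : ∀ F : EtCoh.Ab (Spec (CommRingCat.of K)), Fin' F →
      (∀ (n : ℕ) (U : (Spec (CommRingCat.of K)).Etale) (s : EtCoh.sect F U), n ≠ 0 → n • s = 0 → s = 0) →
        Subsingleton (EtCoh.H (Spec (CommRingCat.of K)) F q)) :
    Subsingleton (DualTors.HD (SpecOver K A) q) := by
  obtain ⟨e⟩ := K771.PerfRes.nonempty_hEquiv K (Perf.D K A) q
  have h1 := subsingleton_of_fin d hcd q hq hlat _ (fin_dual K A)
  exact e.symm.toEquiv.subsingleton

end hopf

/-- **`H^q(k, Ĝ) = 0`, `q > cd(k)`, from the vanishing for lattices, `k` perfect.** -/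
theorem subsingleton_H [PerfectField K] (d : ℕ)
    (hcd : ∀ p : ℕ, p.Prime → Dix.CohDimLEAt (Spec (CommRingCat.of K)) p d) (q : ℕ) (hq : d < q)
    (hlat : ∀ F : EtCoh.Ab (Spec (CommRingCat.of K)), Fin' F →
      (∀ (n : ℕ) (U : (Spec (CommRingCat.of K)).Etale) (s : EtCoh.sect F U), n ≠ 0 → n • s = 0 → s = 0) →
        Subsingleton (EtCoh.H (Spec (CommRingCat.of K)) F q))
    (G : Over (Spec (CommRingCat.of K))) [GrpObj G] [IsCommMonObj G] [IsAffine G.left] [LocallyOfFiniteType G.hom] :
    Subsingleton (BigSite.H Scheme.fppfPrecoverage (Spec (CommRingCat.of K))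
      (CGrpSh2.dualSh Scheme.fppfPrecoverage (CGrpSh.pts Scheme.fppfPrecoverage G)) q) := by
  obtain ⟨A, _, _, _, e, he, hft⟩ := exists_model G
  have hA : Algebra.FiniteType K A := hft inferInstance
  have h1 := subsingleton_hopf K A d hcd q hq hlat
  exact (Perf.dualHEquiv e q).symm.toEquiv.subsingleton

/-- Perfect fields with `cd ≤ 2` whose cyclotomic extensions have `cd ≤ 1`. -/
theorem subsingleton_H_three [PerfectField K]
    (hK : ∀ p : ℕ, p.Prime → (p : K) ≠ 0 ∧ Dix.CohDimLEAt (Spec (CommRingCat.of K)) p 2 ∧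
      Groth.Agent.Dix.K109.Scd.CycCd K p)
    (G : Over (Spec (CommRingCat.of K))) [GrpObj G] [IsCommMonObj G] [IsAffine G.left] [LocallyOfFiniteType G.hom] :
    Subsingleton (BigSite.H Scheme.fppfPrecoverage (Spec (CommRingCat.of K))
      (CGrpSh2.dualSh Scheme.fppfPrecoverage (CGrpSh.pts Scheme.fppfPrecoverage G)) 3) :=
  subsingleton_H 2 (fun p hp => (hK p hp).2.1) 3 (by norm_num)
    (fun _ hF htf => Groth.Agent.Dix.K109.Scd.subsingleton_H3 K hF htf fun p hp => Or.inr (hK p hp)) G

end dual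

end K810.HThree
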