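import Groth.Prelude.Def_EtBase
import Groth.Agent.Lefpen.H713.TCd
import Groth.Agent.CurvesA.AcycEtale
import Groth.Agent.Sga4h.EtaleRes2
import Groth.Agent.S0626

/-!
# Étale cohomology with uniquely divisible coefficients

* `subsingleton_H_field`: over a field, the positive-degree cohomology of a sheaf on which every `n > 0` is
  invertible vanishes.
* `isAcyc_const_rat`: the constant sheaf `ℚ` on the spectrum of a field has no cohomology on any étale scheme.
* `subsingleton_H_integral`: `H^q(X, ℚ) = 0` for `X` normal integral, `q > 0`.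
-/

set_option autoImplicit false
universe u
open CategoryTheory Category Limits Opposite AlgebraicGeometry CategoryTheory.Abelian
open Groth.Agent.CurvesA.EtFieldObj Groth.Agent.CurvesA.EtFieldDesc Groth.Agent.CurvesA.EtFieldTr
open Groth.Agent.CurvesA Groth.Agent.CurvesA.PushAcyclic

namespace K810.ConstRat

/-- Multiplication by every positive integer is invertible. -/
def UniqDiv {𝒜 : Type*} [Category 𝒜] [Preadditive 𝒜] (F : 𝒜) : Prop := ∀ n : ℕ, 0 < n → IsIso (n • 𝟙 F)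

theorem UniqDiv.map {𝒜 ℬ : Type*} [Category 𝒜] [Preadditive 𝒜] [Category ℬ] [Preadditive ℬ]
    (G : 𝒜 ⥤ ℬ) [G.Additive] {F : 𝒜} (hF : UniqDiv F) : UniqDiv (G.obj F) := by
  intro n hn
  have := hF n hn
  have h : n • 𝟙 (G.obj F) = G.map (n • 𝟙 F) := by
    rw [Functor.map_nsmul, G.map_id]
  rw [h]
  infer_instance

theorem UniqDiv.of_iso {𝒜 : Type*} [Category 𝒜] [Preadditive 𝒜] {F G : 𝒜} (e : F ≅ G)
    (hF : UniqDiv F) : UniqDiv G := by
  intro n hn
  have := hF n hn
  have h : n • 𝟙 G = e.inv ≫ (n • 𝟙 F) ≫ e.hom := by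
    rw [Preadditive.nsmul_comp, Preadditive.comp_nsmul, id_comp, e.inv_hom_id]
  rw [h]
  infer_instance

theorem uniqDiv_rat : UniqDiv (AddCommGrpCat.of (ULift.{u + 1} ℚ)) := by
  intro n hn
  have hn' : (n : ℚ) ≠ 0 := by exact_mod_cast hn.ne'
  let φ : ULift.{u + 1} ℚ →+ ULift.{u + 1} ℚ :=
    { toFun := fun x => ⟨(n : ℚ)⁻¹ * x.down⟩
      map_zero' := by ext; simp
      map_add' := fun x y => by ext; simp [mul_add] }
  have h1 : ∀ x : ULift.{u + 1} ℚ, φ (n • x) = x := by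
    intro x
    ext
    change (n : ℚ)⁻¹ * (n • x).down = x.down
    rw [ULift.smul_down, nsmul_eq_mul]
    field_simp
  have h2 : ∀ x : ULift.{u + 1} ℚ, n • φ x = x := by
    intro x
    ext
    rw [ULift.smul_down, nsmul_eq_mul]
    change (n : ℚ) * ((n : ℚ)⁻¹ * x.down) = x.down
    field_simp
  have h3 : (n • 𝟙 (AddCommGrpCat.of (ULift.{u + 1} ℚ))) =
      AddCommGrpCat.ofHom (nsmulAddMonoidHom n : ULift.{u + 1} ℚ →+ ULift.{u + 1} ℚ) := by
    ext x
    rfl
  rw [h3]
  refine ⟨AddCommGrpCat.ofHom φ, ?_, ?_⟩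
  · ext x
    exact congrArg ULift.down (h1 x)
  · ext x
    exact congrArg ULift.down (h2 x)

theorem uniqDiv_const_rat (X : Scheme.{u}) : UniqDiv (EtCoh.const X ℚ) :=
  uniqDiv_rat.map _

theorem nsmul_ext_injective {𝒜 : Type*} [Category 𝒜] [Abelian 𝒜] [HasExt.{u + 1} 𝒜] {A F : 𝒜}
    (hF : UniqDiv F) {q : ℕ} (x : Ext.{u + 1} A F q) (n : ℕ) (hn : 0 < n) (hx : n • x = 0) : x = 0 := by
  have := hF n hn
  have h2 : ∀ m : ℕ, m • x = x.comp (Ext.mk₀ (m • 𝟙 F)) (add_zero q) := by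
    intro m
    induction m with
    | zero => rw [zero_nsmul, zero_nsmul, Ext.mk₀_zero, Ext.comp_zero]
    | succ m ih =>
      rw [succ_nsmul, ih, succ_nsmul, Ext.mk₀_add, Ext.comp_add, Ext.comp_mk₀_id]
  have h3 : x = (x.comp (Ext.mk₀ (n • 𝟙 F)) (add_zero q)).comp (Ext.mk₀ (inv (n • 𝟙 F))) (add_zero q) := by
    rw [Ext.comp_assoc_of_third_deg_zero, Ext.mk₀_comp_mk₀, IsIso.hom_inv_id, Ext.comp_mk₀_id]
  rw [h3, ← h2, hx, Ext.zero_comp]

variable {K : Type u} [Field K]

/-- Uniquely divisible sheaves on the spectrum of a field have no higher cohomology. -/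
theorem subsingleton_H_field (F : EtCoh.Ab (Spec (CommRingCat.of K))) (hF : UniqDiv F)
    (q : ℕ) (hq : 0 < q) : Subsingleton (EtCoh.H (Spec (CommRingCat.of K)) F q) := by
  obtain ⟨r, rfl⟩ : ∃ r, q = r + 1 := ⟨q - 1, by omega⟩
  apply EtFieldH.subsingleton_H
  intro x
  obtain ⟨S, hS, hx⟩ := SiteZU.exists_sieve_comp_eq_zero x
  obtain ⟨M, _, _, _, _, f, hf⟩ := exists_galois_mem S hS
  obtain ⟨φ, rfl⟩ := exists_etMap_eq f
  have hφ' : φ = Algebra.ofId K M := Subsingleton.elim _ _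
  have hφ : ExtStep.res (Zm (can K K M)) F (r + 1) x = 0 := by
    have := hx _ _ hf
    rw [hφ'] at this
    exact this
  obtain ⟨t, ht⟩ := exists_transfer (K := K) (L := K) (L' := M) (M := M)
  have h1 := ExtStep.nsmul_eq_zero_of_transfer _ t _ ht F _ x hφ
  exact nsmul_ext_injective hF x _ Module.finrank_pos h1

/-- The constant sheaf `ℚ` over a field has no higher cohomology on étale schemes. -/
theorem isAcyc_const_rat (K : Type u) [Field K] : IsAcyc (EtCoh.const (Spec (CommRingCat.of K)) ℚ) := by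
  apply AcycEtale.isAcyc_field
  intro L _ _ _ _ _ _ q hq
  refine subsingleton_H_field _ ?_ q hq
  exact (uniqDiv_const_rat _).of_iso (Groth.Agent.Sga4h.EtaleRes2.constRestr _ ℚ).symm

/-- `H^q(X, ℚ) = 0` for `X` normal integral and `q > 0`. -/
theorem subsingleton_H_integral (X : Scheme.{u}) [IsIntegral X]
    (hN : ∀ x : X, IsIntegrallyClosed (X.presheaf.stalk x)) (q : ℕ) (hq : 1 ≤ q) :
    Subsingleton (EtCoh.H X (EtCoh.const X ℚ) q) := by
  let g := X.fromSpecStalk (genericPoint X)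
  have h1 : IsIso ((EtCoh.pullPushAdj g).unit.app (EtCoh.const X ℚ)) := Groth.Agent.S0626.result X hN ℚ
  let e : EtCoh.const X ℚ ≅ (EtCoh.push g).obj (EtCoh.const _ ℚ) :=
    (@asIso _ _ _ _ _ h1) ≪≫ (EtCoh.push g).mapIso (EtCore.pullConst g ℚ)
  let _ : Field (X.presheaf.stalk (genericPoint X)) := inferInstanceAs (Field X.functionField)
  have h2 : IsAcyc (EtCoh.const (Spec (X.presheaf.stalk (genericPoint X))) ℚ) :=
    isAcyc_const_rat (X.presheaf.stalk (genericPoint X))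
  have h3 : IsAcyc (EtCoh.const X ℚ) := (h2.push g).of_iso e.symm
  exact h3.subsingleton_H q hq

end K810.ConstRat
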