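import Groth.Agent.TateLoc.K810.AbModel
import Groth.Agent.AbVar.K509.Basic
import Groth.Agent.Etcore.FGLim
import Groth.Agent.Etcore.PullbackLim
import Groth.Agent.S6085
import Groth.Agent.Lim.K341.ProperStage
import Mathlib.RingTheory.Localization.AsSubring
import Mathlib.RingTheory.DedekindDomain.Dvr

/-!
# Rational points of proper commutative groups over a global function field

* `exists_model`: a proper group scheme over a field `L` spreads out over a finitely generated subalgebra;
* `exists_dvr`: a finitely generated subalgebra is contained in a discrete valuation ring with finite residue field;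
* `of_proper`.
-/

set_option autoImplicit false
universe u
open CategoryTheory CategoryTheory.Limits MonoidalCategory CartesianMonoidalCategory MonObj GrpObj AlgebraicGeometry
open Groth.Agent Groth.Agent.Etcore.FGLim Groth.Agent.Etcore.PullbackLim Opposite

noncomputable section

namespace K810.AbSpread

open K810.DivGrp K810.DivAff K810.FunUnits

theorem exists_proper_stage {I : Type u} [SmallCategory I] [IsCofiltered I]
    (D : I ⥤ Scheme.{u}) (c : Cone D) (hc : IsLimit c) [i1 : ∀ (i i' : I) (f : i ⟶ i'), IsAffineHom (D.map f)]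
    [∀ i, CompactSpace (D.obj i)] [∀ i, QuasiSeparatedSpace (D.obj i)]
    (B : Over c.pt) [GrpObj B] [IsProper B.hom] [LocallyOfFinitePresentation B.hom] :
    ∃ (j : I) (G : Over (D.obj j)) (_ : GrpObj G) (e : B ≅ Red.bc (c.π.app j) G), IsMonHom e.hom ∧ IsProper G.hom := by
  obtain ⟨j, Gj, _, e, he, _, _, _⟩ := S6085.result D c hc B
  have hpr : IsProper (pullback.snd Gj.hom (c.π.app j)) := by
    have h1 : (pullback.snd Gj.hom (c.π.app j)) = e.inv.left ≫ B.hom := (Over.w e.inv).symm
    have h2 : IsIso e.inv.left := inferInstanceAs (IsIso ((Over.forget _).map e.inv))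
    rw [h1]
    infer_instance
  obtain ⟨j', φ, hφ⟩ := K341.ProperStage.exists_isProper_snd D c hc j Gj.hom (pullback.snd Gj.hom (c.π.app j))
    (pullback.fst _ _) (IsPullback.of_hasPullback _ _)
  have h3 : IsMonHom (K509.Basic.tow (c.w φ) Gj).hom := K509.Basic.isMonHom_tow_hom (c.w φ) Gj
  exact ⟨j', Red.bc (D.map φ) Gj, inferInstance, e ≪≫ K509.Basic.tow (c.w φ) Gj,
    inferInstanceAs (IsMonHom (e.hom ≫ (K509.Basic.tow (c.w φ) Gj).hom)), hφ⟩

theorem exists_model_aux (O L : Type u) [CommRing O] [Field L] [Algebra O L]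
    (B : Over (specCone (fgSys O L) (fgCocone O L)).pt) [GrpObj B]
    [IsProper B.hom] [LocallyOfFinitePresentation B.hom] :
    ∃ (j : (FGSub O L)ᵒᵖ) (G : Over ((specSys (fgSys O L)).obj j)) (_ : GrpObj G)
      (e : B ≅ Red.bc ((specCone (fgSys O L) (fgCocone O L)).π.app j) G), IsMonHom e.hom ∧ IsProper G.hom :=
  exists_proper_stage (specSys (fgSys O L)) (specCone (fgSys O L) (fgCocone O L))
    (isLimitSpecCone _ _ (isColimitFG O L)) (i1 := fun _ _ f => isAffineHom_specSys _ f) B

theorem exists_model (O L : Type u) [CommRing O] [Field L] [Algebra O L] (B : Over (Spec (CommRingCat.of L))) [GrpObj B]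
    [IsProper B.hom] : ∃ (A : Subalgebra O L) (_ : A.FG) (G : Over (Spec (CommRingCat.of A))) (_ : GrpObj G)
      (e : B ≅ Red.bc (Spec.map (CommRingCat.ofHom (algebraMap A L))) G), IsMonHom e.hom ∧ IsProper G.hom := by
  have hfp : LocallyOfFinitePresentation B.hom := inferInstance
  obtain ⟨j, G, iG, e, he, hp⟩ := @exists_model_aux O L _ _ _ B ‹_› ‹_› hfp
  exact ⟨j.unop.1, j.unop.2, G, iG, e, he, hp⟩

theorem exists_dvr {O L : Type u} [CommRing O] [Field L] [Algebra O L] (hb : IsBase O L) [Infinite L]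
    (A : Subalgebra O L) (hA : A.FG) : ∃ R : Subalgebra O L, A ≤ R ∧ ∃ _ : IsDomain R, IsDiscreteValuationRing R ∧
      IsFractionRing R L ∧ ∀ M : Ideal R, M.IsMaximal → Finite (R ⧸ M) := by
  classical
  have := hb.ded
  have := hb.frac
  obtain ⟨t, rfl⟩ := hA
  have hden : ∀ x : L, ∃ s : O, s ≠ 0 ∧ ∃ a : O, x = algebraMap O L a / algebraMap O L s := by
    intro x
    obtain ⟨a, s, hs, rfl⟩ := IsFractionRing.div_surjective (A := O) x
    exact ⟨s, nonZeroDivisors.ne_zero hs, a, rfl⟩
  choose s hs a ha using hden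
  obtain ⟨P, hP, hPf⟩ := hb.jac (∏ x ∈ t, s x) (Finset.prod_ne_zero_iff.2 fun x _ => hs x)
  have hPs : ∀ x ∈ t, s x ∉ P := fun x hx hmem => hPf (Ideal.mem_of_dvd _ (Finset.dvd_prod_of_mem s hx) hmem)
  have hP0 : P ≠ ⊥ := by
    rintro rfl
    have h1 : Finite (O ⧸ (⊥ : Ideal O)) := hb.fin _ hP
    have h2 : Finite O := Finite.of_injective (Ideal.Quotient.mk (⊥ : Ideal O)) (by
      rw [RingHom.injective_iff_ker_eq_bot, Ideal.mk_ker])
    have h3 : Finite L := by
      refine Finite.of_surjective (fun z : O × O => algebraMap O L z.1 / algebraMap O L z.2) fun x => ?_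
      exact ⟨(a x, s x), (ha x).symm⟩
    exact not_finite L
  have hle : P.primeCompl ≤ nonZeroDivisors O := P.primeCompl_le_nonZeroDivisors
  let R : Subalgebra O L := Localization.subalgebra.ofField L P.primeCompl hle
  have hloc : IsLocalization P.primeCompl R := inferInstance
  have hfrac : IsFractionRing R L := inferInstance
  have hdvr : IsDiscreteValuationRing R :=
    IsLocalization.AtPrime.isDiscreteValuationRing_of_dedekind_domain O hP0 R
  refine ⟨R, Algebra.adjoin_le fun x hx => ?_, inferInstance, hdvr, hfrac, fun M hM => ?_⟩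
  · exact ⟨a x, s x, hPs x hx, by rw [← div_eq_mul_inv]; exact ha x⟩
  · have h1 : Finite (O ⧸ P) := hb.fin _ hP
    rw [IsLocalRing.eq_maximalIdeal hM]
    exact Finite.of_equiv _ (IsLocalization.AtPrime.equivQuotMaximalIdeal P R).toEquiv

theorem infinite_of_good {p : ℕ} {L : Type u} [Field L] (h : Good p L) : Infinite L := by
  obtain ⟨-, -, Fq, _, _, _, -⟩ := h
  have h1 : Infinite (RatFunc Fq) :=
    Infinite.of_injective (algebraMap (Polynomial Fq) (RatFunc Fq)) (IsFractionRing.injective _ _)
  exact Infinite.of_injective (algebraMap (RatFunc Fq) L) (algebraMap (RatFunc Fq) L).injective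

theorem of_iso_model {p : ℕ} (hp : p.Prime) {R L : Type u} [Field L] [CharP L p]
    [CommRing R] [IsDomain R] [IsDiscreteValuationRing R] [Finite (R ⧸ IsLocalRing.maximalIdeal R)] [Algebra R L]
    [IsFractionRing R L]
    (B : Over (Spec (CommRingCat.of L))) [GrpObj B] [IsCommMonObj B]
    (hfin : {g : 𝟙_ (Over (Spec (CommRingCat.of L))) ⟶ B | g ^ p = 1}.Finite)
    (G : Over (Spec (CommRingCat.of R))) [GrpObj G] [IsProper G.hom]
    (e : B ≅ Red.bc (Spec.map (CommRingCat.ofHom (algebraMap R L))) G) [he : IsMonHom e.hom] : PG B := by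
  have he2 : IsMonHom e.inv := inferInstance
  have hR : (p : R) = 0 := by
    apply IsFractionRing.injective R L
    rw [map_natCast, map_zero, CharP.cast_eq_zero]
  have hinj : Function.Injective (ptHom e.inv (𝟙_ (Over (Spec (CommRingCat.of L))))) :=
    fun a b hab => (cancel_mono e.inv).1 hab
  have : IsMonHom e.symm.hom := he2
  refine of_iso e.symm (AbModel.of_model (L := L) G (fun a b => hinj ?_) p hp hR ?_)
  · rw [map_mul, map_mul, mul_comm]
  · refine Set.Finite.of_injOn (f := ptHom e.inv (𝟙_ (Over (Spec (CommRingCat.of L))))) (t := _) (fun g hg => ?_)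
      hinj.injOn hfin
    change ptHom e.inv _ g ^ p = 1
    rw [← map_pow, show g ^ p = 1 from hg, map_one]

theorem of_tower {p : ℕ} (hp : p.Prime) {A R L : Type u} [Field L] [CharP L p] [CommRing A]
    [CommRing R] [IsDomain R] [IsDiscreteValuationRing R] [Finite (R ⧸ IsLocalRing.maximalIdeal R)] [Algebra R L]
    [IsFractionRing R L] [Algebra A L]
    (φ : A →+* R) (hφ : (algebraMap R L).comp φ = algebraMap A L)
    (B : Over (Spec (CommRingCat.of L))) [GrpObj B] [IsCommMonObj B]
    (hfin : {g : 𝟙_ (Over (Spec (CommRingCat.of L))) ⟶ B | g ^ p = 1}.Finite)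
    (G : Over (Spec (CommRingCat.of A))) [GrpObj G] [IsProper G.hom]
    (e : B ≅ Red.bc (Spec.map (CommRingCat.ofHom (algebraMap A L))) G) [he : IsMonHom e.hom] : PG B := by
  have hw : Spec.map (CommRingCat.ofHom (algebraMap R L)) ≫ Spec.map (CommRingCat.ofHom φ) =
      Spec.map (CommRingCat.ofHom (algebraMap A L)) := by
    rw [← Spec.map_comp, ← CommRingCat.ofHom_comp, hφ]
  have he' : IsMonHom (e ≪≫ K509.Basic.tow hw G).hom := inferInstanceAs (IsMonHom (e.hom ≫ (K509.Basic.tow hw G).hom))
  exact of_iso_model hp B hfin (Red.bc (Spec.map (CommRingCat.ofHom φ)) G) (e ≪≫ K509.Basic.tow hw G)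

/-- Proper commutative groups with finite `p`-torsion. -/
theorem of_proper {p : ℕ} {L : Type u} [Field L] (hL : Good p L) (B : Over (Spec (CommRingCat.of L))) [GrpObj B]
    [IsCommMonObj B] [IsProper B.hom] (hfin : {g : 𝟙_ (Over (Spec (CommRingCat.of L))) ⟶ B | g ^ p = 1}.Finite) :
    PG B := by
  have := infinite_of_good hL
  have := hL.char
  obtain ⟨O, _, _, hb⟩ := hL.exists_isBase
  obtain ⟨A, hA, G, _, e, he, hG⟩ := exists_model O L B
  obtain ⟨R, hAR, _, hdvr, hfrac, hres⟩ := exists_dvr hb A hA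
  have hfr : Finite (R ⧸ IsLocalRing.maximalIdeal R) := hres _ (IsLocalRing.maximalIdeal.isMaximal R)
  exact of_tower hL.prime (Subalgebra.inclusion hAR).toRingHom rfl B hfin G e

end K810.AbSpread
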