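import Groth.Agent.TateLoc.K810.AbTors
import Groth.Agent.TateLoc.K810.AbSpread
import Groth.Agent.AlgGrp.K399.Quot
import Groth.Agent.Sga3.H830.CommAux
import Groth.Agent.AbVar.K509.Chow
import Groth.Agent.S14581

/-!
# Rational points of commutative groups over a global function field
-/

set_option autoImplicit false
universe u
open CategoryTheory CategoryTheory.Limits MonoidalCategory CartesianMonoidalCategory MonObj GrpObj AlgebraicGeometry
open Groth.Agent

noncomputable section

namespace K810.DivMain

open K810.DivGrp K810.DivAff K810.FunUnits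

variable {k : Type u} [Field k]

theorem map_pow' {S T : Scheme.{u}} (t : T ⟶ S) {X Q : Over S} [GrpObj Q] (g : X ⟶ Q) (n : ℕ) :
    (Over.pullback t).map (g ^ n) = ((Over.pullback t).map g : _ ⟶ Red.bc t Q) ^ n := by
  induction n with
  | zero => rw [pow_zero, pow_zero]; exact Functor.map_one _
  | succ m ih => rw [pow_succ, pow_succ, ← ih]; exact Functor.map_mul _ _ _

theorem finite_torsion (Q : Over (Spec (CommRingCat.of k))) [GrpObj Q] [IsCommMonObj Q] [IsProper Q.hom] (n : ℕ)
    (hn : 1 ≤ n) : {g : 𝟙_ (Over (Spec (CommRingCat.of k))) ⟶ Q | g ^ n = 1}.Finite := by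
  let t : Spec (CommRingCat.of (AlgebraicClosure k)) ⟶ Spec (CommRingCat.of k) :=
    Spec.map (CommRingCat.ofHom (algebraMap k (AlgebraicClosure k)))
  have hcomm : IsCommMonObj (Red.bc t Q) := inferInstance
  have hp : IsProper (Red.bc t Q).hom := K509.Basic.isProper_bc t Q
  have h1 := AbTors.finite_torsion (Red.bc t Q) n hn
  have hne : Nonempty (Spec (CommRingCat.of (AlgebraicClosure k))) :=
    inferInstanceAs (Nonempty (PrimeSpectrum (AlgebraicClosure k)))
  let e : 𝟙_ (Over (Spec (CommRingCat.of (AlgebraicClosure k)))) ≅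
      (Over.pullback t).obj (𝟙_ (Over (Spec (CommRingCat.of k)))) := Functor.Monoidal.εIso (Over.pullback t)
  refine Set.Finite.of_injOn (f := fun g => e.hom ≫ (Over.pullback t).map g) (t := _) (fun g hg => ?_)
    (fun a _ b _ hab => ?_) h1
  · change (e.hom ≫ (Over.pullback t).map g : 𝟙_ _ ⟶ Red.bc t Q) ^ n = 1
    have h2 : ((Over.pullback t).map g : _ ⟶ Red.bc t Q) ^ n = 1 := by
      rw [← map_pow', show g ^ n = 1 from hg]
      exact Functor.map_one _
    rw [← MonObj.comp_pow, h2, MonObj.comp_one]
  · exact K509.Chow.map_injective t _ _ ((cancel_epi e.hom).1 hab)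

/-- Rational points of commutative groups of finite type over a global function field. -/
theorem main {p : ℕ} (hk : Good p k) (G : Over (Spec (CommRingCat.of k))) [GrpObj G] [IsCommMonObj G]
    [LocallyOfFiniteType G.hom] [QuasiCompact G.hom] : PG G := by
  obtain ⟨N, _, i, _, hicl, _, _, _, ⟨Q, _, q, _, _, _, hker, hprop⟩, _⟩ := S14581.result k G
  have hm : Mono i := Over.mono_of_mono_left i
  have hNc : IsCommMonObj N := Sga3.H830.CommAux.isCommMonObj_of_mono i
  have hQc : IsCommMonObj Q := K399.Quot.isCommMonObj_of_quotient q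
  have hNft : LocallyOfFiniteType N.hom := by
    rw [← Over.w i]; infer_instance
  exact of_isKernel i q hker (AbSpread.of_proper hk Q (finite_torsion Q p hk.prime.one_lt.le)) (affine hk N)

end K810.DivMain
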