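import Groth.Agent.TateLoc.K810.DualSec

/-!
# A finite commutative group scheme with infinitesimal Cartier dual is unipotent
-/

set_option autoImplicit false
universe u
open CategoryTheory Category Limits Opposite AlgebraicGeometry MonoidalCategory CartesianMonoidalCategory MonObj
open TensorProduct

noncomputable section

namespace K810.DualUnip

open K810.DualLoc K810.DualSec Groth.Agent.Books.AffBridge Groth.Agent.Books.AffBridge2

local notation "fp" => Scheme.fppfPrecoverage

variable {k : Type u} [Field k]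

theorem algHom_eq {B : Type u} [CommRing B] [HopfAlgebra k B] [Subsingleton (PrimeSpectrum B)] {K : Type u} [Field K]
    [Algebra k K] (f g : B →ₐ[k] K) : f = g := by
  have key : ∀ h : B →ₐ[k] K, ∀ b : B, h b = algebraMap k K (CoalgebraStruct.counit (R := k) b) := by
    intro h b
    have h1 : (RingHom.ker (Bialgebra.counitAlgHom k B)).IsPrime := RingHom.ker_isPrime _
    have h2 : (RingHom.ker h).IsPrime := RingHom.ker_isPrime _
    have h3 : RingHom.ker (Bialgebra.counitAlgHom k B) = RingHom.ker h :=
      congrArg PrimeSpectrum.asIdeal (Subsingleton.elim (⟨_, h1⟩ : PrimeSpectrum B) ⟨_, h2⟩)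
    have h4 : b - algebraMap k B (CoalgebraStruct.counit (R := k) b) ∈ RingHom.ker (Bialgebra.counitAlgHom k B) := by
      rw [RingHom.mem_ker, map_sub, AlgHom.commutes]
      exact sub_self _
    rw [h3, RingHom.mem_ker, map_sub, AlgHom.commutes, sub_eq_zero] at h4
    exact h4
  exact AlgHom.ext fun b => (key f b).trans (key g b).symm

theorem subsingleton_points (D : Over (Spec (CommRingCat.of k))) [GrpObj D] [IsFinite D.hom] [Subsingleton ↥(D.left)]
    (K : Type u) [Field K] [Algebra k K] : Subsingleton (SpecOver k K ⟶ D) := by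
  have h0 : IsAffine D.left := isAffine_of_isAffineHom D.hom
  obtain ⟨B, _, _, e, he⟩ := exists_hopf k D
  have h1 : Subsingleton (PrimeSpectrum B) := by
    have i2 : Subsingleton ((Over.forget (Spec (CommRingCat.of k))).obj D) := inferInstanceAs (Subsingleton D.left)
    exact (Scheme.homeoOfIso ((Over.forget _).mapIso e)).symm.toEquiv.subsingleton
  refine ⟨fun a b => ?_⟩
  have h2 : a ≫ e.hom = b ≫ e.hom := by
    obtain ⟨f, hf⟩ := (specEquiv k).surjective (a ≫ e.hom)
    obtain ⟨g, hg⟩ := (specEquiv k).surjective (b ≫ e.hom)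
    rw [← hf, ← hg, algHom_eq f g]
  exact (cancel_mono e.hom).1 h2

theorem isUnipotent {A : Type u} [CommRing A] [HopfAlgebra k A] [Coalgebra.IsCocomm k A] [Module.Finite k A]
    (D : Over (Spec (CommRingCat.of k))) [GrpObj D] [IsCommMonObj D] [IsFinite D.hom] [Subsingleton ↥(D.left)]
    (e : CGrpSh.pts fp D ≅ CGrpSh2.dualSh fp (CGrpSh.pts fp (SpecOver k A))) : HopfRep.IsUnipotent k A := by
  apply K810.DualLoc.isUnipotent
  intro p hp
  have : IsArtinianRing (DA k A) := IsArtinianRing.of_finite k (DA k A)
  have hmax : p.IsMaximal := inferInstance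
  let _ : Field (DA k A ⧸ p) := Ideal.Quotient.field p
  let f : DA k A →ₐ[k] (DA k A ⧸ p) := Ideal.Quotient.mkₐ k p
  have hs : Subsingleton (SpecOver k (DA k A ⧸ p) ⟶ D) := subsingleton_points D (DA k A ⧸ p)
  have h1 : sec f = 0 := by
    let T : Over (Spec (CommRingCat.of k)) := SpecOver k (DA k A ⧸ p)
    let s : (CGrpSh2.dualSh fp (CGrpSh.pts fp (SpecOver k A))).obj.obj (op T) := sec f
    have h2 : e.hom.hom.app (op T) (e.inv.hom.app (op T) s) = s := by
      have h3 : e.inv ≫ e.hom = 𝟙 _ := e.inv_hom_id
      have h4 := congrArg (fun φ => φ.hom.app (op T)) h3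
      exact ConcreteCategory.congr_hom h4 s
    have h5 : e.inv.hom.app (op T) s = 0 := by
      have h6 : Subsingleton ((CGrpSh.pts fp D).obj.obj (op T)) :=
        inferInstanceAs (Subsingleton (ULift (Additive (T ⟶ D))))
      exact Subsingleton.elim _ _
    rw [h5, map_zero] at h2
    exact h2.symm
  intro δ hδ
  have h2 := eq_aug f h1 δ
  have h3 : δ 1 = 0 := hδ
  rw [h3, map_zero] at h2
  exact Ideal.Quotient.eq_zero_iff_mem.1 h2

end K810.DualUnip
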