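import Mathlib.RingTheory.HopfAlgebra.Basic
import Mathlib.RingTheory.Bialgebra.Equiv
import Mathlib.FieldTheory.Minpoly.Field
import Mathlib.RingTheory.Adjoin.PowerBasis
import Mathlib.LinearAlgebra.Basis.VectorSpace

/-!
# The minimal polynomial of a primitive element is additive
-/

set_option autoImplicit false
universe u v

open Polynomial TensorProduct

namespace K810.AddPoly

variable {k : Type u} [Field k]

/-- A polynomial whose mixed binomial coefficients vanish is additive. -/
theorem aeval_add_of {P : k[X]} (h : ∀ n i, 0 < i → i < n → P.coeff n * (n.choose i : k) = 0) (h0 : P.coeff 0 = 0)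
    {R : Type v} [CommRing R] [Algebra k R] (x y : R) : aeval (x + y) P = aeval x P + aeval y P := by
  rw [aeval_eq_sum_range, aeval_eq_sum_range, aeval_eq_sum_range, ← Finset.sum_add_distrib]
  refine Finset.sum_congr rfl fun n _ => ?_
  rcases Nat.eq_zero_or_pos n with rfl | hn
  · simp [h0]
  rw [add_pow, Finset.smul_sum, Finset.sum_range_succ, ← Nat.sub_add_cancel hn, Finset.sum_range_succ']
  rw [Nat.sub_add_cancel hn]
  have h1 : ∑ i ∈ Finset.range (n - 1), P.coeff n • (x ^ (i + 1) * y ^ (n - (i + 1)) * (n.choose (i + 1) : R)) = 0 := by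
    refine Finset.sum_eq_zero fun i hi => ?_
    have h2 := h n (i + 1) (Nat.succ_pos _) (by have := Finset.mem_range.1 hi; omega)
    have h3 : P.coeff n • (x ^ (i + 1) * y ^ (n - (i + 1)) * (n.choose (i + 1) : R)) =
        (P.coeff n * (n.choose (i + 1) : k)) • (x ^ (i + 1) * y ^ (n - (i + 1))) := by
      rw [Algebra.smul_def, Algebra.smul_def, map_mul, map_natCast]
      ring
    rw [h3, h2, zero_smul]
  rw [h1]
  simp [add_comm]

/-- Coordinate functionals for the powers of an algebraic element. -/
theorem exists_coord {D : Type v} [CommRing D] [Algebra k D] (x : D) (i : ℕ) (hi : i < (minpoly k x).natDegree) :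
    ∃ f : D →ₗ[k] k, ∀ a < (minpoly k x).natDegree, f (x ^ a) = if a = i then 1 else 0 := by
  have hli := linearIndependent_pow (K := k) x
  obtain ⟨g, hg⟩ := LinearMap.exists_extend ((Finsupp.lapply (⟨i, hi⟩ : Fin (minpoly k x).natDegree)).comp hli.repr)
  refine ⟨g, fun a ha => ?_⟩
  have h1 : x ^ a ∈ Submodule.span k (Set.range fun j : Fin (minpoly k x).natDegree => x ^ (j : ℕ)) :=
    Submodule.subset_span ⟨⟨a, ha⟩, rfl⟩
  have h2 := LinearMap.congr_fun hg ⟨x ^ a, h1⟩
  refine Eq.trans h2 ?_
  have h3 : hli.repr ⟨x ^ a, h1⟩ = Finsupp.single ⟨a, ha⟩ 1 := hli.repr_eq_single ⟨a, ha⟩ _ rfl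
  rw [LinearMap.comp_apply, h3, Finsupp.lapply_apply, Finsupp.single_apply]
  simp [Fin.ext_iff]

theorem coeff_zero {D : Type v} [CommRing D] [HopfAlgebra k D] {x : D}
    (hx : CoalgebraStruct.counit (R := k) x = 0) : (minpoly k x).coeff 0 = 0 := by
  have h1 : Bialgebra.counitAlgHom k D (aeval x (minpoly k x)) = 0 := by
    rw [minpoly.aeval, map_zero]
  rw [← aeval_algHom_apply] at h1
  have h2 : Bialgebra.counitAlgHom k D x = 0 := hx
  rw [h2, aeval_def, eval₂_at_zero] at h1
  exact h1

/-- The mixed binomial coefficients of the minimal polynomial of a primitive element vanish. -/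
theorem coeff_mul_choose {D : Type v} [CommRing D] [HopfAlgebra k D] {x : D}
    (hx : CoalgebraStruct.comul (R := k) x = x ⊗ₜ[k] 1 + 1 ⊗ₜ[k] x) (n i : ℕ) (hi : 0 < i) (hin : i < n) :
    (minpoly k x).coeff n * (n.choose i : k) = 0 := by
  by_cases hn : (minpoly k x).natDegree < n
  · rw [coeff_eq_zero_of_natDegree_lt hn, zero_mul]
  obtain ⟨f, hf⟩ := exists_coord (k := k) x i (by omega)
  obtain ⟨g, hg⟩ := exists_coord (k := k) x (n - i) (by omega)
  have h1 : Bialgebra.comulAlgHom k D (aeval x (minpoly k x)) = 0 := by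
    rw [minpoly.aeval, map_zero]
  rw [← aeval_algHom_apply] at h1
  have h2 : Bialgebra.comulAlgHom k D x = x ⊗ₜ[k] 1 + 1 ⊗ₜ[k] x := hx
  rw [h2, aeval_eq_sum_range] at h1
  have h3 := congrArg (LinearMap.mul' k k ∘ₗ TensorProduct.map f g) h1
  rw [map_sum, map_zero] at h3
  have h4 : ∀ m ∈ Finset.range ((minpoly k x).natDegree + 1),
      (LinearMap.mul' k k ∘ₗ TensorProduct.map f g) ((minpoly k x).coeff m • (x ⊗ₜ[k] (1 : D) + 1 ⊗ₜ[k] x) ^ m) =
        if m = n then (minpoly k x).coeff n * (n.choose i : k) else 0 := by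
    intro m hm
    have hm' : m ≤ (minpoly k x).natDegree := by
      have := Finset.mem_range.1 hm
      omega
    rw [add_pow, map_smul, map_sum]
    have h5 : ∀ a ∈ Finset.range (m + 1), (LinearMap.mul' k k ∘ₗ TensorProduct.map f g)
        ((x ⊗ₜ[k] (1 : D)) ^ a * ((1 : D) ⊗ₜ[k] x) ^ (m - a) * ((m.choose a : ℕ) : D ⊗[k] D)) =
          (if a = i ∧ m - a = n - i then (m.choose a : k) else 0) := by
      intro a ha
      have ha' : a ≤ m := by
        have := Finset.mem_range.1 ha
        omega
      have h6 : (x ⊗ₜ[k] (1 : D)) ^ a * ((1 : D) ⊗ₜ[k] x) ^ (m - a) * ((m.choose a : ℕ) : D ⊗[k] D) =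
          (m.choose a : k) • ((x ^ a) ⊗ₜ[k] (x ^ (m - a))) := by
        rw [Algebra.TensorProduct.tmul_pow, Algebra.TensorProduct.tmul_pow, one_pow, one_pow,
          Algebra.TensorProduct.tmul_mul_tmul, mul_one, one_mul, Algebra.smul_def, map_natCast, mul_comm]
      rw [h6, map_smul, LinearMap.comp_apply, TensorProduct.map_tmul, LinearMap.mul'_apply]
      have hfa : f (x ^ a) * g (x ^ (m - a)) = if a = i ∧ m - a = n - i then 1 else 0 := by
        rcases Nat.eq_zero_or_pos a with rfl | ha0
        · have : f (x ^ 0) = 0 := by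
            rw [hf 0 (by omega), if_neg (by omega)]
          rw [this, zero_mul, if_neg (by omega)]
        rcases Nat.eq_or_lt_of_le ha' with rfl | ham
        · have : g (x ^ (a - a)) = 0 := by
            rw [Nat.sub_self, hg 0 (by omega), if_neg (by omega)]
          rw [this, mul_zero, if_neg (by omega)]
        rw [hf a (by omega), hg (m - a) (by omega)]
        by_cases h7 : a = i <;> by_cases h8 : m - a = n - i <;> simp [h7, h8]
      rw [hfa]
      split_ifs <;> simp
    rw [Finset.sum_congr rfl h5]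
    by_cases hmn : m = n
    · subst hmn
      rw [if_pos rfl, Finset.sum_eq_single i]
      · simp
      · intro b _ hb
        rw [if_neg (by tauto)]
      · intro hb
        exact absurd (Finset.mem_range.2 (by omega)) hb
    · rw [if_neg hmn]
      have : ∑ a ∈ Finset.range (m + 1), (if a = i ∧ m - a = n - i then (m.choose a : k) else 0) = 0 := by
        refine Finset.sum_eq_zero fun a ha => ?_
        have := Finset.mem_range.1 ha
        rw [if_neg (by omega)]
      rw [this, smul_zero]
  rw [Finset.sum_congr rfl h4, Finset.sum_ite_eq' ] at h3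
  rwa [if_pos (Finset.mem_range.2 (by omega))] at h3

end K810.AddPoly
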