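import Groth.Agent.TateLoc.K620.Devissage
import Groth.Agent.TateLoc.K810.AddPoly
import Groth.Agent.TateLoc.K809.Les
import Groth.Agent.GaDual.K771.FppfGa

/-!
# Higher cohomology of unipotent groups over a field

* `H_primitive`: `H^i(k, H) = 0`, `i ≥ 2`, for a finite closed subgroup `H` of `𝔾_a`.
* `H_of_filtered`: `H^i(k, Spec A) = 0`, `i ≥ 2`, if every nontrivial Hopf quotient of `A` has a primitive element.
* `H_unipotent`: the case of a unipotent group.
-/

set_option autoImplicit false
universe u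
open CategoryTheory CategoryTheory.Limits MonoidalCategory CartesianMonoidalCategory MonObj GrpObj AlgebraicGeometry
open TensorProduct
open Groth.Agent.Books Groth.Agent.Books.AffBridge Groth.Agent.Books.AffBridge2
open K620.HopfSeq K620.HopfPow K620.HopfGa K620.Devissage

noncomputable section

namespace K810.GaKer

variable {k : Type u} [Field k]

section Model

variable {E : Type u} [CommRing E] [HopfAlgebra k E] {t : E}
  (ht : CoalgebraStruct.comul (R := k) t = t ⊗ₜ[k] 1 + 1 ⊗ₜ[k] t)
  (hu : ∀ (R : Type u) [CommRing R] [Algebra k R], Function.Bijective (fun f : E →ₐ[k] R => f t))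

include hu in
theorem bij_aeval : Function.Bijective (Polynomial.aeval t : Polynomial k →ₐ[k] E) := by
  obtain ⟨ψ, hψ⟩ := (hu (Polynomial k)).surjective Polynomial.X
  have hψ' : ψ t = Polynomial.X := hψ
  have h1 : (Polynomial.aeval t : Polynomial k →ₐ[k] E).comp ψ = AlgHom.id k E := (hu E).injective (by
    change Polynomial.aeval t (ψ t) = t
    rw [hψ', Polynomial.aeval_X])
  have h2 : ψ.comp (Polynomial.aeval t : Polynomial k →ₐ[k] E) = AlgHom.id k (Polynomial k) := by
    apply Polynomial.algHom_ext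
    change ψ (Polynomial.aeval t Polynomial.X) = Polynomial.X
    rw [Polynomial.aeval_X, hψ']
  exact Function.bijective_iff_has_inverse.2 ⟨ψ, fun x => DFunLike.congr_fun h2 x, fun x => DFunLike.congr_fun h1 x⟩

variable {C : Type u} [CommRing C] [HopfAlgebra k C] (y : C)

include ht hu in
theorem exists_hom (hy : CoalgebraStruct.comul (R := k) y = y ⊗ₜ[k] 1 + 1 ⊗ₜ[k] y) :
    ∃ f : E →ₐc[k] C, f t = y := by
  obtain ⟨f, hf⟩ := (hu C).surjective y
  have hf' : f t = y := hf
  refine ⟨BialgHom.ofAlgHom f ?_ ?_, hf⟩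
  · apply (hu k).injective
    change Bialgebra.counitAlgHom k C (f t) = Bialgebra.counitAlgHom k E t
    rw [hf']
    exact (counit_of_primitive hy).trans (counit_of_primitive ht).symm
  · apply (hu (C ⊗[k] C)).injective
    change Algebra.TensorProduct.map f f (CoalgebraStruct.comul (R := k) t) = CoalgebraStruct.comul (R := k) (f t)
    rw [hf', hy, ht, map_add, Algebra.TensorProduct.map_tmul, Algebra.TensorProduct.map_tmul, hf', map_one]

include ht hu in
theorem ker_counit : RingHom.ker (Bialgebra.counitAlgHom k E) = Ideal.span {t} := by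
  apply le_antisymm
  · intro e he
    obtain ⟨q, rfl⟩ := (bij_aeval hu).2 e
    have h1 : Bialgebra.counitAlgHom k E (Polynomial.aeval t q) = 0 := he
    rw [← Polynomial.aeval_algHom_apply] at h1
    have h2 : Bialgebra.counitAlgHom k E t = 0 := counit_of_primitive ht
    rw [h2, Polynomial.aeval_def, Polynomial.eval₂_at_zero] at h1
    obtain ⟨r, rfl⟩ := Polynomial.X_dvd_iff.2 (show q.coeff 0 = 0 from h1)
    rw [map_mul, Polynomial.aeval_X]
    exact Ideal.mul_mem_right _ _ (Ideal.mem_span_singleton_self t)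
  · rw [Ideal.span_singleton_le_iff_mem]
    exact counit_of_primitive ht

end Model

variable (k)

/-- The property `H^i(k, G) = 0` for `i ≥ 2`. -/
def PH (G : Over (Spec (CommRingCat.of k))) [GrpObj G] [IsCommMonObj G] : Prop :=
  ∀ i : ℕ, 2 ≤ i → Subsingleton (BigSite.H Scheme.fppfPrecoverage (Spec (CommRingCat.of k))
    (CGrpSh.pts Scheme.fppfPrecoverage G) i)

/-- isomorphic group schemes have isomorphic sheaves -/
def ptsIso {S : Scheme.{u}} {G H : Over S} [GrpObj G] [IsCommMonObj G] [GrpObj H] [IsCommMonObj H] (e : G ≅ H)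
    [IsMonHom e.hom] : CGrpSh.pts Scheme.fppfPrecoverage G ≅ CGrpSh.pts Scheme.fppfPrecoverage H where
  hom := CGrpSh.ptsMap Scheme.fppfPrecoverage e.hom
  inv := CGrpSh.ptsMap Scheme.fppfPrecoverage e.inv
  hom_inv_id := by
    refine Sheaf.hom_ext (NatTrans.ext (funext fun T => AddCommGrpCat.ext fun x => ULift.ext _ _ ?_))
    change Additive.ofMul ((x.down.toMul ≫ e.hom) ≫ e.inv) = x.down
    rw [Category.assoc, e.hom_inv_id, Category.comp_id]
    rfl
  inv_hom_id := by
    refine Sheaf.hom_ext (NatTrans.ext (funext fun T => AddCommGrpCat.ext fun x => ULift.ext _ _ ?_))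
    change Additive.ofMul ((x.down.toMul ≫ e.inv) ≫ e.hom) = x.down
    rw [Category.assoc, e.inv_hom_id, Category.comp_id]
    rfl

theorem isoClosed : IsoClosed (PH k) := by
  intro G H _ _ _ _ e _ h i hi
  have := h i hi
  exact (K809.Les.mpEquiv _ (ptsIso e) i).symm.toEquiv.subsingleton

theorem extClosed : ExtClosed (PH k) := by
  intro G₁ G₂ G₃ _ _ _ _ _ _ _ _ _ _ _ _ f g _ _ w hS h₁ h₃ i hi
  exact K809.Les.subsingleton_mid _ hS (h₁ i hi) (h₃ i hi)

theorem ga_pos (i : ℕ) (hi : 0 < i) : Subsingleton (BigSite.H Scheme.fppfPrecoverage (Spec (CommRingCat.of k))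
    (CGrpSh.pts Scheme.fppfPrecoverage (Red.Ga (Spec (CommRingCat.of k)))) i) :=
  K771.FppfGa.subsingleton (Spec (CommRingCat.of k)) i hi

/-- `H^i(k, Spec D) = 0`, `i ≥ 2`, for a Hopf algebra `D` generated by a primitive element. -/
theorem primitive (D : Type u) [CommRing D] [HopfAlgebra k D] [Coalgebra.IsCocomm k D] (x : D)
    (hx : CoalgebraStruct.comul (R := k) x = x ⊗ₜ[k] 1 + 1 ⊗ₜ[k] x) (hD : Algebra.adjoin k {x} = ⊤) :
    PH k (SpecOver k D) := by
  have hGa : IsCommMonObj (Red.Ga (Spec (CommRingCat.of k))) := inferInstance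
  have hsurj : Function.Surjective (Polynomial.aeval x : Polynomial k →ₐ[k] D) := by
    rw [← AlgHom.range_eq_top, ← Algebra.adjoin_singleton_eq_range_aeval, hD]
  by_cases hinj : Function.Injective (Polynomial.aeval x : Polynomial k →ₐ[k] D)
  · obtain ⟨e, he⟩ := exists_ga_iso k x hx ⟨hinj, hsurj⟩
    exact isoClosed k _ _ e fun i hi => ga_pos k i (by omega)
  obtain ⟨E, _, _, e, he, t, ht, hu⟩ := exists_ga_model k
  have hcE : IsCommMonObj (SpecOver k E) := isCommMonObj_of_iso e
  have hcc : Coalgebra.IsCocomm k E := isCocomm_of_isCommMonObj E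
  have hbij := bij_aeval (k := k) hu
  have hft : Algebra.FiniteType k E := Algebra.FiniteType.of_surjective (Polynomial.aeval t) hbij.2
  have hE : ∀ i : ℕ, 0 < i → Subsingleton (BigSite.H Scheme.fppfPrecoverage (Spec (CommRingCat.of k))
      (CGrpSh.pts Scheme.fppfPrecoverage (SpecOver k E)) i) := fun i hi => by
    have := ga_pos k i hi
    exact (K809.Les.mpEquiv _ (ptsIso e) i).symm.toEquiv.subsingleton
  have halg : IsIntegral k x := by
    rw [injective_iff_map_eq_zero] at hinj
    push Not at hinj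
    obtain ⟨p, hp, hp0⟩ := hinj
    exact (show IsAlgebraic k x from ⟨p, hp0, hp⟩).isIntegral
  obtain ⟨π, hπ⟩ := exists_hom ht hu x hx
  have hπa : ∀ q : Polynomial k, π (Polynomial.aeval t q) = Polynomial.aeval x q := fun q => by
    have := Polynomial.aeval_algHom_apply (π : E →ₐ[k] D) t q
    refine this.symm.trans ?_
    congr 1
    exact congrArg _ hπ
  have hπs : Function.Surjective π := fun d => by
    obtain ⟨q, rfl⟩ := hsurj d
    exact ⟨_, hπa q⟩
  have hy : CoalgebraStruct.comul (R := k) (Polynomial.aeval t (minpoly k x)) =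
      Polynomial.aeval t (minpoly k x) ⊗ₜ[k] 1 + 1 ⊗ₜ[k] Polynomial.aeval t (minpoly k x) := by
    have h1 : Bialgebra.comulAlgHom k E (Polynomial.aeval t (minpoly k x)) =
        Polynomial.aeval (t ⊗ₜ[k] 1 + 1 ⊗ₜ[k] t) (minpoly k x) := by
      rw [← Polynomial.aeval_algHom_apply]
      exact congrArg (fun z => Polynomial.aeval z (minpoly k x)) ht
    refine h1.trans ?_
    rw [AddPoly.aeval_add_of (fun n i hi hin => AddPoly.coeff_mul_choose hx n i hi hin)
      (AddPoly.coeff_zero (counit_of_primitive hx))]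
    have h2 := Polynomial.aeval_algHom_apply (Algebra.TensorProduct.includeLeft : E →ₐ[k] E ⊗[k] E) t (minpoly k x)
    have h3 := Polynomial.aeval_algHom_apply (Algebra.TensorProduct.includeRight : E →ₐ[k] E ⊗[k] E) t (minpoly k x)
    exact congrArg₂ (· + ·) h2 h3
  obtain ⟨φ, hφ⟩ := exists_hom ht hu _ hy
  have hφa : ∀ q : Polynomial k, φ (Polynomial.aeval t q) = Polynomial.aeval t (q.comp (minpoly k x)) := fun q => by
    have := Polynomial.aeval_algHom_apply (φ : E →ₐ[k] E) t q
    refine this.symm.trans ?_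
    rw [Polynomial.aeval_comp]
    congr 1
    exact congrArg _ hφ
  have hφi : Function.Injective φ := by
    rw [injective_iff_map_eq_zero]
    intro a ha
    obtain ⟨q, rfl⟩ := hbij.2 a
    rw [hφa] at ha
    have h1 : q.comp (minpoly k x) = 0 := (map_eq_zero_iff _ hbij.1).1 ha
    rcases Polynomial.comp_eq_zero_iff.1 h1 with h2 | ⟨-, h2⟩
    · rw [h2, map_zero]
    · have hnt : Nontrivial D := (Bialgebra.counitAlgHom k D).toRingHom.domain_nontrivial
      have h3 := minpoly.natDegree_pos halg
      rw [h2, Polynomial.natDegree_C] at h3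
      exact absurd h3 (lt_irrefl 0)
  have hJ' : (RingHom.ker π).IsHopfIdeal k := isHopfIdeal_ker π
  have hJ : RingHom.ker π = Ideal.map (φ : E →ₐ[k] E) (RingHom.ker (Bialgebra.counitAlgHom k E)) := by
    rw [ker_counit ht hu, Ideal.map_span, Set.image_singleton]
    apply le_antisymm
    · intro a ha
      obtain ⟨q, rfl⟩ := hbij.2 a
      rw [RingHom.mem_ker, hπa] at ha
      obtain ⟨r, hr⟩ := minpoly.dvd k x ha
      rw [hr, map_mul]
      refine Ideal.mul_mem_right _ _ ?_
      have h4 : (φ : E →ₐ[k] E) t = Polynomial.aeval t (minpoly k x) := hφ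
      rw [h4]
      exact Ideal.mem_span_singleton_self _
    · rw [Ideal.span_singleton_le_iff_mem]
      have h4 : (φ : E →ₐ[k] E) t = Polynomial.aeval t (minpoly k x) := hφ
      rw [h4, RingHom.mem_ker, hπa, minpoly.aeval]
  have i1 : IsMonHom (specMap k (Ideal.Quotient.mkₐ k (RingHom.ker π))) :=
    isMonHom_specMap k (Bialgebra.Quotient.mkBialgHom (R := k) (RingHom.ker π))
  have i2 : IsMonHom (specMap k (φ : E →ₐ[k] E)) := isMonHom_specMap k φ
  have w : specMap k (Ideal.Quotient.mkₐ k (RingHom.ker π)) ≫ specMap k (φ : E →ₐ[k] E) = 1 :=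
    isKernel_w (isKernel_specMap k (φ : E →ₐ[k] E) (RingHom.ker π) hJ)
  have hS := shortExact_spec φ hφi (RingHom.ker π) hJ w
  have hQ : PH k (SpecOver k (E ⧸ RingHom.ker π)) := fun i hi => by
    obtain ⟨j, rfl⟩ : ∃ j, i = j + 1 := ⟨i - 1, by omega⟩
    exact K809.Les.subsingleton_left _ hS (hE j (by omega)) (hE (j + 1) (by omega))
  exact isoClosed k _ _ (specIso k (quotKerEquiv π hπs (RingHom.ker π) rfl)) hQ

section prim

variable {k}
variable {P : ∀ (G : Over (Spec (CommRingCat.of k))) [GrpObj G] [IsCommMonObj G], Prop}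

/-- Splitting off the group generated by a primitive element (`K620.Devissage.step` with a weaker hypothesis). -/
theorem step' (ext : ExtClosed P)
    (prim : ∀ (D : Type u) [CommRing D] [HopfAlgebra k D] [Coalgebra.IsCocomm k D] (x : D),
      CoalgebraStruct.comul (R := k) x = x ⊗ₜ[k] 1 + 1 ⊗ₜ[k] x → Algebra.adjoin k {x} = ⊤ → P (SpecOver k D))
    (C : Type u) [CommRing C] [HopfAlgebra k C] [Coalgebra.IsCocomm k C] [Algebra.FiniteType k C] (x : C)
    (hx : CoalgebraStruct.comul (R := k) x = x ⊗ₜ[k] 1 + 1 ⊗ₜ[k] x)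
    (h : ∀ (J : Ideal C) [J.IsHopfIdeal k], x ∈ J → P (SpecOver k (C ⧸ J))) : P (SpecOver k C) := by
  have hS := isSubHopf_primitive hx
  have hmem : x ∈ Algebra.adjoin k {x} := Algebra.subset_adjoin rfl
  let _ := hS.hopf
  have hcc : Coalgebra.IsCocomm k (Algebra.adjoin k {x}) := isCocomm_of_injective hS.val hS.val_injective
  have hJ := isHopfIdeal_map hS.val
  refine of_injective ext hS.val hS.val_injective _ rfl (h _ ?_) ?_
  · have h4 : (⟨x, hmem⟩ : Algebra.adjoin k {x}) ∈ RingHom.ker (Bialgebra.counitAlgHom k (Algebra.adjoin k {x})) :=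
      counit_of_primitive hx
    exact Ideal.mem_map_of_mem (hS.val : Algebra.adjoin k {x} →ₐ[k] C) h4
  · refine prim _ (⟨x, hmem⟩ : Algebra.adjoin k {x}) ?_ ?_
    · apply SubHopf.incl2_injective (k := k) (Algebra.adjoin k {x})
      have h5 : SubHopf.incl2 (Algebra.adjoin k {x}) (CoalgebraStruct.comul (R := k) (⟨x, hmem⟩ : Algebra.adjoin k {x})) =
          CoalgebraStruct.comul (R := k) x := hS.incl2_comulSub ⟨x, hmem⟩
      rw [h5, hx, map_add]
      rfl
    · rw [eq_top_iff]
      rintro ⟨y, hy⟩ -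
      induction hy using Algebra.adjoin_induction with
      | mem z hz =>
        have : z = x := hz
        subst this
        exact Algebra.subset_adjoin rfl
      | algebraMap r => exact Subalgebra.algebraMap_mem _ r
      | add a b ha hb h1 h2 => exact Subalgebra.add_mem _ h1 h2
      | mul a b ha hb h1 h2 => exact Subalgebra.mul_mem _ h1 h2

/-- Unipotent groups: a property stable under extensions which holds for the groups with a primitive coordinate. -/
theorem of_unip' (iso : IsoClosed P) (ext : ExtClosed P)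
    (prim : ∀ (D : Type u) [CommRing D] [HopfAlgebra k D] [Coalgebra.IsCocomm k D] (x : D),
      CoalgebraStruct.comul (R := k) x = x ⊗ₜ[k] 1 + 1 ⊗ₜ[k] x → Algebra.adjoin k {x} = ⊤ → P (SpecOver k D))
    (A : Type u) [CommRing A] [HopfAlgebra k A] [Coalgebra.IsCocomm k A] [Algebra.FiniteType k A]
    (hU : HopfRep.IsUnipotent k A) (I : Ideal A) (hI : I.IsHopfIdeal k) : P (SpecOver k (A ⧸ I)) := by
  have hN : IsNoetherianRing A := Algebra.FiniteType.isNoetherianRing k A
  induction I using WellFoundedGT.induction with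
  | _ I ih =>
  by_cases h0 : I = RingHom.ker (Bialgebra.counitAlgHom k A)
  · refine prim (A ⧸ I) 0 ?_ ?_
    · rw [map_zero, TensorProduct.zero_tmul, TensorProduct.tmul_zero, add_zero]
    · rw [eq_top_iff]
      rintro y -
      obtain ⟨a, rfl⟩ := Ideal.Quotient.mk_surjective y
      have h2 : a - algebraMap k A (CoalgebraStruct.counit a) ∈ I := by
        rw [h0, RingHom.mem_ker, map_sub, AlgHom.commutes]
        simp
      have h3 := (Ideal.Quotient.eq).2 h2
      rw [h3]
      exact Subalgebra.algebraMap_mem _ (CoalgebraStruct.counit (R := k) a)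
  obtain ⟨x, hx0, hx⟩ := (Groth.Agent.S3264.result k A).1 hU I h0
  refine step' ext prim (A ⧸ I) x hx fun J hJ hxJ => ?_
  let π : A →ₐc[k] (A ⧸ I) ⧸ J :=
    (Bialgebra.Quotient.mkBialgHom (R := k) J).comp (Bialgebra.Quotient.mkBialgHom (R := k) I)
  have hπ : Function.Surjective π := Ideal.Quotient.mk_surjective.comp Ideal.Quotient.mk_surjective
  have hK : (RingHom.ker π).IsHopfIdeal k := isHopfIdeal_ker π
  have hlt : I < RingHom.ker π := by
    refine lt_of_le_of_ne (fun a ha => ?_) (fun heq => ?_)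
    · change Ideal.Quotient.mk J (Ideal.Quotient.mk I a) = 0
      rw [Ideal.Quotient.eq_zero_iff_mem.2 ha, map_zero]
    · obtain ⟨a, rfl⟩ := Ideal.Quotient.mk_surjective x
      apply hx0
      rw [Ideal.Quotient.eq_zero_iff_mem, heq]
      change Ideal.Quotient.mk J (Ideal.Quotient.mk I a) = 0
      rw [Ideal.Quotient.eq_zero_iff_mem]
      exact hxJ
  exact of_equiv iso (quotKerEquiv π hπ (RingHom.ker π) rfl) (ih _ hlt hK)

end prim

/-- **Vanishing**: `H^i_fppf(k, Spec A) = 0`, `i ≥ 2`, for a commutative unipotent group of finite type over a field. -/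
theorem unipotent (A : Type u) [CommRing A] [HopfAlgebra k A] [Coalgebra.IsCocomm k A] [Algebra.FiniteType k A]
    (hU : HopfRep.IsUnipotent k A) : PH k (SpecOver k A) := by
  have hK : (RingHom.ker (BialgHom.id k A)).IsHopfIdeal k := isHopfIdeal_ker (BialgHom.id k A)
  exact of_equiv (isoClosed k) (quotKerEquiv (BialgHom.id k A) Function.surjective_id _ rfl)
    (of_unip' (isoClosed k) (extClosed k) (fun D _ _ _ x hx hD => primitive k D x hx hD) A hU _ hK)

end K810.GaKer
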