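import Groth.Agent.TateLoc.K810.CtbGrp
import Mathlib.NumberTheory.FunctionField
import Mathlib.NumberTheory.NumberField.Basic
import Mathlib.RingTheory.Algebraic.Cardinality
import Mathlib.Data.Rat.Denumerable

/-!
# Countability of the cohomology of affine group schemes and their duals over countable fields
-/

set_option autoImplicit false
universe u v

open CategoryTheory AlgebraicGeometry

noncomputable section

namespace K810.CtbFppf

theorem countable_of_algebraic (R : Type v) (L : Type u) [CommRing R] [Field L] [Algebra R L] [IsDomain R]
    [Module.IsTorsionFree R L] [Algebra.IsAlgebraic R L] [Countable R] : Countable L := by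
  rw [← Cardinal.mk_le_aleph0_iff]
  have h1 := Algebra.IsAlgebraic.lift_cardinalMk_le_max R L
  have h2 : Cardinal.mk R ≤ Cardinal.aleph0 := Cardinal.mk_le_aleph0_iff.2 inferInstance
  rw [← Cardinal.lift_le_aleph0.{u, v}]
  refine h1.trans (max_le ?_ le_rfl)
  exact Cardinal.lift_le_aleph0.2 h2

theorem countable_numberField (k : Type u) [Field k] [NumberField k] : Countable k :=
  countable_of_algebraic ℚ k

theorem countable_polynomial (R : Type u) [CommRing R] [Countable R] : Countable (Polynomial R) := by
  rw [← Cardinal.mk_le_aleph0_iff]
  refine (Polynomial.cardinalMk_le_max (R := R)).trans (max_le ?_ le_rfl)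
  exact Cardinal.mk_le_aleph0_iff.2 inferInstance

theorem countable_ratFunc (F : Type u) [Field F] [Countable F] : Countable (RatFunc F) := by
  have := countable_polynomial F
  refine Function.Injective.countable (f := fun x : RatFunc F => (x.num, x.denom)) ?_
  intro x y h
  rw [← RatFunc.num_div_denom x, ← RatFunc.num_div_denom y]
  have h1 : x.num = y.num := congrArg Prod.fst h
  have h2 : x.denom = y.denom := congrArg Prod.snd h
  rw [h1, h2]

theorem countable_functionField (F : Type u) [Field F] [Finite F] (k : Type u) [Field k] [Algebra (RatFunc F) k]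
    [FunctionField F k] : Countable k := by
  have := countable_ratFunc F
  have : FiniteDimensional (RatFunc F) k := ‹FunctionField F k›
  exact countable_of_algebraic (RatFunc F) k

variable (k : Type u) [Field k] [Countable k]

theorem countable_gammaSpec : Countable Γ(Spec (CommRingCat.of k), ⊤) :=
  Function.Injective.countable (f := fun x => (Scheme.ΓSpecIso (CommRingCat.of k)).hom x)
    (Scheme.ΓSpecIso (CommRingCat.of k)).commRingCatIsoToRingEquiv.injective

omit [Countable k] in
theorem isNoetherianRing_gammaSpec : IsNoetherianRing Γ(Spec (CommRingCat.of k), ⊤) :=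
  isNoetherianRing_of_ringEquiv k (Scheme.ΓSpecIso (CommRingCat.of k)).commRingCatIsoToRingEquiv.symm

theorem countable_H_pts_field (G : Over (Spec (CommRingCat.of k))) [GrpObj G] [IsCommMonObj G] [IsAffine G.left]
    [LocallyOfFiniteType G.hom] (n : ℕ) :
    Countable (BigSite.H Scheme.fppfPrecoverage (Spec (CommRingCat.of k)) (CGrpSh.pts Scheme.fppfPrecoverage G) n) := by
  have := countable_gammaSpec k
  have := isNoetherianRing_gammaSpec k
  exact countable_H_pts G n

theorem countable_H_dual_field (G : Over (Spec (CommRingCat.of k))) [GrpObj G] [IsCommMonObj G] [IsAffine G.left]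
    [LocallyOfFiniteType G.hom] (n : ℕ) :
    Countable (BigSite.H Scheme.fppfPrecoverage (Spec (CommRingCat.of k))
      (CGrpSh2.dualSh Scheme.fppfPrecoverage (CGrpSh.pts Scheme.fppfPrecoverage G)) n) := by
  have := countable_gammaSpec k
  have := isNoetherianRing_gammaSpec k
  exact countable_H_dual G n

end K810.CtbFppf
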