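import Groth.Agent.TateLoc.K810.ConstRat
import Groth.Agent.TateLoc.K809.Les
import Groth.Agent.Lefpen.H719.H0Const
import Groth.Agent.S0748
import Groth.Agent.Etrest.FppfExact
import Groth.Agent.S0779
import Groth.Prelude.Def_BigSite
import Groth.Prelude.Def_EtDlF

/-!
# `H^1(X, ℤ) = 0` for a normal integral scheme, in the étale and in the fppf topology
-/

set_option autoImplicit false
universe u
open CategoryTheory CategoryTheory.Limits AlgebraicGeometry Opposite Abelian

noncomputable section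

namespace K810.IntH1

open K809.Les Groth.Agent

/-- lift of a homomorphism to the next universe -/
def ul {A B : Type} [AddCommGroup A] [AddCommGroup B] (f : A →+ B) :
    AddCommGrpCat.of (ULift.{u + 1} A) ⟶ AddCommGrpCat.of (ULift.{u + 1} B) :=
  AddCommGrpCat.ofHom (AddMonoidHom.mk' (fun x : ULift.{u + 1} A => (ULift.up (f x.down) : ULift.{u + 1} B))
    (fun x y => ULift.down_injective (map_add f x.down y.down)))

/-- `ℚ/ℤ` -/
abbrev QZ : Type := ℚ ⧸ (Int.castAddHom ℚ).range

/-- `0 → ℤ → ℚ → ℚ/ℤ → 0`. -/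
def seqZ : ShortComplex AddCommGrpCat.{u + 1} :=
  ShortComplex.mk (ul.{u} (Int.castAddHom ℚ)) (ul.{u} (QuotientAddGroup.mk' (Int.castAddHom ℚ).range))
    (by
      refine AddCommGrpCat.ext fun (x : ULift.{u + 1} ℤ) => ?_
      refine congrArg ULift.up ?_
      change (QuotientAddGroup.mk ((x.down : ℤ) : ℚ) : QZ) = 0
      exact (QuotientAddGroup.eq_zero_iff _).2 ⟨x.down, rfl⟩)

theorem shortExact_seqZ : seqZ.{u}.ShortExact where
  exact := by
    rw [ShortComplex.ab_exact_iff]
    intro (x : ULift.{u + 1} ℚ) hx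
    have hx' : (QuotientAddGroup.mk x.down : QZ) = 0 := congrArg ULift.down hx
    obtain ⟨n, hn⟩ := (QuotientAddGroup.eq_zero_iff _).1 hx'
    exact ⟨(ULift.up n : ULift.{u + 1} ℤ), congrArg ULift.up hn⟩
  mono_f := by
    rw [AddCommGrpCat.mono_iff_injective]
    intro (x : ULift.{u + 1} ℤ) (y : ULift.{u + 1} ℤ) h
    exact ULift.down_injective (Int.cast_injective (α := ℚ) (congrArg ULift.down h))
  epi_g := by
    rw [AddCommGrpCat.epi_iff_surjective]
    intro (x : ULift.{u + 1} QZ)
    obtain ⟨q, hq⟩ := QuotientAddGroup.mk'_surjective _ x.down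
    exact ⟨(ULift.up q : ULift.{u + 1} ℚ), congrArg ULift.up hq⟩

theorem preservesFiniteLimits_constantSheaf (X : Scheme.{u}) :
    PreservesFiniteLimits (constantSheaf X.smallEtaleTopology AddCommGrpCat.{u + 1}) := by
  delta constantSheaf
  infer_instance

theorem preservesFiniteColimits_constantSheaf (X : Scheme.{u}) :
    PreservesFiniteColimits (constantSheaf X.smallEtaleTopology AddCommGrpCat.{u + 1}) := by
  have : PreservesColimitsOfSize.{0, 0} (constantSheaf X.smallEtaleTopology AddCommGrpCat.{u + 1}) :=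
    (EtCore.constAdj X).leftAdjoint_preservesColimits
  exact PreservesColimitsOfSize.preservesFiniteColimits _

theorem additive_constantSheaf (X : Scheme.{u}) :
    (constantSheaf X.smallEtaleTopology AddCommGrpCat.{u + 1}).Additive := by
  have := preservesFiniteLimits_constantSheaf X
  exact Functor.additive_of_preserves_binary_products _

/-- `H^1_et(X, ℤ) = 0` for a normal integral scheme. -/
theorem subsingleton_H1_int (X : Scheme.{u}) [IsIntegral X]
    (hN : ∀ x : X, IsIntegrallyClosed (X.presheaf.stalk x)) :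
    Subsingleton (EtCoh.H X (EtCoh.const X ℤ) 1) := by
  have := preservesFiniteLimits_constantSheaf X
  have := preservesFiniteColimits_constantSheaf X
  have := additive_constantSheaf X
  let S := seqZ.{u}.map (constantSheaf X.smallEtaleTopology AddCommGrpCat.{u + 1})
  have hS : S.ShortExact := shortExact_seqZ.map_of_exact _
  have h1 : Subsingleton (Ext (EtCoh.const X ℤ) S.X₂ 1) := K810.ConstRat.subsingleton_H_integral X hN 1 le_rfl
  have key : Subsingleton (Ext (EtCoh.const X ℤ) S.X₁ (0 + 1)) := by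
    refine subsingleton_of_forall_eq 0 fun x => ?_
    obtain ⟨y, rfl⟩ := (exact₁ (EtCoh.const X ℤ) hS 0 x).1 (Subsingleton.elim _ _)
    obtain ⟨z, rfl⟩ := (Ext.mk₀_bijective _ _).2 y
    obtain ⟨ψ, hψ⟩ := Lefpen.H719.H0Const.exists_map_eq X QZ z
    obtain ⟨q, hq⟩ := (AddCommGrpCat.epi_iff_surjective _).1 shortExact_seqZ.{u}.epi_g
      (ψ (ULift.up 1 : ULift.{u + 1} ℤ))
    let ψ' : AddCommGrpCat.of (ULift.{u + 1} ℤ) ⟶ seqZ.{u}.X₂ :=
      AddCommGrpCat.ofHom (((zmultiplesHom _) q).comp AddEquiv.ulift.toAddMonoidHom)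
    have hψ' : ψ' ≫ seqZ.{u}.g = ψ := by
      refine AddCommGrpCat.ext fun (n : ULift.{u + 1} ℤ) => ?_
      change seqZ.{u}.g (n.down • q) = ψ n
      have h2 : n = n.down • (ULift.up 1 : ULift.{u + 1} ℤ) := by
        apply ULift.down_injective
        simp
      have h3 : ψ n = n.down • ψ (ULift.up 1 : ULift.{u + 1} ℤ) := by
        conv_lhs => rw [h2]
        exact map_zsmul ψ.hom _ _
      rw [h3, ← hq]
      exact map_zsmul seqZ.{u}.g.hom _ _
    refine (exact₃ (EtCoh.const X ℤ) hS 0 _).2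
      ⟨Ext.mk₀ ((constantSheaf X.smallEtaleTopology AddCommGrpCat.{u + 1}).map ψ'), ?_⟩
    refine (Ext.mk₀_comp_mk₀ (X := EtCoh.const X ℤ)
      ((constantSheaf X.smallEtaleTopology AddCommGrpCat.{u + 1}).map ψ') S.g).trans ?_
    refine congrArg Ext.mk₀ ?_
    rw [← hψ, ← hψ']
    exact ((constantSheaf X.smallEtaleTopology AddCommGrpCat.{u + 1}).map_comp _ _).symm
  exact key

/-- Cohomology of constant sheaves in the fppf and in the étale topology. -/
theorem nonempty_hEquiv_const (X : Scheme.{u}) (M : Type) [AddCommGroup M] (q : ℕ) :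
    Nonempty (EtCoh.H X (EtCoh.const X M) q ≃+
      BigSite.H Scheme.fppfPrecoverage X (EtDl.constF X M) q) := by
  have hc : EtFppf.ACont X := Groth.Agent.S0779.result _
  obtain ⟨e⟩ := Groth.Agent.S0748.result X (EtCoh.const X M) q
  exact ⟨e.trans (mpEquiv _ (Etrest.FppfExact.constIso X (AddCommGrpCat.of (ULift.{u + 1} M))) q)⟩

theorem subsingleton_H1_int_fppf (X : Scheme.{u}) [IsIntegral X]
    (hN : ∀ x : X, IsIntegrallyClosed (X.presheaf.stalk x)) :
    Subsingleton (BigSite.H Scheme.fppfPrecoverage X (EtDl.constF X ℤ) 1) := by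
  have := subsingleton_H1_int X hN
  obtain ⟨e⟩ := nonempty_hEquiv_const X ℤ 1
  exact e.symm.toEquiv.subsingleton

end K810.IntH1
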