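import Groth.Agent.TateLoc.K810.FunUnits
import Groth.Agent.TateLoc.K620.Devissage
import Groth.Agent.CGrpSh.K731.ExtRep
import Groth.Agent.CGrpSh.K731.Full
import Groth.Agent.BddFin.K843.TorusMain
import Groth.Agent.TateLoc.K892.SplitPts

/-!
# Rational points of affine commutative groups over a global function field

`PG G`: the group of rational points of `G` has no divisible elements and bounded torsion.
* `of_isKernel`: stability under extensions; `of_isFinite`, `of_torus`, `of_ga`, `affine`.
-/

set_option autoImplicit false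
universe u
open CategoryTheory CategoryTheory.Limits MonoidalCategory CartesianMonoidalCategory MonObj GrpObj AlgebraicGeometry
open TensorProduct Opposite
open Groth.Agent Groth.Agent.Books Groth.Agent.Books.AffBridge Groth.Agent.Books.AffBridge2
open Groth.Agent.Sga3A Groth.Agent.Sga3A.MTBasis Groth.Agent.Sga3B

noncomputable section

namespace K810.DivAff

open K810.DivGrp K810.FunUnits K620.Devissage

variable {k : Type u} [Field k]

/-- The property for the group of rational points. -/
def PG (G : Over (Spec (CommRingCat.of k))) [GrpObj G] : Prop :=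
  PP (𝟙_ (Over (Spec (CommRingCat.of k))) ⟶ G)

/-- The map on points induced by a homomorphism. -/
def ptHom {S : Scheme.{u}} {G H : Over S} [GrpObj G] [GrpObj H] (f : G ⟶ H) [IsMonHom f] (T : Over S) :
    (T ⟶ G) →* (T ⟶ H) where
  toFun g := g ≫ f
  map_one' := MonObj.one_comp f
  map_mul' _ _ := MonObj.mul_comp _ _ f

theorem of_iso {G H : Over (Spec (CommRingCat.of k))} [GrpObj G] [GrpObj H] (e : G ≅ H) [IsMonHom e.hom]
    (h : PG G) : PG H :=
  of_injective (ptHom e.inv _) (fun a b hab => (cancel_mono e.inv).1 hab) h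

/-- Stability under left exact sequences. -/
theorem of_exact {N G Q : Over (Spec (CommRingCat.of k))} [GrpObj N] [IsCommMonObj N] [GrpObj G] [IsCommMonObj G]
    [GrpObj Q] [IsCommMonObj Q] (i : N ⟶ G) (q : G ⟶ Q) [IsMonHom i] [IsMonHom q]
    (hi : ∀ x y : 𝟙_ (Over (Spec (CommRingCat.of k))) ⟶ N, x ≫ i = y ≫ i → x = y)
    (hex : ∀ x : 𝟙_ (Over (Spec (CommRingCat.of k))) ⟶ G, x ≫ q = 1 → ∃ y, y ≫ i = x) (hQ : PG Q) (hN : PG N) : PG G :=
  of_ext (ptHom i _) (ptHom q _) hi hex hQ hN

theorem of_isKernel {N G Q : Over (Spec (CommRingCat.of k))} [GrpObj N] [IsCommMonObj N] [GrpObj G] [IsCommMonObj G]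
    [GrpObj Q] [IsCommMonObj Q] (i : N ⟶ G) (q : G ⟶ Q) [IsMonHom i] [IsMonHom q] [Mono i]
    (hk : AlgGrp.IsKernel i q) (hQ : PG Q) (hN : PG N) : PG G := by
  refine of_exact i q (fun x y h => (cancel_mono i).1 h) (fun x hx => ?_) hQ hN
  have h : x ≫ q = toUnit _ ≫ η[Q] := by rw [hx, Hom.one_def]
  exact ⟨hk.lift x (toUnit _) h, hk.lift_fst _ _ _⟩

/-- Stability under extensions. -/
theorem extClosed : ExtClosed (k := k) (fun G _ _ => PG G) := by
  intro G₁ G₂ G₃ _ _ _ _ _ _ _ _ _ _ _ _ f g _ _ w hS h₁ h₃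
  have hm : Mono (CGrpSh.ptsMap Scheme.fppfPrecoverage f) := hS.mono_f
  refine of_exact f g (fun x y h => ?_) (fun x hx => ?_) h₃ h₁
  · have h1 := K731.Basic.injective_of_mono (CGrpSh.ptsMap Scheme.fppfPrecoverage f)
      (op (𝟙_ (Over (Spec (CommRingCat.of k)))))
      (a₁ := ULift.up (Additive.ofMul x)) (a₂ := ULift.up (Additive.ofMul y))
      (congrArg (fun z => ULift.up (Additive.ofMul z)) h)
    exact congrArg (fun z => Additive.toMul (ULift.down z)) h1
  · obtain ⟨y, hy⟩ := K731.ExtRep.exists_of_b_zero (CGrpSh.ptsMap Scheme.fppfPrecoverage f)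
      (CGrpSh.ptsMap Scheme.fppfPrecoverage g) _ hS.exact
      (T := op (𝟙_ (Over (Spec (CommRingCat.of k))))) (ULift.up (Additive.ofMul x))
      (congrArg (fun z => ULift.up (Additive.ofMul z)) hx)
    exact ⟨Additive.toMul (ULift.down y), congrArg (fun z => Additive.toMul (ULift.down z)) hy⟩

/-- Points with values in `Spec k` and points of the unit object. -/
theorem of_spec {G : Over (Spec (CommRingCat.of k))} [GrpObj G] (h : PP (SpecOver k k ⟶ G)) : PG G :=
  of_injective
    { toFun := fun g => toUnit (SpecOver k k) ≫ g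
      map_one' := MonObj.comp_one _
      map_mul' := fun a b => MonObj.comp_mul _ a b }
    (fun a b hab => by
      have h1 := congrArg (fun z => (unitIso k).hom ≫ z) hab
      simpa [← Category.assoc, unitIso_hom_toUnit] using h1) h

theorem of_hopf {A : Type u} [CommRing A] [HopfAlgebra k A] (h : PP (WithConv (A →ₐ[k] k))) : PG (SpecOver k A) := by
  refine of_spec (of_mulEquiv (MulEquiv.symm ?_) h)
  exact
    { toEquiv := (WithConv.equiv _).trans (specEquiv k)
      map_mul' := fun f g => specMap_mul k f g }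

/-- Finite group schemes. -/
theorem of_isFinite (G : Over (Spec (CommRingCat.of k))) [GrpObj G] [IsFinite G.hom] : PG G := by
  have h0 : IsAffine G.left := isAffine_of_isAffineHom G.hom
  obtain ⟨A, _, _, e, he⟩ := exists_hopf k G
  have hfin : Module.Finite k A := by
    have h1 : IsFinite (SpecOver k A).hom := by
      have h2 : (SpecOver k A).hom = e.inv.left ≫ G.hom := (Over.w e.inv).symm
      have i1 : IsIso e.inv.left := inferInstanceAs (IsIso ((Over.forget _).map e.inv))
      rw [h2]
      infer_instance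
    have h3 : IsFinite (Spec.map (CommRingCat.ofHom (algebraMap k A))) := h1
    rw [IsFinite.SpecMap_iff] at h3
    exact RingHom.finite_algebraMap.mp h3
  have h4 : Finite (A →ₐ[k] k) := inferInstance
  have h5 : Finite (WithConv (A →ₐ[k] k)) := Finite.of_equiv _ (WithConv.equiv _).symm
  have he' : IsMonHom e.symm.hom := inferInstanceAs (IsMonHom e.inv)
  exact of_iso e.symm (of_hopf (DivGrp.of_finite _))

/-- Tori over a field split over a field extension. -/
theorem exists_splitting {T : Over (Spec (CommRingCat.of k))} [GrpObj T] (h : Red.IsTorus T) :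
    ∃ (r : ℕ) (L : Type u) (_ : Field L) (_ : Algebra k L),
      Red.IsSplitTorusWith (Fin r → ℤ) (Red.bc (Spec.map (CommRingCat.ofHom (algebraMap k L))) T) := by
  obtain ⟨S', f, hf, hs, hc, h⟩ := h
  obtain ⟨s', -⟩ := f.surjective (IsLocalRing.closedPoint k)
  obtain ⟨U, hU, r, hr⟩ := h s'
  let x : U.toScheme := ⟨s', hU⟩
  let q : Spec (U.toScheme.residueField x) ⟶ U.toScheme := U.toScheme.fromSpecResidueField x
  let φ : k →+* U.toScheme.residueField x := (Spec.preimage (q ≫ U.ι ≫ f)).hom
  let := φ.toAlgebra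
  have hφ : Spec.map (CommRingCat.ofHom (algebraMap k (U.toScheme.residueField x))) =
      q ≫ U.ι ≫ f := Spec.map_preimage _
  have h3 := TorusAlgClosed.isSplitTorusWith_bc q hr
  refine ⟨r, U.toScheme.residueField x, inferInstance, inferInstance, ?_⟩
  exact TorusBc.isSplitTorusWith_of_iso ((BcIso.bcCompIso q (U.ι ≫ f) T).symm ≪≫ BcIso.bcCongrIso hφ.symm T) h3

/-- Tori. -/
theorem of_torus {p : ℕ} (hk : Good p k) (T : Over (Spec (CommRingCat.of k))) [GrpObj T] (h : Red.IsTorus T) : PG T := by
  obtain ⟨r, L', _, _, hL'⟩ := exists_splitting h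
  obtain ⟨A, _, _, e, he, L, _, _, hfin, hgal, ⟨g⟩⟩ := K843.TorusMain.exists_data T ⟨L', _, _, hL'⟩
  have he' : IsMonHom e.symm.hom := inferInstanceAs (IsMonHom e.inv)
  refine of_iso e.symm (of_hopf ?_)
  have hL : PP Lˣ := (hk.of_finite (L := L)).pp
  -- evaluation of characters
  let E : WithConv (A →ₐ[k] k) →* (Groth.Agent.Sga3B.TorusEtLoc920.Mu.{u} r → Lˣ) := MonoidHom.mk'
    (fun x m => K892.SplitPts.evU g ((Algebra.ofId k L).comp x.ofConv) m) (fun x y => funext fun m => Units.ext (by
      change K892.SplitPts.ev g ((Algebra.ofId k L).comp (x * y).ofConv) m =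
        K892.SplitPts.ev g _ m * K892.SplitPts.ev g _ m
      rw [AlgHom.comp_convMul_distrib]
      exact K892.SplitPts.ev_mul_left g (WithConv.toConv ((Algebra.ofId k L).comp x.ofConv))
        (WithConv.toConv ((Algebra.ofId k L).comp y.ofConv)) m))
  refine of_injective E (fun x y hxy => ?_) (DivGrp.pi _ hL)
  have h1 : (Algebra.ofId k L).comp x.ofConv = (Algebra.ofId k L).comp y.ofConv :=
    K892.SplitPts.ev_injective g fun m => congrArg Units.val (congrFun hxy m)
  have h2 : x.ofConv = y.ofConv := AlgHom.ext fun a => (algebraMap k L).injective (DFunLike.congr_fun h1 a)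
  exact WithConv.ofConv_injective h2

/-- The additive group. -/
theorem of_ga {p : ℕ} (hk : Good p k) : PG (Red.Ga (Spec (CommRingCat.of k))) := by
  have := hk.char
  refine of_spec (of_exponent p hk.prime.pos fun x => ?_)
  apply (K620.HopfGa.coord_bijective k k).1
  have h1 : K620.HopfGa.coord k (1 : SpecOver k k ⟶ Red.Ga (Spec (CommRingCat.of k))) = 0 := by
    have h := (congrArg (K620.HopfGa.coord k) (_root_.mul_one (1 : SpecOver k k ⟶ Red.Ga (Spec (CommRingCat.of k))))).symm.trans
      (K620.HopfGa.coord_mul k 1 1)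
    exact left_eq_add.1 h
  have h2 : ∀ n : ℕ, K620.HopfGa.coord k (x ^ n) = n • K620.HopfGa.coord k x := by
    intro n
    induction n with
    | zero => rw [pow_zero, h1, zero_smul]
    | succ n ih => rw [pow_succ, K620.HopfGa.coord_mul, ih, succ_nsmul]
  rw [h1, h2, nsmul_eq_mul, CharP.cast_eq_zero, zero_mul]

/-- **Rational points of affine commutative groups.** -/
theorem affine {p : ℕ} (hk : Good p k) (G : Over (Spec (CommRingCat.of k))) [GrpObj G] [IsCommMonObj G] [IsAffine G.left]
    [LocallyOfFiniteType G.hom] : PG G :=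
  K620.Devissage.induct k (fun G _ _ => PG G) (fun _ _ _ _ _ _ e _ h => of_iso e h) extClosed
    (fun G _ _ _ => of_isFinite G) (fun T _ _ _ _ h => of_torus hk T h) (of_ga hk) G

end K810.DivAff
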