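import Groth.Agent.TateLoc.K810.AbPts
import Groth.Agent.TateLoc.K810.DivAff

/-!
# Rational points of the generic fibre of a proper group scheme over a discrete valuation ring

with finite residue field of characteristic `p`: no divisible elements, bounded torsion (`of_model`), provided the
`p`-torsion is finite.
-/

set_option autoImplicit false
universe u
open CategoryTheory CategoryTheory.Limits MonoidalCategory CartesianMonoidalCategory MonObj GrpObj AlgebraicGeometry
open Groth.Agent.Models.WeilPts Groth.Agent.Sga3B.BcPts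

noncomputable section

namespace K810.AbModel

open K810.DivGrp K810.AbPts K810.DivAff

variable {R : Type u} [CommRing R]

theorem natCast_ne_zero {p : ℕ} (hp : p.Prime) (hR : (p : R) = 0) {ℓ : ℕ} (hℓ : ℓ.Prime) (hne : ℓ ≠ p)
    (s : Spec (CommRingCat.of R)) : (ℓ : (Spec (CommRingCat.of R)).residueField s) ≠ 0 := by
  intro h0
  have h1 : ((p : ℕ) : (Spec (CommRingCat.of R)).residueField s) = 0 := by
    have h2 := map_natCast (((Scheme.ΓSpecIso (CommRingCat.of R)).inv ≫ (Spec (CommRingCat.of R)).Γevaluation s).hom) p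
    rw [← h2]
    have h3 : ((p : ℕ) : CommRingCat.of R) = 0 := hR
    rw [h3, map_zero]
  have h4 : IsCoprime (ℓ : ℤ) (p : ℤ) := Nat.isCoprime_iff_coprime.2 ((Nat.coprime_primes hℓ hp).2 hne)
  obtain ⟨a, b, hab⟩ := h4
  have h5 := congrArg (Int.cast (R := (Spec (CommRingCat.of R)).residueField s)) hab
  push_cast at h5
  rw [h0, h1, mul_zero, mul_zero, add_zero] at h5
  exact zero_ne_one h5

theorem pp_sections [IsLocalRing R] [IsNoetherianRing R] [Finite (R ⧸ IsLocalRing.maximalIdeal R)]
    (G : Over (Spec (CommRingCat.of R))) [GrpObj G] [LocallyOfFiniteType G.hom] [QuasiCompact G.hom]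
    (hcomm : ∀ a b : SpecO R R ⟶ G, a * b = b * a)
    (p : ℕ) (hp : p.Prime) (hR : (p : R) = 0) (hfin : {g : SpecO R R ⟶ G | g ^ p = 1}.Finite) :
    PP (SpecO R R ⟶ G) := by
  let _ : CommGroup (SpecO R R ⟶ G) := { (inferInstance : Group (SpecO R R ⟶ G)) with mul_comm := hcomm }
  have hfp : LocallyOfFinitePresentation G.hom := by
    infer_instance
  have hfin1 : Finite (SpecO R (R ⧸ IsLocalRing.maximalIdeal R) ⟶ G) := by
    have h1 : IsLocalRing (R ⧸ IsLocalRing.maximalIdeal R) :=
      have : Nontrivial (R ⧸ IsLocalRing.maximalIdeal R) := Ideal.Quotient.nontrivial_iff.2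
        (IsLocalRing.maximalIdeal.isMaximal R).ne_top
      IsLocalRing.of_surjective' (Ideal.Quotient.mk (IsLocalRing.maximalIdeal R)) Ideal.Quotient.mk_surjective
    exact finite_pts G
  refine of_residual (fun g hg => ?_) p hp hfin (restrHom (Ideal.Quotient.mkₐ R (IsLocalRing.maximalIdeal R)) G)
    (fun ℓ hℓ hne g h1 h2 => eq_one_of_pow G ℓ (natCast_ne_zero hp hR hℓ hne) g h2 h1)
  by_contra hcon
  push Not at hcon
  apply hg
  refine eq_of_forall _ _ fun n hn => ?_
  have hnt : Nontrivial (R ⧸ IsLocalRing.maximalIdeal R ^ n) := Ideal.Quotient.nontrivial_iff.2 fun h => by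
    have h2 : IsLocalRing.maximalIdeal R ^ n ≤ IsLocalRing.maximalIdeal R := Ideal.pow_le_self hn.ne'
    rw [h] at h2
    exact (IsLocalRing.maximalIdeal.isMaximal R).ne_top (top_le_iff.1 h2)
  have h1 : IsLocalRing (R ⧸ IsLocalRing.maximalIdeal R ^ n) :=
    IsLocalRing.of_surjective' (Ideal.Quotient.mk (IsLocalRing.maximalIdeal R ^ n)) Ideal.Quotient.mk_surjective
  have h3 : Finite (R ⧸ IsLocalRing.maximalIdeal R ^ n) :=
    Ideal.finite_quotient_pow (IsNoetherian.noetherian _) n
  have h4 : Finite (SpecO R (R ⧸ IsLocalRing.maximalIdeal R ^ n) ⟶ G) := finite_pts G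
  have h5 := hcon (SpecO R (R ⧸ IsLocalRing.maximalIdeal R ^ n) ⟶ G) inferInstance h4
    (restrHom (Ideal.Quotient.mkₐ R (IsLocalRing.maximalIdeal R ^ n)) G)
  have h6 : specMap (Ideal.Quotient.mkₐ R (IsLocalRing.maximalIdeal R ^ n)) ≫ (1 : SpecO R R ⟶ G) = 1 :=
    MonObj.comp_one _
  exact h5.trans h6.symm

/-- Points with values in the unit object of `Spec L` and points with values in `L`. -/
def genIso {L : Type u} [Field L] [Algebra R L] :
    (Over.map (Spec.map (CommRingCat.ofHom (algebraMap R L)))).obj (𝟙_ (Over (Spec (CommRingCat.of L)))) ≅ SpecO R L :=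
  Over.isoMk (Iso.refl _) (by
    change 𝟙 _ ≫ Spec.map _ = 𝟙 _ ≫ Spec.map _
    rfl)

/-- Points of the generic fibre are points with values in the fraction field. -/
def genEquiv {L : Type u} [Field L] [Algebra R L] (G : Over (Spec (CommRingCat.of R))) [GrpObj G] :
    (𝟙_ (Over (Spec (CommRingCat.of L))) ⟶ Red.bc (Spec.map (CommRingCat.ofHom (algebraMap R L))) G) ≃*
      (SpecO R L ⟶ G) :=
  (bcMulEquiv (Spec.map (CommRingCat.ofHom (algebraMap R L))) (𝟙_ _) G).symm.trans
    { toFun := fun g => genIso.inv ≫ g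
      invFun := fun g => genIso.hom ≫ g
      left_inv := fun g => Iso.hom_inv_id_assoc _ _
      right_inv := fun g => Iso.inv_hom_id_assoc _ _
      map_mul' := fun a b => MonObj.comp_mul _ a b }

/-- The valuative criterion. -/
theorem bijective_restr [IsDomain R] [ValuationRing R] {L : Type u} [Field L] [Algebra R L] [IsFractionRing R L]
    (G : Over (Spec (CommRingCat.of R))) [GrpObj G] [IsProper G.hom] :
    Function.Bijective (restrHom (Algebra.ofId R L) G) := by
  constructor
  · intro a b hab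
    exact pt_ext (Algebra.ofId R L) (IsFractionRing.injective R L) hab
  · intro g
    obtain ⟨ψ, hψ⟩ := pt_valuative (C := R) (K := L) g
    refine ⟨ψ, ?_⟩
    rw [← hψ]
    rfl

theorem of_model [IsDomain R] [IsDiscreteValuationRing R] [Finite (R ⧸ IsLocalRing.maximalIdeal R)] {L : Type u} [Field L]
    [Algebra R L] [IsFractionRing R L] (G : Over (Spec (CommRingCat.of R))) [GrpObj G] [IsProper G.hom]
    (hcomm : ∀ a b : 𝟙_ (Over (Spec (CommRingCat.of L))) ⟶ Red.bc (Spec.map (CommRingCat.ofHom (algebraMap R L))) G,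
      a * b = b * a)
    (p : ℕ) (hp : p.Prime) (hR : (p : R) = 0)
    (hfin : {g : 𝟙_ (Over (Spec (CommRingCat.of L))) ⟶ Red.bc (Spec.map (CommRingCat.ofHom (algebraMap R L))) G |
      g ^ p = 1}.Finite) :
    PG (Red.bc (Spec.map (CommRingCat.ofHom (algebraMap R L))) G) := by
  have hb := bijective_restr (L := L) G
  let e : (SpecO R R ⟶ G) ≃* (𝟙_ (Over (Spec (CommRingCat.of L))) ⟶
      Red.bc (Spec.map (CommRingCat.ofHom (algebraMap R L))) G) :=
    (MulEquiv.ofBijective _ hb).trans (genEquiv G).symm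
  refine of_mulEquiv e.symm (pp_sections G (fun a b => e.injective ?_) p hp hR ?_)
  · rw [map_mul, map_mul, hcomm]
  refine Set.Finite.of_injOn (f := e) (t := _) (fun g hg => ?_) e.injective.injOn hfin
  change e g ^ p = 1
  rw [← map_pow, show g ^ p = 1 from hg, map_one]

end K810.AbModel
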