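import Mathlib.GroupTheory.OrderOfElement
import Mathlib.GroupTheory.Exponent
import Mathlib.Data.Fintype.Pigeonhole
import Mathlib.Algebra.Group.Subgroup.Ker
import Mathlib.Data.Nat.Factorization.Basic
import Mathlib.Algebra.Order.Archimedean.Basic

/-!
# Commutative groups without divisible elements and with bounded torsion
-/

set_option autoImplicit false
universe u v

namespace K810.DivGrp

/-- No divisible elements except the identity, and torsion of bounded exponent. -/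
def PP (A : Type u) [Monoid A] : Prop :=
  (∀ g : A, (∀ n : ℕ, 0 < n → ∃ h : A, h ^ n = g) → g = 1) ∧
    ∃ N : ℕ, 0 < N ∧ ∀ g : A, IsOfFinOrder g → g ^ N = 1

theorem isOfFinOrder_iff_of_injective' {K A : Type*} [Monoid K] [Monoid A] (i : K →* A) (hi : Function.Injective i) {x : K} :
    IsOfFinOrder (i x) ↔ IsOfFinOrder x := by
  refine ⟨fun h => ?_, fun h => MonoidHom.isOfFinOrder i h⟩
  obtain ⟨n, hn, h1⟩ := isOfFinOrder_iff_pow_eq_one.1 h
  exact isOfFinOrder_iff_pow_eq_one.2 ⟨n, hn, hi (by rw [map_pow, h1, map_one])⟩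

theorem of_exponent {A : Type u} [Monoid A] (N : ℕ) (hN : 0 < N) (h : ∀ g : A, g ^ N = 1) : PP A :=
  ⟨fun g hg => by
    obtain ⟨x, hx⟩ := hg N hN
    rw [← hx, h], N, hN, fun g _ => h g⟩

theorem of_finite (A : Type u) [Group A] [Finite A] : PP A :=
  of_exponent (Nat.card A) Nat.card_pos fun _ => pow_card_eq_one'

theorem of_injective {A : Type u} {B : Type v} [Monoid A] [Monoid B] (f : A →* B) (hf : Function.Injective f)
    (h : PP B) : PP A := by
  obtain ⟨h1, N, hN, h2⟩ := h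
  refine ⟨fun g hg => ?_, N, hN, fun g hg => ?_⟩
  · apply hf
    rw [map_one]
    refine h1 _ fun n hn => ?_
    obtain ⟨x, hx⟩ := hg n hn
    exact ⟨f x, by rw [← map_pow, hx]⟩
  · apply hf
    rw [map_one, map_pow]
    exact h2 _ (MonoidHom.isOfFinOrder f hg)

theorem pi (ι : Type v) {A : Type u} [Monoid A] (h : PP A) : PP (ι → A) := by
  obtain ⟨h1, N, hN, h2⟩ := h
  refine ⟨fun g hg => funext fun i => h1 _ fun n hn => ?_, N, hN, fun g hg => funext fun i => ?_⟩
  · obtain ⟨x, hx⟩ := hg n hn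
    exact ⟨x i, congrFun hx i⟩
  · exact h2 _ (MonoidHom.isOfFinOrder (Pi.evalMonoidHom (fun _ : ι => A) i) hg)

theorem of_mulEquiv {A : Type u} {B : Type v} [Monoid A] [Monoid B] (e : A ≃* B) (h : PP B) : PP A :=
  of_injective e.toMonoidHom e.injective h

/-- Stability under left exact sequences `K → A → B`. -/
theorem of_ext {K A : Type u} {B : Type v} [CommGroup K] [CommGroup A] [CommGroup B] (i : K →* A) (f : A →* B)
    (hi : Function.Injective i) (hex : ∀ a, f a = 1 → ∃ x, i x = a)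
    (hB : PP B) (hK : PP K) : PP A := by
  obtain ⟨hB1, N, hN, hB2⟩ := hB
  obtain ⟨hK1, M, hM, hK2⟩ := hK
  have key : ∀ g : A, IsOfFinOrder g → g ^ (N * M) = 1 := by
    intro g hg
    have h1 : f (g ^ N) = 1 := by
      rw [map_pow]
      exact hB2 _ (MonoidHom.isOfFinOrder f hg)
    obtain ⟨x, hx⟩ := hex _ h1
    have h2 : IsOfFinOrder x := by
      have h3 : IsOfFinOrder (i x) := by
        rw [hx]
        exact hg.pow
      exact (isOfFinOrder_iff_of_injective' i hi).1 h3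
    rw [pow_mul, ← hx, ← map_pow, hK2 x h2, map_one]
  refine ⟨fun g hg => ?_, N * M, Nat.mul_pos hN hM, key⟩
  have h1 : f g = 1 := hB1 _ fun n hn => by
    obtain ⟨x, hx⟩ := hg n hn
    exact ⟨f x, by rw [← map_pow, hx]⟩
  obtain ⟨y, rfl⟩ := hex _ h1
  have h2 : y ^ N = 1 := hK1 _ fun n hn => by
    obtain ⟨h, hh⟩ := hg n hn
    have h3 : IsOfFinOrder (f h) := isOfFinOrder_iff_pow_eq_one.2 ⟨n, hn, by rw [← map_pow, hh, h1]⟩
    have h4 : f (h ^ N) = 1 := by rw [map_pow, hB2 _ h3]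
    obtain ⟨z, hz⟩ := hex _ h4
    refine ⟨z, hi ?_⟩
    rw [map_pow, map_pow, hz, ← hh, ← pow_mul, ← pow_mul, mul_comm]
  obtain ⟨h, hh⟩ := hg (N * M) (Nat.mul_pos hN hM)
  have h5 : IsOfFinOrder h := isOfFinOrder_iff_pow_eq_one.2
    ⟨N * M * N, Nat.mul_pos (Nat.mul_pos hN hM) hN, by rw [pow_mul, hh, ← map_pow, h2, map_one]⟩
  rw [← hh, key h h5]

/-- A residually finite group with finite `p`-torsion, and a finite quotient whose kernel has only `p`-primary torsion. -/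
theorem of_residual {A : Type u} [CommGroup A]
    (hres : ∀ g : A, g ≠ 1 → ∃ (F : Type u) (_ : Group F) (_ : Finite F) (φ : A →* F), φ g ≠ 1)
    (p : ℕ) (hp : p.Prime) (hfin : {g : A | g ^ p = 1}.Finite)
    {F : Type u} [Group F] [Finite F] (φ : A →* F)
    (hφ : ∀ ℓ : ℕ, ℓ.Prime → ℓ ≠ p → ∀ g : A, φ g = 1 → g ^ ℓ = 1 → g = 1) : PP A := by
  have hdiv : ∀ g : A, (∀ n : ℕ, 0 < n → ∃ h : A, h ^ n = g) → g = 1 := by
    intro g hg
    by_contra hne
    obtain ⟨F', _, _, ψ, hψ⟩ := hres g hne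
    obtain ⟨x, hx⟩ := hg (Nat.card F') Nat.card_pos
    apply hψ
    rw [← hx, map_pow]
    exact pow_card_eq_one'
  refine ⟨hdiv, ?_⟩
  -- bounded `p`-primary torsion
  have hb : ∃ a : ℕ, ∀ x : A, (∃ b : ℕ, x ^ p ^ b = 1) → x ^ p ^ a = 1 := by
    by_contra hcon
    push Not at hcon
    have hz : ∀ a : ℕ, ∃ z : A, z ≠ 1 ∧ z ^ p = 1 ∧ ∃ y : A, y ^ p ^ a = z ∧ y ^ p ^ (a + 1) = 1 := by
      intro a
      obtain ⟨x, ⟨b, hb⟩, hx⟩ := hcon a
      classical
      have hex : ∃ c, x ^ p ^ c = 1 := ⟨b, hb⟩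
      have h1 := Nat.find_spec hex
      have h2 : a < Nat.find hex := by
        by_contra hle
        push Not at hle
        apply hx
        obtain ⟨d, hd⟩ := Nat.exists_eq_add_of_le hle
        rw [hd, pow_add, pow_mul, h1, one_pow]
      obtain ⟨c, hc⟩ : ∃ c, Nat.find hex = a + c + 1 := ⟨Nat.find hex - a - 1, by omega⟩
      have h3 : x ^ p ^ (a + c) ≠ 1 := Nat.find_min hex (by omega)
      have h4 : x ^ p ^ (a + c + 1) = 1 := by rw [← hc]; exact h1
      refine ⟨x ^ p ^ (a + c), h3, ?_, x ^ p ^ c, ?_, ?_⟩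
      · rw [← pow_mul, ← pow_succ]
        exact h4
      · rw [← pow_mul, ← pow_add, add_comm c a]
      · rw [← pow_mul, ← pow_add]
        rw [show c + (a + 1) = a + c + 1 by omega]
        exact h4
    choose z hz1 hz2 y hy1 hy2 using hz
    have : Finite {g : A | g ^ p = 1} := hfin
    obtain ⟨w, hw⟩ := Finite.exists_infinite_fiber (fun a : ℕ => (⟨z a, hz2 a⟩ : {g : A | g ^ p = 1}))
    have hwinf : ∀ a : ℕ, ∃ b, a ≤ b ∧ z b = w.1 := by
      intro a
      have h1 := Set.infinite_coe_iff.1 hw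
      obtain ⟨b, hb, hab⟩ := h1.exists_gt a
      exact ⟨b, hab.le, congrArg Subtype.val hb⟩
    have hw1 : w.1 = 1 := by
      refine hdiv _ fun n hn => ?_
      obtain ⟨a, m, hm, hnm⟩ := Nat.exists_eq_pow_mul_and_not_dvd hn.ne' p hp.ne_one
      obtain ⟨b, hab, hbw⟩ := hwinf a
      obtain ⟨c, rfl⟩ := Nat.exists_eq_add_of_le hab
      have hcop : Nat.Coprime m (p ^ (a + c + 1)) :=
        Nat.Coprime.pow_right _ ((Nat.Prime.coprime_iff_not_dvd hp).2 hm).symm
      obtain ⟨m', hm'⟩ : ∃ m' : ℕ, (y (a + c) ^ m') ^ m = y (a + c) := by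
        have h1 : Nat.Coprime m (orderOf (y (a + c))) :=
          hcop.coprime_dvd_right (orderOf_dvd_of_pow_eq_one (hy2 (a + c)))
        obtain ⟨m', hm'⟩ := exists_pow_eq_self_of_coprime h1
        exact ⟨m', by rw [← pow_mul, mul_comm, pow_mul, hm']⟩
      refine ⟨(y (a + c) ^ m') ^ p ^ c, ?_⟩
      rw [hnm, ← pow_mul, show p ^ c * (p ^ a * m) = m * p ^ (a + c) by rw [pow_add]; ring, pow_mul, hm', hy1, hbw]
    obtain ⟨b, -, hb⟩ := hwinf 0
    exact hz1 b (hb.trans hw1)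
  obtain ⟨a, ha⟩ := hb
  refine ⟨Nat.card F * p ^ a, Nat.mul_pos Nat.card_pos (Nat.pow_pos hp.pos), fun g hg => ?_⟩
  rw [pow_mul]
  apply ha
  have h1 : φ (g ^ Nat.card F) = 1 := by
    rw [map_pow]
    exact pow_card_eq_one'
  have h2 : IsOfFinOrder (g ^ Nat.card F) := hg.pow
  generalize g ^ Nat.card F = x at h1 h2
  have h3 : 0 < orderOf x := h2.orderOf_pos
  obtain ⟨b, m, hm, hbm⟩ := Nat.exists_eq_pow_mul_and_not_dvd h3.ne' p hp.ne_one
  refine ⟨b, ?_⟩
  by_contra hne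
  have h4 : m ≠ 1 := by
    rintro rfl
    apply hne
    rw [mul_one] at hbm
    rw [← hbm]
    exact pow_orderOf_eq_one x
  obtain ⟨ℓ, hℓ, hℓm⟩ := Nat.exists_prime_and_dvd h4
  have hℓp : ℓ ≠ p := by
    rintro rfl
    exact hm hℓm
  obtain ⟨m', rfl⟩ := hℓm
  have h5 : x ^ (p ^ b * m') = 1 := by
    refine hφ ℓ hℓ hℓp _ (by rw [map_pow, h1, one_pow]) ?_
    rw [← pow_mul, show p ^ b * m' * ℓ = p ^ b * (ℓ * m') by ring, ← hbm]
    exact pow_orderOf_eq_one x
  have h6 := orderOf_dvd_of_pow_eq_one h5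
  rw [hbm] at h6
  have h7 : 0 < m' := by
    rcases Nat.eq_zero_or_pos m' with h | h
    · subst h
      exact absurd (dvd_zero p) (by simpa using hm)
    · exact h
  have h8 := Nat.le_of_dvd (Nat.mul_pos (Nat.pow_pos hp.pos) h7) h6
  have h9 : p ^ b * m' < p ^ b * (ℓ * m') := by
    apply Nat.mul_lt_mul_of_pos_left _ (Nat.pow_pos hp.pos)
    calc m' = 1 * m' := (one_mul _).symm
      _ < ℓ * m' := Nat.mul_lt_mul_of_pos_right hℓ.one_lt h7
  omega

end K810.DivGrp
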