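import Groth.Agent.Models.WeilPts
import Groth.Agent.Sga7.H742.PowUnram
import Groth.Agent.TateLoc.K810.DivGrp
import Mathlib.RingTheory.Filtration

/-!
# Points of a group scheme over a local ring with finite residue field

* `finite_pts`: finitely many points with values in a finite local ring;
* `eq_of_forall`: points with values in a Noetherian local ring are determined by their reductions;
* `eq_one_of_pow`: the kernel of the reduction has no torsion prime to the residue characteristic.
-/

set_option autoImplicit false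
universe u
open CategoryTheory CategoryTheory.Limits MonoidalCategory CartesianMonoidalCategory MonObj GrpObj AlgebraicGeometry
open Groth.Agent.Models.WeilPts

noncomputable section

namespace K810.AbPts

open K810.DivGrp

variable {R : Type u} [CommRing R]

/-- Restriction of points along an algebra homomorphism. -/
def restrHom {C D : Type u} [CommRing C] [Algebra R C] [CommRing D] [Algebra R D] (f : C →ₐ[R] D)
    (G : Over (Spec (CommRingCat.of R))) [GrpObj G] : (SpecO R C ⟶ G) →* (SpecO R D ⟶ G) where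
  toFun g := specMap f ≫ g
  map_one' := MonObj.comp_one _
  map_mul' a b := MonObj.comp_mul _ a b

theorem exists_affine {C : Type u} [CommRing C] [IsLocalRing C] [Algebra R C] {G : Over (Spec (CommRingCat.of R))}
    (φ : SpecO R C ⟶ G) (H : G.left.Opens) (h : φ.left (IsLocalRing.closedPoint C) ∈ H) : Set.range φ.left ⊆ H := by
  have h1 : (φ.left ⁻¹ᵁ H : (Spec (CommRingCat.of C)).Opens) = ⊤ :=
    (IsLocalRing.closed_point_mem_iff (U := φ.left ⁻¹ᵁ H)).1 h
  rintro _ ⟨x, rfl⟩
  have h2 : x ∈ (φ.left ⁻¹ᵁ H : (Spec (CommRingCat.of C)).Opens) := by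
    rw [h1]
    trivial
  exact h2

theorem finite_algHom (B C : Type u) [CommRing B] [CommRing C] [Algebra R B] [Algebra R C] [Algebra.FiniteType R B]
    [Finite C] : Finite (B →ₐ[R] C) := by
  obtain ⟨s, hs⟩ := Algebra.FiniteType.out (R := R) (A := B)
  refine Finite.of_injective (fun f : B →ₐ[R] C => fun x : s => f x) fun f g hfg => ?_
  refine AlgHom.ext_of_adjoin_eq_top hs fun x hx => ?_
  exact congrFun hfg ⟨x, hx⟩

theorem finite_pts {C : Type u} [CommRing C] [IsLocalRing C] [Finite C] [Algebra R C]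
    (G : Over (Spec (CommRingCat.of R))) [LocallyOfFiniteType G.hom] [QuasiCompact G.hom] : Finite (SpecO R C ⟶ G) := by
  have hX : CompactSpace G.left := QuasiCompact.compactSpace_of_compactSpace G.hom
  obtain ⟨s, hs, hs2⟩ := (isCompact_and_isOpen_iff_finite_and_eq_biUnion_affineOpens (X := G.left)
    (U := Set.univ)).1 ⟨isCompact_univ, isOpen_univ⟩
  have := hs.to_subtype
  have hcov : ∀ φ : SpecO R C ⟶ G, ∃ U : s, Set.range φ.left ⊆ (U.1 : G.left.Opens) := by
    intro φ
    have h1 : φ.left (IsLocalRing.closedPoint C) ∈ (Set.univ : Set G.left) := trivial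
    rw [hs2] at h1
    simp only [Set.mem_iUnion] at h1
    obtain ⟨U, hU, hm⟩ := h1
    exact ⟨⟨U, hU⟩, exists_affine φ U.1 hm⟩
  choose U hU using hcov
  -- points through a fixed affine open
  have hfib : ∀ V : s, Finite {φ : SpecO R C ⟶ G // Set.range φ.left ⊆ (V.1 : G.left.Opens)} := by
    intro V
    have hV : IsAffineOpen (V.1 : G.left.Opens) := V.1.2
    let B := Γ(G.left, V.1)
    let θ : Spec B ⟶ Spec (CommRingCat.of R) := hV.fromSpec ≫ G.hom
    have hθ : LocallyOfFiniteType θ := inferInstance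
    obtain ⟨ψ, hψ⟩ := Spec.map_surjective θ
    let _ : Algebra R B := ψ.hom.toAlgebra
    have hft : Algebra.FiniteType R B := by
      have h1 : LocallyOfFiniteType (Spec.map ψ) := by rw [hψ]; exact hθ
      exact (HasRingHomProperty.Spec_iff (P := @LocallyOfFiniteType)).mp h1
    have hf : Finite (B →ₐ[R] C) := finite_algHom _ _
    have hch : ∀ φ : {φ : SpecO R C ⟶ G // Set.range φ.left ⊆ (V.1 : G.left.Opens)},
        ∃ f : B →ₐ[R] C, Spec.map (CommRingCat.ofHom f.toRingHom) ≫ hV.fromSpec = φ.1.left := by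
      intro φ
      obtain ⟨ρ, hρ⟩ := exists_funcs hV φ.1 φ.2
      refine ⟨{ ρ.hom with commutes' := fun r => ?_ }, hρ⟩
      have h1 : ψ ≫ ρ = CommRingCat.ofHom (algebraMap R C) := by
        apply Spec.map_injective
        rw [Spec.map_comp, hψ]
        change Spec.map ρ ≫ hV.fromSpec ≫ G.hom = _
        rw [← Category.assoc, hρ]
        exact Over.w φ.1
      exact congrArg (fun z : CommRingCat.of R ⟶ CommRingCat.of C => z.hom r) h1
    choose F hF using hch
    refine Finite.of_injective F fun a b hab => ?_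
    apply Subtype.ext
    apply Over.OverMorphism.ext
    rw [← hF a, ← hF b, hab]
  refine Finite.of_injective (β := Σ V : s, {φ : SpecO R C ⟶ G // Set.range φ.left ⊆ (V.1 : G.left.Opens)})
    (fun φ => ⟨U φ, φ, hU φ⟩) fun a b hab => ?_
  have h1 := congrArg (fun z : (Σ V : s, {φ : SpecO R C ⟶ G // Set.range φ.left ⊆ (V.1 : G.left.Opens)}) => z.2.1) hab
  exact h1

/-- Points with values in a Noetherian local ring are determined by their values modulo all powers. -/
theorem eq_of_forall [IsLocalRing R] [IsNoetherianRing R] {G : Over (Spec (CommRingCat.of R))}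
    (φ ψ : SpecO R R ⟶ G)
    (h : ∀ n : ℕ, 0 < n → specMap (Ideal.Quotient.mkₐ R (IsLocalRing.maximalIdeal R ^ n)) ≫ φ =
      specMap (Ideal.Quotient.mkₐ R (IsLocalRing.maximalIdeal R ^ n)) ≫ ψ) : φ = ψ := by
  -- the closed points have the same image
  have hcp : ∃ y : Spec (CommRingCat.of (R ⧸ IsLocalRing.maximalIdeal R ^ 1)),
      Spec.map (CommRingCat.ofHom (Ideal.Quotient.mk (IsLocalRing.maximalIdeal R ^ 1))) y =
        IsLocalRing.closedPoint R := by
    refine ⟨⟨Ideal.map (Ideal.Quotient.mk (IsLocalRing.maximalIdeal R ^ 1)) (IsLocalRing.maximalIdeal R), ?_⟩, ?_⟩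
    · refine Ideal.map_isPrime_of_surjective Ideal.Quotient.mk_surjective ?_
      rw [Ideal.mk_ker, pow_one]
    · apply PrimeSpectrum.ext
      change Ideal.comap _ (Ideal.map _ _) = _
      rw [CommRingCat.hom_ofHom, Ideal.comap_map_of_surjective _ Ideal.Quotient.mk_surjective, ← RingHom.ker_eq_comap_bot,
        Ideal.mk_ker, pow_one, sup_idem]
      rfl
  obtain ⟨y, hy⟩ := hcp
  have hpt : φ.left (IsLocalRing.closedPoint R) = ψ.left (IsLocalRing.closedPoint R) := by
    have h1 := congrArg (fun z : SpecO R (R ⧸ IsLocalRing.maximalIdeal R ^ 1) ⟶ G => z.left y) (h 1 one_pos)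
    have h2 : ∀ χ : SpecO R R ⟶ G, (specMap (Ideal.Quotient.mkₐ R (IsLocalRing.maximalIdeal R ^ 1)) ≫ χ).left y =
        χ.left (IsLocalRing.closedPoint R) := by
      intro χ
      rw [← hy]
      rfl
    rwa [h2, h2] at h1
  obtain ⟨V, hV, hm, -⟩ := exists_isAffineOpen_mem_and_subset (X := G.left) (U := ⊤)
    (x := φ.left (IsLocalRing.closedPoint R)) trivial
  obtain ⟨a, ha⟩ := exists_funcs hV φ (exists_affine φ V hm)
  obtain ⟨b, hb⟩ := exists_funcs hV ψ (exists_affine ψ V (hpt ▸ hm))
  have hab : a = b := by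
    ext x
    rw [← sub_eq_zero]
    have hbot := Ideal.iInf_pow_eq_bot_of_isLocalRing (IsLocalRing.maximalIdeal R) (IsLocalRing.maximalIdeal.isMaximal R).ne_top
    rw [← Ideal.mem_bot, ← hbot, Ideal.mem_iInf]
    intro n
    rcases Nat.eq_zero_or_pos n with rfl | hn
    · rw [pow_zero, Ideal.one_eq_top]
      trivial
    · rw [← Ideal.Quotient.eq_zero_iff_mem, map_sub, sub_eq_zero]
      have h3 := congrArg (fun z : SpecO R (R ⧸ IsLocalRing.maximalIdeal R ^ n) ⟶ G => z.left) (h n hn)
      have h4 : a ≫ CommRingCat.ofHom (Ideal.Quotient.mk (IsLocalRing.maximalIdeal R ^ n)) =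
          b ≫ CommRingCat.ofHom (Ideal.Quotient.mk (IsLocalRing.maximalIdeal R ^ n)) := by
        refine funcs_unique hV ?_
        rw [Spec.map_comp, Spec.map_comp, Category.assoc, Category.assoc, ha, hb]
        exact h3
      exact congrArg (fun z : Γ(G.left, V) ⟶ CommRingCat.of (R ⧸ IsLocalRing.maximalIdeal R ^ n) => z.hom x) h4
  apply Over.OverMorphism.ext
  rw [← ha, ← hb, hab]

theorem SpecO_hom : (SpecO R R).hom = 𝟙 (Spec (CommRingCat.of R)) := by
  change Spec.map (CommRingCat.ofHom (RingHom.id R)) = _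
  exact Spec.map_id _

/-- The kernel of the reduction has no `m`-torsion if `m` is invertible. -/
theorem eq_one_of_pow [IsLocalRing R] (H : Over (Spec (CommRingCat.of R))) [GrpObj H]
    [LocallyOfFinitePresentation H.hom] (m : ℕ)
    (hm : ∀ s : Spec (CommRingCat.of R), (m : (Spec (CommRingCat.of R)).residueField s) ≠ 0)
    (g : SpecO R R ⟶ H) (hg : g ^ m = 1)
    (h : specMap (Ideal.Quotient.mkₐ R (IsLocalRing.maximalIdeal R)) ≫ g = 1) : g = 1 := by
  have hu : ∀ {T : Over (Spec (CommRingCat.of R))}, (1 : T ⟶ H).left = T.hom ≫ (η[H] : 𝟙_ _ ⟶ H).left := by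
    intro T
    rw [Hom.one_def, Over.comp_left]
    rfl
  have h1 : g.left ≫ ((𝟙 H : H ⟶ H) ^ m).left = 𝟙 (Spec (CommRingCat.of R)) ≫ (η[H] : 𝟙_ _ ⟶ H).left := by
    rw [← Over.comp_left, MonObj.comp_pow, Category.comp_id, hg, hu, SpecO_hom]
  have h2 : (η[H] : 𝟙_ _ ⟶ H).left ≫ ((𝟙 H : H ⟶ H) ^ m).left =
      𝟙 (Spec (CommRingCat.of R)) ≫ (η[H] : 𝟙_ _ ⟶ H).left := by
    rw [Groth.Agent.Sga7.H742.PowUnram.unit_comp_pow]
    exact (Category.id_comp _).symm
  let t := pullback.lift _ _ h1
  let e := pullback.lift _ _ h2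
  have he : IsLocalIso e := Groth.Agent.Sga7.H742.PowUnram.isLocalIso_unit_kerPow H m hm e
    (pullback.lift_fst _ _ _) (pullback.lift_snd _ _ _)
  -- `e` is an open immersion
  have heo : IsOpenImmersion e := by
    obtain ⟨U, hU, hUe⟩ := IsLocalIso.exists_isOpenImmersion (f := e) (IsLocalRing.closedPoint R)
    have h3 : U = ⊤ := (IsLocalRing.closed_point_mem_iff (U := U)).1 hU
    subst h3
    have h4 : e = (Scheme.topIso _).inv ≫ (⊤ : (Spec (CommRingCat.of R)).Opens).ι ≫ e := by
      rw [← Scheme.topIso_hom, Iso.inv_hom_id_assoc]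
    rw [h4]
    infer_instance
  -- the two sections agree at the closed point
  have hcl : t (IsLocalRing.closedPoint R) = e (IsLocalRing.closedPoint R) := by
    have h5 : Spec.map (CommRingCat.ofHom (Ideal.Quotient.mk (IsLocalRing.maximalIdeal R))) ≫ t =
        Spec.map (CommRingCat.ofHom (Ideal.Quotient.mk (IsLocalRing.maximalIdeal R))) ≫ e := by
      apply pullback.hom_ext
      · rw [Category.assoc, Category.assoc, pullback.lift_fst, pullback.lift_fst]
        have h6 := congrArg (fun z : SpecO R (R ⧸ IsLocalRing.maximalIdeal R) ⟶ H => z.left) h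
        rw [hu] at h6
        exact h6
      · rw [Category.assoc, Category.assoc, pullback.lift_snd, pullback.lift_snd]
    have h7 : ∃ y, Spec.map (CommRingCat.ofHom (Ideal.Quotient.mk (IsLocalRing.maximalIdeal R))) y =
        IsLocalRing.closedPoint R := by
      refine ⟨⟨⊥, ?_⟩, ?_⟩
      · exact Ideal.isPrime_bot
      · apply PrimeSpectrum.ext
        change Ideal.comap _ ⊥ = _
        rw [CommRingCat.hom_ofHom, ← RingHom.ker_eq_comap_bot, Ideal.mk_ker]
        rfl
    obtain ⟨y, hy⟩ := h7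
    have h8 := congrArg (fun z : Spec (CommRingCat.of (R ⧸ IsLocalRing.maximalIdeal R)) ⟶
      pullback ((𝟙 H : H ⟶ H) ^ m).left (η[H] : 𝟙_ _ ⟶ H).left => z y) h5
    rw [← hy]
    exact h8
  have hr : Set.range t ⊆ Set.range e := by
    have h9 : (t ⁻¹ᵁ e.opensRange : (Spec (CommRingCat.of R)).Opens) = ⊤ := by
      refine (IsLocalRing.closed_point_mem_iff (U := t ⁻¹ᵁ e.opensRange)).1 ?_
      exact ⟨_, hcl.symm⟩
    rintro _ ⟨x, rfl⟩
    have h10 : x ∈ (t ⁻¹ᵁ e.opensRange : (Spec (CommRingCat.of R)).Opens) := by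
      rw [h9]
      trivial
    exact h10
  have h11 := IsOpenImmersion.lift_fac e t hr
  have h12 : IsOpenImmersion.lift e t hr = 𝟙 _ := by
    have h13 := congrArg (fun z => z ≫ pullback.snd ((𝟙 H : H ⟶ H) ^ m).left (η[H] : 𝟙_ _ ⟶ H).left) h11
    rw [Category.assoc, pullback.lift_snd, pullback.lift_snd] at h13
    exact (Category.comp_id _).symm.trans h13
  rw [h12, Category.id_comp] at h11
  apply Over.OverMorphism.ext
  have h14 : g.left = t ≫ pullback.fst ((𝟙 H : H ⟶ H) ^ m).left (η[H] : 𝟙_ _ ⟶ H).left :=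
    (pullback.lift_fst _ _ _).symm
  rw [h14, ← h11, pullback.lift_fst, hu, SpecO_hom]
  exact (Category.id_comp _).symm

end K810.AbPts
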