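import Groth.Agent.AbVar.K519.SubAV
import Groth.Agent.Grpsch.MulFin
import Groth.Agent.AbVar.K509.Basic
import Mathlib.AlgebraicGeometry.Artinian
import Mathlib.AlgebraicGeometry.Morphisms.QuasiFinite

/-!
# Finite torsion of proper commutative groups over an algebraically closed field
-/

set_option autoImplicit false
universe u
open CategoryTheory CategoryTheory.Limits MonoidalCategory CartesianMonoidalCategory MonObj GrpObj AlgebraicGeometry
open Groth.Agent Groth.Agent.Books.AlgPts Groth.Agent.Books.AlgPtsGrp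

noncomputable section

namespace K810.AbTors

variable {K : Type u} [Field K] [IsAlgClosed K]

theorem discrete_of_isFinite {k : Type u} [Field k] {X : Scheme.{u}} (f : X ⟶ Spec (CommRingCat.of k)) [IsFinite f] :
    DiscreteTopology X := by
  have h1 : IsLocallyArtinian (Spec (CommRingCat.of k)) :=
    Scheme.isLocallyArtinianScheme_Spec.mpr inferInstance
  have h2 : IsLocallyArtinian X := IsLocallyArtinian.of_locallyQuasiFinite (f := f)
  infer_instance

theorem finite_torsion (Q : Over (Spec (CommRingCat.of K))) [GrpObj Q] [IsCommMonObj Q] [IsProper Q.hom] (n : ℕ)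
    (hn : 1 ≤ n) : {g : 𝟙_ (Over (Spec (CommRingCat.of K))) ⟶ Q | g ^ n = 1}.Finite := by
  obtain ⟨N, _, i, U, _, u, hi, hicl, hpb, hu, hucl, hUp, hUs, hUg, hur⟩ := K519.SubAV.exists_redIdKer ((𝟙 Q : Q ⟶ Q) ^ n)
  have : Mono i := Over.mono_of_mono_left i
  have : Mono u := Over.mono_of_mono_left u
  -- `U` is killed by `n`
  have hi1 : i ^ n = 1 := by
    have h1 : i ≫ (𝟙 Q : Q ⟶ Q) ^ n = toUnit N ≫ η[Q] := hpb.w
    rwa [MonObj.comp_pow, Category.comp_id, ← Hom.one_def] at h1
  have hU1 : ((𝟙 U : U ⟶ U) ^ n) = 1 := by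
    rw [← cancel_mono (u ≫ i)]
    have h2 : ((𝟙 U : U ⟶ U) ^ n) ≫ (u ≫ i) = (u ≫ i) ^ n := by
      rw [MonObj.pow_comp, Category.id_comp]
    rw [h2, MonObj.one_comp]
    have h3 : (u ≫ i) ^ n = u ≫ (i ^ n) := by rw [MonObj.comp_pow]
    rw [h3, hi1, MonObj.comp_one]
  -- hence finite
  have hUf : IsFinite U.hom := by
    have h4 : IsFinite ((𝟙 U : U ⟶ U) ^ n).left := Grpsch.MulFin.isFinite_pow U n hn
    rw [hU1, Hom.one_def, Over.comp_left] at h4
    have h5 : IsFinite ((toUnit U).left ≫ (η[U] : 𝟙_ _ ⟶ U).left) := h4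
    have h6 : IsSeparated (η[U] : 𝟙_ (Over (Spec (CommRingCat.of K))) ⟶ U).left := by
      infer_instance
    have h7 : IsFinite (toUnit U).left := IsFinite.of_comp _ (η[U] : 𝟙_ (Over (Spec (CommRingCat.of K))) ⟶ U).left
    exact h7
  have hUd : DiscreteTopology U.left := discrete_of_isFinite U.hom
  have hUc : IsIntegral U.left := K509.Basic.isIntegral_left U
  have hUsub : Subsingleton U.left := by
    have := (isPreconnected_univ (α := U.left)).subsingleton
    exact Set.subsingleton_univ_iff.mp this
  have hNft : LocallyOfFiniteType N.hom := by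
    rw [← Over.w i]; infer_instance
  have hNqc : QuasiCompact N.hom := by
    rw [← Over.w i]; infer_instance
  have hNd : DiscreteTopology N.left := by
    apply Sga3B.SsKer.discreteTopology_of_isOpen_pt
    have hN : IsLocallyNoetherian N.left := LocallyOfFiniteType.isLocallyNoetherian N.hom
    have := Sga3C.LocConn.locallyConnectedSpace_of_isLocallyNoetherian N.left
    have h1 : IsOpen (connectedComponent (pt η[N])) := isOpen_connectedComponent
    have h3 : connectedComponent (pt η[N]) = {pt η[N]} := by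
      apply Set.eq_singleton_iff_unique_mem.mpr
      refine ⟨mem_connectedComponent, ?_⟩
      have h4 : pt η[N] ∈ Set.range u.left := by rw [hur]; exact mem_connectedComponent
      obtain ⟨a, ha⟩ := h4
      intro y hy
      rw [← hur] at hy
      obtain ⟨b, rfl⟩ := hy
      rw [← ha, Subsingleton.elim a b]
    rwa [h3] at h1
  have hNc : CompactSpace N.left := QuasiCompact.compactSpace_of_compactSpace N.hom
  have hNfin : Finite N.left := finite_of_compact_of_discrete
  have hptfin : Finite (𝟙_ (Over (Spec (CommRingCat.of K))) ⟶ N) :=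
    Finite.of_injective (fun g => pt g) fun _ _ h => pt_injective h
  refine Set.Finite.subset (Set.finite_range fun g : 𝟙_ (Over (Spec (CommRingCat.of K))) ⟶ N => g ≫ i) ?_
  intro g hg
  have h5 : g ≫ (𝟙 Q : Q ⟶ Q) ^ n = toUnit _ ≫ η[Q] := by
    rw [MonObj.comp_pow, Category.comp_id, ← Hom.one_def]
    exact hg
  exact ⟨hpb.lift g (toUnit _) h5, hpb.lift_fst _ _ _⟩

end K810.AbTors
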