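import Groth.Agent.Proet.FiltSheaf
import Mathlib.CategoryTheory.Functor.OfSequence
import Mathlib.Algebra.Category.Grp.Adjunctions
import Mathlib.Algebra.FreeAbelianGroup.Finsupp
import Mathlib.Data.Finsupp.Encodable

/-!
# Countability of sheaf cohomology on a site with a countable basis

`C` a site, `B` a class of objects with countably many isomorphism classes and countable Hom sets, `Cov` a class of
one-morphism covers as in `FinBasis`.  `Ctb B F`: the sections of `F` over the objects of `B` are countable.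
* `ctb_of_locallySurjective`: locally surjective images of countable presheaves are countable;
* `exists_acyclic`: every countable sheaf embeds in a countable Čech acyclic sheaf (closing off an injective embedding);
* `countable_ext`: `Ext^n(Z_U, F)` is countable for `U` in `B`, `F` countable and all `n`.
-/

set_option autoImplicit false
universe w' u

open CategoryTheory Category Limits Opposite Simplicial Abelian

noncomputable section

namespace K810.Ctb

open Groth.Agent.Proet Groth.Agent.Proet.ZU Groth.Agent.Proet.CechEl Groth.Agent.Proet.CechAcyclic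
  Groth.Agent.Proet.FiltSheaf

variable {C : Type (u + 1)} [Category.{u} C] {J : GrothendieckTopology C}

/-- Countable sections over the objects of `B`. -/
def Ctb (B : C → Prop) (P : Cᵒᵖ ⥤ AddCommGrpCat.{u + 1}) : Prop :=
  ∀ U, B U → Countable (P.obj (op U))

/-- A countable set of representatives of the objects of `B`, with countable Hom sets. -/
structure Reps (B : C → Prop) where
  /-- index set -/
  I : Type u
  cI : Countable I
  /-- the representatives -/
  o : I → C
  mem : ∀ i, B (o i)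
  exists_iso : ∀ U, B U → ∃ i, Nonempty (U ≅ o i)
  cHom : ∀ i j, Countable (o i ⟶ o j)

/-- Covering sieves of objects of `B` are refined by finite covering families in `B`. -/
def FinRef (J : GrothendieckTopology C) (B : C → Prop) : Prop :=
  ∀ U, B U → ∀ S ∈ J U, ∃ (n : ℕ) (W : Fin n → C) (g : ∀ i, W i ⟶ U), (∀ i, B (W i)) ∧
    (∀ i, S (g i)) ∧ Sieve.ofArrows W g ∈ J U

theorem sep_of_ofArrows (F : Sheaf J AddCommGrpCat.{u + 1}) {U : C} {n : ℕ} {W : Fin n → C}
    (g : ∀ i, W i ⟶ U) (hg : Sieve.ofArrows W g ∈ J U) {x y : F.obj.obj (op U)}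
    (h : ∀ i, F.obj.map (g i).op x = F.obj.map (g i).op y) : x = y := by
  have hF : Presieve.IsSheaf J (F.obj ⋙ forget AddCommGrpCat.{u + 1}) :=
    (Presheaf.isSheaf_iff_isSheaf_forget J _ (forget AddCommGrpCat.{u + 1})).1 F.property |>
      (isSheaf_iff_isSheaf_of_type _ _).1
  refine (hF _ hg).isSeparatedFor.ext ?_
  rintro V f ⟨Z, a, b, ⟨i⟩, rfl⟩
  change F.obj.map (a ≫ g i).op x = F.obj.map (a ≫ g i).op y
  rw [FiltSheaf.map_comp_apply, FiltSheaf.map_comp_apply, h i]

section Basic

variable {B : C → Prop} (R : Reps B)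

theorem countable_hom (j : R.I) {U : C} (hU : B U) : Countable (R.o j ⟶ U) := by
  obtain ⟨i, ⟨e⟩⟩ := R.exists_iso U hU
  have := R.cHom j i
  exact Function.Injective.countable (f := fun g : R.o j ⟶ U => g ≫ e.hom)
    (fun a b h => (cancel_mono e.hom).1 h)

include R in
/-- Locally surjective images of countable presheaves are countable. -/
theorem ctb_of_locallySurjective (hR : FinRef J B) {P : Cᵒᵖ ⥤ AddCommGrpCat.{u + 1}}
    {F : Sheaf J AddCommGrpCat.{u + 1}} (φ : P ⟶ F.obj) (hφ : Presheaf.IsLocallySurjective J φ)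
    (hP : Ctb B P) : Ctb B F.obj := by
  intro U hU
  have := R.cI
  let D := Σ n : ℕ, Σ w : Fin n → R.I, Σ (_ : ∀ k, R.o (w k) ⟶ U), ∀ k, P.obj (op (R.o (w k)))
  have hD : Countable D := by
    have h1 : ∀ i : R.I, Countable (R.o i ⟶ U) := fun i => countable_hom R i hU
    have h2 : ∀ i : R.I, Countable (P.obj (op (R.o i))) := fun i => hP _ (R.mem i)
    infer_instance
  have key : ∀ x : F.obj.obj (op U), ∃ d : D, Sieve.ofArrows _ d.2.2.1 ∈ J U ∧
      ∀ k, φ.app _ (d.2.2.2 k) = F.obj.map (d.2.2.1 k).op x := by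
    intro x
    obtain ⟨n, W, g, hW, hg, hc⟩ := hR U hU _ (Presheaf.imageSieve_mem J φ x)
    choose p hp using hg
    choose w e using fun k => R.exists_iso (W k) (hW k)
    refine ⟨⟨n, w, fun k => (e k).some.inv ≫ g k, fun k => P.map (e k).some.inv.op (p k)⟩, ?_, ?_⟩
    · refine J.superset_covering ?_ hc
      rw [Sieve.ofArrows, Sieve.generate_le_iff]
      rintro V f ⟨k⟩
      refine ⟨_, (e k).some.hom, (e k).some.inv ≫ g k, ⟨k⟩, ?_⟩
      rw [← Category.assoc, (e k).some.hom_inv_id, Category.id_comp]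
    · intro k
      have h1 := ConcreteCategory.congr_hom (φ.naturality (e k).some.inv.op) (p k)
      refine h1.trans ?_
      rw [FiltSheaf.map_comp_apply, ← hp k]
      rfl
  choose d hd1 hd2 using key
  refine Function.Injective.countable (f := d) fun x y hxy => ?_
  refine sep_of_ofArrows F (d x).2.2.1 (hd1 x) fun k => ?_
  rw [← hd2 x k]
  have : ∀ (d' : D) (hd' : d' = d y), ∀ k, φ.app _ (d'.2.2.2 k) = F.obj.map (d'.2.2.1 k).op y := by
    rintro _ rfl
    exact hd2 y
  exact this (d x) hxy k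

include R in
theorem ctb_of_epi (hR : FinRef J B) [HasSheafify J AddCommGrpCat.{u + 1}]
    [J.WEqualsLocallyBijective AddCommGrpCat.{u + 1}] {F G : Sheaf J AddCommGrpCat.{u + 1}}
    (φ : F ⟶ G) [Epi φ] (hF : Ctb B F.obj) : Ctb B G.obj := by
  have : Sheaf.IsLocallySurjective φ :=
    (Sheaf.isLocallySurjective_iff_epi' AddCommGrpCat.{u + 1} φ).2 inferInstance
  exact ctb_of_locallySurjective R hR φ.hom this hF

include R in
theorem ctb_sheafify (hR : FinRef J B) [HasSheafify J AddCommGrpCat.{u + 1}]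
    [J.WEqualsLocallyBijective AddCommGrpCat.{u + 1}] {P : Cᵒᵖ ⥤ AddCommGrpCat.{u + 1}}
    (hP : Ctb B P) : Ctb B ((presheafToSheaf J AddCommGrpCat.{u + 1}).obj P).obj :=
  ctb_of_locallySurjective R hR (F := (presheafToSheaf J AddCommGrpCat.{u + 1}).obj P)
    (toSheafify J P) inferInstance hP

end Basic

section Free

variable {T : Type (u + 1)} (t : T → C)

/-- The presheaf of sets `W ↦ Σ t, (W ⟶ o t)`. -/
def setPre : Cᵒᵖ ⥤ Type (u + 1) where
  obj W := Σ a : T, ULift.{u + 1} (W.unop ⟶ t a)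
  map f := ↾fun x => ⟨x.1, ⟨f.unop ≫ x.2.down⟩⟩
  map_id W := by
    apply ConcreteCategory.hom_ext
    rintro ⟨a, ⟨g⟩⟩
    change (⟨a, ⟨(𝟙 W).unop ≫ g⟩⟩ : Σ a : T, ULift.{u + 1} (W.unop ⟶ t a)) = ⟨a, ⟨g⟩⟩
    rw [unop_id, Category.id_comp]
  map_comp {W W' W''} f g := by
    apply ConcreteCategory.hom_ext
    rintro ⟨a, ⟨h⟩⟩
    change (⟨a, ⟨(f ≫ g).unop ≫ h⟩⟩ : Σ a : T, ULift.{u + 1} (W''.unop ⟶ t a)) =
      ⟨a, ⟨g.unop ≫ f.unop ≫ h⟩⟩
    rw [unop_comp, Category.assoc]

/-- The free abelian presheaf on a family of objects. -/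
def freePre : Cᵒᵖ ⥤ AddCommGrpCat.{u + 1} := setPre t ⋙ AddCommGrpCat.free.{u + 1}

variable {t}

/-- The map from `freePre` given by a family of sections. -/
def freeDesc {P : Cᵒᵖ ⥤ AddCommGrpCat.{u + 1}} (s : ∀ a : T, P.obj (op (t a))) : freePre t ⟶ P :=
  ((AddCommGrpCat.adj.{u + 1}.whiskerRight Cᵒᵖ).homEquiv (setPre t) P).symm
    { app := fun W => ↾fun x => P.map x.2.down.op (s x.1)
      naturality := by
        intro W W' f
        ext x
        obtain ⟨a, ⟨g⟩⟩ := x
        change P.map (f.unop ≫ g).op (s a) = P.map f (P.map g.op (s a))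
        rw [op_comp, P.map_comp]
        rfl }

/-- The generators. -/
def freeGen {W : C} (a : T) (g : W ⟶ t a) : (freePre t).obj (op W) :=
  FreeAbelianGroup.of (⟨a, ⟨g⟩⟩ : Σ a : T, ULift.{u + 1} (W ⟶ t a))

theorem freeDesc_gen {P : Cᵒᵖ ⥤ AddCommGrpCat.{u + 1}} (s : ∀ a : T, P.obj (op (t a))) {W : C}
    (a : T) (g : W ⟶ t a) : (freeDesc s).app (op W) (freeGen a g) = P.map g.op (s a) := by
  change FreeAbelianGroup.lift _ (FreeAbelianGroup.of _) = _
  rw [FreeAbelianGroup.lift_apply_of]
  rfl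

theorem countable_freeAbelianGroup (X : Type*) [Countable X] : Countable (FreeAbelianGroup X) :=
  (FreeAbelianGroup.equivFinsupp X).injective.countable

theorem ctb_freePre {B : C → Prop} [Countable T] (h : ∀ (W : C) (a : T), B W → Countable (W ⟶ t a)) :
    Ctb B (freePre t) := by
  intro W hW
  have h1 : ∀ a : T, Countable (W ⟶ t a) := fun a => h W a hW
  have h2 : Countable (Σ a : T, ULift.{u + 1} (W ⟶ t a)) := by
    infer_instance
  exact countable_freeAbelianGroup (Σ a : T, ULift.{u + 1} (W ⟶ t a))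

end Free

end K810.Ctb
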