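import Groth.Agent.TateLoc.K810.CtbStep

/-!
# Countability of `Ext^n(Z_U, F)` for countable `F`
-/

set_option autoImplicit false
universe w' u

open CategoryTheory Category Limits Opposite Simplicial Abelian

noncomputable section

namespace K810.Ctb

open Groth.Agent.Proet Groth.Agent.Proet.ZU Groth.Agent.Proet.CechEl Groth.Agent.Proet.CechAcyclic
  Groth.Agent.Proet.FiltSheaf

attribute [local irreducible] Groth.Agent.Proet.CechEl.cd

variable {C : Type (u + 1)} [Category.{u} C] {J : GrothendieckTopology C}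

variable {B : C → Prop} (R : Reps B) (hR : FinRef J B) [HasSheafify J AddCommGrpCat.{u + 1}]
  [J.WEqualsLocallyBijective AddCommGrpCat.{u + 1}] [HasFiniteWidePullbacks C]
  {Cov : ∀ ⦃V U : C⦄, (V ⟶ U) → Prop}

omit [J.WEqualsLocallyBijective AddCommGrpCat.{u + 1}] [HasFiniteWidePullbacks C] in
theorem app_injective_of_mono {F G : Sheaf J AddCommGrpCat.{u + 1}} (φ : F ⟶ G) [Mono φ] (U : C) :
    Function.Injective (φ.hom.app (op U)) := by
  intro s s' h
  apply (ev J U F).symm.injective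
  rw [← cancel_mono φ, ev_symm_comp, ev_symm_comp]
  exact congrArg _ h

include R hR in
/-- One step of closing off, inside `J₀`. -/
theorem exists_step' (hCov : ∀ ⦃V U : C⦄ (f : V ⟶ U), Cov f → B V ∧ B U)
    (hn : ∀ ⦃V U : C⦄ (f : V ⟶ U), Cov f → ∀ n : ℕ, B ((nerve f) _⦋n⦌))
    (hiso : ∀ ⦃V U V' U' : C⦄ (f : V ⟶ U) (f' : V' ⟶ U') (_ : Arrow.mk f ≅ Arrow.mk f'), Cov f → Cov f')
    {J₀ : Sheaf J AddCommGrpCat.{u + 1}}
    (hJ₀ : ∀ ⦃V U : C⦄ (f : V ⟶ U), Cov f → CechExact (nerve f) J₀.obj) (s : St B J₀) :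
    ∃ (s' : St B J₀) (h : s.A ⟶ s'.A), h ≫ s'.ι = s.ι ∧
      ∀ ⦃V U : C⦄ (f : V ⟶ U), Cov f → ∀ (n : ℕ) (x : s.A.obj.obj (op ((nerve f) _⦋n + 1⦌))),
        cd (nerve f) s.A.obj (n + 1) x = 0 →
        ∃ y : s'.A.obj.obj (op ((nerve f) _⦋n⦌)),
          cd (nerve f) s'.A.obj n y = h.hom.app (op ((nerve f) _⦋n + 1⦌)) x := by
  obtain ⟨s', h, hh, hy⟩ := exists_step R hR hCov hn hiso hJ₀ s
  let s'' : St B J₀ := ⟨Limits.image s'.ι, Limits.image.ι s'.ι, ctb_of_epi R hR (Limits.factorThruImage s'.ι) s'.ctb⟩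
  refine ⟨s'', h ≫ Limits.factorThruImage s'.ι, ?_, ?_⟩
  · change (h ≫ Limits.factorThruImage s'.ι) ≫ Limits.image.ι s'.ι = s.ι
    rw [Category.assoc, Limits.image.fac, hh]
  · intro V U f hf n x hx
    obtain ⟨y, hy⟩ := hy f hf n x hx
    refine ⟨(Limits.factorThruImage s'.ι).hom.app (op ((nerve f) _⦋n⦌)) y, ?_⟩
    apply app_injective_of_mono (Limits.image.ι s'.ι) ((nerve f) _⦋n + 1⦌)
    have h1 := cd_naturality (nerve f) (Limits.factorThruImage s'.ι).hom n y
    refine (congrArg ((Limits.image.ι s'.ι).hom.app (op ((nerve f) _⦋n + 1⦌))) h1).trans ?_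
    have h2 : ∀ w : s'.A.obj.obj (op ((nerve f) _⦋n + 1⦌)),
        (Limits.image.ι s'.ι).hom.app (op ((nerve f) _⦋n + 1⦌))
          ((Limits.factorThruImage s'.ι).hom.app (op ((nerve f) _⦋n + 1⦌)) w) =
        s'.ι.hom.app (op ((nerve f) _⦋n + 1⦌)) w := fun w =>
      congrArg (fun φ : s'.A ⟶ J₀ => φ.hom.app (op ((nerve f) _⦋n + 1⦌)) w) (Limits.image.fac s'.ι)
    refine (h2 _).trans (hy.trans ?_)
    refine Eq.trans ?_ (h2 _).symm
    exact (congrArg (fun φ : s.A ⟶ J₀ => φ.hom.app (op ((nerve f) _⦋n + 1⦌)) x) hh).symm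

section Seq

variable [HasColimitsOfShape ℕ AddCommGrpCat.{u + 1}]
  [PreservesColimitsOfShape ℕ (forget AddCommGrpCat.{u + 1})]
  (hB : FinBasis.{u + 1} J B Cov)

include R hR hB in
/-- Every countable sheaf embeds into a countable Čech acyclic sheaf. -/
theorem exists_acyclic [EnoughInjectives (Sheaf J AddCommGrpCat.{u + 1})]
    (hCov : ∀ ⦃V U : C⦄ (f : V ⟶ U), Cov f → B V ∧ B U)
    (hiso : ∀ ⦃V U V' U' : C⦄ (f : V ⟶ U) (f' : V' ⟶ U') (_ : Arrow.mk f ≅ Arrow.mk f'), Cov f → Cov f')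
    (F : Sheaf J AddCommGrpCat.{u + 1}) (hF : Ctb B F.obj) :
    ∃ (I : Sheaf J AddCommGrpCat.{u + 1}) (i : F ⟶ I), Mono i ∧ Ctb B I.obj ∧
      ∀ ⦃V U : C⦄ (f : V ⟶ U), Cov f → CechExact (nerve f) I.obj := by
  let J₀ := Injective.under F
  have hJ₀ : ∀ ⦃V U : C⦄ (f : V ⟶ U), Cov f → CechExact (nerve f) J₀.obj := fun V U f _ =>
    cechExact_of_injective_sheaf.{u + 1} (nerve f) (nerve_coneOp f) J₀
  choose next h hh hnext using fun s : St B J₀ => exists_step' R hR hCov hB.nerve_mem hiso hJ₀ s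
  let seq : ℕ → St B J₀ := fun n => Nat.rec ⟨F, Injective.ι F, hF⟩ (fun _ s => next s) n
  have hseq : ∀ n, seq (n + 1) = next (seq n) := fun n => rfl
  let D : ℕ ⥤ Sheaf J AddCommGrpCat.{u + 1} :=
    Functor.ofSequence (X := fun n => (seq n).A) (fun n => h (seq n))
  let c : Cocone D := colimit.cocone D
  have hc : IsColimit c := colimit.isColimit D
  -- the map to `J₀`
  let e : Cocone D :=
    { pt := J₀
      ι := NatTrans.ofSequence (fun n => (seq n).ι) (fun n => by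
        have h1 : D.map (homOfLE (Nat.le_add_right n 1)) = h (seq n) :=
          Functor.ofSequence_map_homOfLE_succ _ n
        rw [h1]
        exact (hh (seq n)).trans (Category.comp_id _).symm) }
  have he : c.ι.app 0 ≫ hc.desc e = Injective.ι F := hc.fac e 0
  refine ⟨c.pt, c.ι.app 0, ?_, ?_, ?_⟩
  · have h0 : Mono (Injective.ι F) := inferInstance
    have h1 : Mono (c.ι.app 0 ≫ hc.desc e) := he ▸ h0
    exact @mono_of_mono _ _ _ _ _ (c.ι.app 0) (hc.desc e) h1
  · intro U hU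
    have h1 : ∀ n : ℕ, Countable ((D.obj n).obj.obj (op U)) := fun n => (seq n).ctb U hU
    refine Function.Surjective.countable
      (f := fun z : Σ n : ℕ, ((D.obj n).obj.obj (op U)) => (c.ι.app z.1).hom.app (op U) z.2) ?_
    intro x
    obtain ⟨k, t, ht⟩ := rep D hc hB U hU x
    exact ⟨⟨k, t⟩, ht⟩
  · intro V U f hf n x hx
    obtain ⟨k, t, rfl⟩ := rep D hc hB _ (hB.nerve_mem f hf (n + 1)) x
    have h1 : (c.ι.app k).hom.app _ (cd (nerve f) (D.obj k).obj (n + 1) t) = 0 :=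
      (cd_naturality (nerve f) (c.ι.app k).hom (n + 1) t).symm.trans hx
    obtain ⟨l, a, hl⟩ := eq_zero D hc hB _ (hB.nerve_mem f hf (n + 2)) k _ h1
    have h2 : cd (nerve f) (D.obj l).obj (n + 1) ((D.map a).hom.app _ t) = 0 :=
      (cd_naturality (nerve f) (D.map a).hom (n + 1) t).trans hl
    obtain ⟨y, hy⟩ := hnext (seq l) f hf n ((D.map a).hom.app _ t) h2
    refine ⟨(c.ι.app (l + 1)).hom.app (op ((nerve f) _⦋n⦌)) y, ?_⟩
    have h3 := cd_naturality (nerve f) (c.ι.app (l + 1)).hom n y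
    refine h3.trans ?_
    refine (congrArg ((c.ι.app (l + 1)).hom.app (op ((nerve f) _⦋n + 1⦌))) hy).trans ?_
    have h4 : D.map (homOfLE (Nat.le_add_right l 1)) = h (seq l) :=
      Functor.ofSequence_map_homOfLE_succ _ l
    have h5 := ι_D_map_apply D (c := c) (homOfLE (Nat.le_add_right l 1)) ((nerve f) _⦋n + 1⦌)
      ((D.map a).hom.app _ t)
    rw [h4] at h5
    refine h5.trans ?_
    exact ι_D_map_apply D (c := c) a ((nerve f) _⦋n + 1⦌) t

variable [HasExt.{w'} (Sheaf J AddCommGrpCat.{u + 1})]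

include R hR hB in
/-- **Countability of cohomology.** -/
theorem countable_ext [EnoughInjectives (Sheaf J AddCommGrpCat.{u + 1})]
    (hCov : ∀ ⦃V U : C⦄ (f : V ⟶ U), Cov f → B V ∧ B U)
    (hiso : ∀ ⦃V U V' U' : C⦄ (f : V ⟶ U) (f' : V' ⟶ U') (_ : Arrow.mk f ≅ Arrow.mk f'), Cov f → Cov f')
    (U : C) (hU : B U) (n : ℕ) :
    ∀ (F : Sheaf J AddCommGrpCat.{u + 1}), Ctb B F.obj →
      Countable (Ext.{w'} ((zF.{u + 1} J).obj U) F n) := by
  induction n with
  | zero =>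
    intro F hF
    have := hF U hU
    exact Function.Injective.countable
      ((ev J U F).injective.comp Ext.addEquiv₀.injective)
  | succ n ih =>
    intro F hF
    obtain ⟨I, i, hi, hI, hac⟩ := exists_acyclic R hR hB hCov hiso F hF
    let S : ShortComplex (Sheaf J AddCommGrpCat.{u + 1}) :=
      ShortComplex.mk i (cokernel.π i) (cokernel.condition i)
    have hS : S.ShortExact := { exact := ShortComplex.exact_cokernel i }
    have hQ : Ctb B S.X₃.obj := ctb_of_epi R hR (cokernel.π i) hI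
    have := ih S.X₃ hQ
    refine Function.Surjective.countable
      (f := fun x : Ext.{w'} ((zF.{u + 1} J).obj U) S.X₃ n => x.comp hS.extClass (rfl : n + 1 = n + 1)) ?_
    intro x
    have hx : x.comp (Ext.mk₀ S.f) (add_zero (n + 1)) = 0 :=
      ext_eq_zero_of_cech hB.isCechBasis I hac U hU n _
    obtain ⟨y, hy⟩ := Ext.covariant_sequence_exact₁ _ hS x hx rfl
    exact ⟨y, hy⟩

end Seq

end K810.Ctb
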