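import Groth.Agent.TateLoc.K810.CtbExt
import Groth.Agent.Etdl.H432.Sec
import Mathlib.Algebra.MvPolynomial.Cardinal
import Mathlib.AlgebraicGeometry.Morphisms.FiniteType
import Groth.Prelude.Def_BigSite

/-!
# The countable basis of affine schemes of finite type for the big fppf site of a countable Noetherian ring
-/

set_option autoImplicit false
universe u

open CategoryTheory Category Limits Opposite Simplicial Abelian AlgebraicGeometry

noncomputable section

namespace K810.CtbFppf

open K810.Ctb Groth.Agent.Proet Groth.Agent.Proet.ZU Groth.Agent.Proet.CechEl Groth.Agent.Proet.CechAcyclic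
  Groth.Agent.Proet.FiltSheaf

section Nerve

variable {C : Type*} [Category* C] {V U : C} (f : V ⟶ U)
  [∀ n : ℕ, HasWidePullback.{0} (Arrow.mk f).right
    (fun _ : Fin (n + 1) => (Arrow.mk f).left) fun _ => (Arrow.mk f).hom]

/-- The `n + 1`-st term of the Cech nerve is the fibre product of the `n`-th with the source. -/
theorem isPullback_nerve (n : ℕ) :
    IsPullback ((nerve f).δ (Fin.last (n + 1))) (nπ f (n + 1) (Fin.last (n + 1))) (nbase f n) f := by
  refine ⟨⟨by rw [nδ_base, nπ_comp]⟩, ⟨?_⟩⟩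
  refine PullbackCone.IsLimit.mk _
    (fun s => nlift f (n + 1) (s.fst ≫ nbase f n)
      (fun j => Fin.lastCases s.snd (fun j => s.fst ≫ nπ f n j) j) ?_) ?_ ?_ ?_
  · intro j
    refine Fin.lastCases ?_ (fun j => ?_) j
    · rw [Fin.lastCases_last]
      exact s.condition.symm
    · rw [Fin.lastCases_castSucc, Category.assoc, nπ_comp]
  · intro s
    apply nhom_ext
    intro j
    rw [Category.assoc, nδ_π, nlift_π, Fin.succAbove_last, Fin.lastCases_castSucc]
  · intro s
    rw [nlift_π, Fin.lastCases_last]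
  · intro s m h1 h2
    apply nhom_ext
    intro j
    rw [nlift_π]
    refine Fin.lastCases ?_ (fun j => ?_) j
    · rw [Fin.lastCases_last, ← h2]
    · rw [Fin.lastCases_castSucc, ← h1, Category.assoc, nδ_π, Fin.succAbove_last]

theorem isPullback_nerve_zero : IsPullback (nbase f 0) (nπ f 0 0) (𝟙 U) f := by
  refine ⟨⟨by rw [nπ_comp, Category.comp_id]⟩, ⟨?_⟩⟩
  refine PullbackCone.IsLimit.mk _ (fun s => nlift f 0 s.fst (fun _ => s.snd) ?_) ?_ ?_ ?_
  · intro j
    rw [← s.condition, Category.comp_id]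
  · intro s
    rw [← nπ_comp f 0 0, ← Category.assoc, nlift_π, ← s.condition, Category.comp_id]
  · intro s
    rw [nlift_π]
  · intro s m h1 h2
    apply nhom_ext
    intro j
    obtain rfl : j = 0 := Fin.fin_one_eq_zero j
    rw [nlift_π, h2]

end Nerve

variable {S : Scheme.{u}}

/-- Affine schemes of finite type. -/
def BB (U : Over S) : Prop := IsAffine U.left ∧ LocallyOfFiniteType U.hom

/-- fppf covers between affine schemes of finite type. -/
def CC ⦃V U : Over S⦄ (f : V ⟶ U) : Prop :=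
  BB V ∧ BB U ∧ Flat f.left ∧ LocallyOfFinitePresentation f.left ∧ Surjective f.left

theorem BB.of_isPullback {P V W U : Over S} {p : P ⟶ V} {q : P ⟶ W} {f : V ⟶ U} {g : W ⟶ U}
    (h : IsPullback p q f g) (hV : BB V) (hW : BB W) (hU : BB U) : BB P := by
  have h1 := h.map (Over.forget S)
  have := hV.1
  have := hW.1
  have := hU.1
  have := hV.2
  have := hW.2
  have h2 : IsPullback p.left q.left f.left g.left := h1
  refine ⟨.of_isPullback h2, ?_⟩
  have h3 : LocallyOfFiniteType g.left := by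
    have : LocallyOfFiniteType (g.left ≫ U.hom) := by
      rw [Over.w g]
      infer_instance
    exact locallyOfFiniteType_of_comp g.left U.hom
  have h4 : LocallyOfFiniteType p.left := MorphismProperty.of_isPullback h2.flip h3
  rw [← Over.w p]
  infer_instance

theorem BB.iso {U V : Over S} (e : U ≅ V) (h : BB U) : BB V := by
  have := h.1
  have := h.2
  have h1 : IsIso e.inv.left := inferInstanceAs (IsIso ((Over.forget S).map e.inv))
  refine ⟨.of_isIso e.inv.left, ?_⟩
  rw [← Over.w e.inv]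
  infer_instance

theorem CC.iso ⦃V U V' U' : Over S⦄ (f : V ⟶ U) (f' : V' ⟶ U') (a : Arrow.mk f ≅ Arrow.mk f')
    (h : CC f) : CC f' := by
  obtain ⟨h1, h2, h3, h4, h5⟩ := h
  let eV : V ≅ V' := Arrow.leftFunc.mapIso a
  let eU : U ≅ U' := Arrow.rightFunc.mapIso a
  have e : f' = eV.inv ≫ f ≫ eU.hom := by
    rw [Iso.eq_inv_comp]
    exact a.hom.w
  have i1 : IsIso eV.inv.left := inferInstanceAs (IsIso ((Over.forget S).map eV.inv))
  have i2 : IsIso eU.hom.left := inferInstanceAs (IsIso ((Over.forget S).map eU.hom))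
  have e' : f'.left = eV.inv.left ≫ f.left ≫ eU.hom.left := by
    rw [e]
    rfl
  refine ⟨h1.iso eV, h2.iso eU, ?_, ?_, ?_⟩ <;> rw [e'] <;> infer_instance

theorem CC.nerve_mem ⦃V U : Over S⦄ (f : V ⟶ U) (h : CC f) (n : ℕ) : BB ((nerve f) _⦋n⦌) := by
  induction n with
  | zero => exact BB.of_isPullback (isPullback_nerve_zero f) h.2.1 h.1 h.2.1
  | succ n ih => exact BB.of_isPullback (isPullback_nerve f n) ih h.1 h.2.1


/-! ### Finite disjoint unions -/

section Sigma

variable {n : ℕ} (W : Fin n → Over S)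

/-- The disjoint union of finitely many schemes over `S`. -/
def sg : Over S := Over.mk (Sigma.desc fun i => (W i).hom)

/-- The inclusions. -/
def si (i : Fin n) : W i ⟶ sg W :=
  Over.homMk (Sigma.ι (fun i => (W i).left) i) (Sigma.ι_desc _ _)

variable {W} in
/-- The universal property. -/
def sd {U : Over S} (g : ∀ i, W i ⟶ U) : sg W ⟶ U :=
  Over.homMk (Sigma.desc fun i => (g i).left) (by
    apply Sigma.hom_ext
    intro i
    refine (Sigma.ι_desc_assoc (fun i => (g i).left) i U.hom).trans ?_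
    exact (Over.w (g i)).trans (Sigma.ι_desc (fun i => (W i).hom) i).symm)

theorem si_sd {U : Over S} (g : ∀ i, W i ⟶ U) (i : Fin n) : si W i ≫ sd g = g i := by
  ext1
  exact Sigma.ι_desc _ _

open Groth.Agent.Etdl.H432.Sec in
theorem isCov_si : IsCov (si W) := by
  intro x
  obtain ⟨y, hy⟩ := (sigmaOpenCover (fun i => (W i).left)).covers x
  refine ⟨(sigmaOpenCover (fun i => (W i).left)).idx x, ?_, ?_, ⟨y, hy⟩⟩
  · exact inferInstanceAs (Flat (Sigma.ι (fun i => (W i).left) _))
  · exact inferInstanceAs (LocallyOfFinitePresentation (Sigma.ι (fun i => (W i).left) _))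

open Groth.Agent.Etdl.H432.Sec in
theorem eq_of_isEmpty (H : EtFppf.AbF S) {Z : Over S} (hZ : IsEmpty Z.left) (s t : Γs H Z) : s = t :=
  sep H (ι := PEmpty.{1}) (V := fun i => i.elim) (g := fun i => i.elim) (fun x => hZ.elim x) s t
    (fun i => i.elim)

open Groth.Agent.Etdl.H432.Sec in
theorem bijective_sg (H : EtFppf.AbF S) :
    Function.Bijective (fun (s : H.obj.obj (op (sg W))) (i : Fin n) => H.obj.map (si W i).op s) := by
  constructor
  · intro s t h
    exact sep H (isCov_si W) s t (fun i => congrFun h i)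
  · intro s
    obtain ⟨t, ht⟩ := glue H (isCov_si W) s (fun i j Z a b hab => by
      have hl : a.left ≫ Sigma.ι (fun i => (W i).left) i = b.left ≫ Sigma.ι (fun i => (W i).left) j :=
        congrArg (fun q : Z ⟶ sg W => q.left) hab
      by_cases hij : i = j
      · subst hij
        have h1 : a.left = b.left := (cancel_mono (Sigma.ι (fun i => (W i).left) i)).1 hl
        have h2 : a = b := by
          ext1
          exact h1
        rw [h2]
      · exact eq_of_isEmpty H (isEmpty_of_commSq_sigmaι_of_ne ⟨hl⟩ hij) _ _)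
    exact ⟨t, funext ht⟩


theorem isAffine_sg (h : ∀ i, IsAffine (W i).left) : IsAffine (sg W).left := by
  have := h
  exact inferInstanceAs (IsAffine (∐ fun i => (W i).left))

end Sigma

/-! ### Refining covers -/

theorem BB.source {Y T : Over S} (g : Y ⟶ T) (hg : LocallyOfFiniteType g.left) (hT : BB T)
    (hY : IsAffine Y.left) : BB Y := by
  have := hT.2
  refine ⟨hY, ?_⟩
  rw [← Over.w g]
  infer_instance

theorem exists_BB {T : Over S} (hT : BB T) {R : Sieve T} (hR : R ∈ EtFppf.J S T) (x : T.left) :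
    ∃ (Y : Over S) (g : Y ⟶ T), R g ∧ Flat g.left ∧ LocallyOfFinitePresentation g.left ∧
      BB Y ∧ x ∈ Set.range g.left := by
  obtain ⟨Y, g, hg, h1, h2, y, rfl⟩ := Groth.Agent.Etrest.BigEtSite.mem_J_iff.1 hR x
  obtain ⟨W, hW, hyW, -⟩ := exists_isAffineOpen_mem_and_subset (x := y) (U := ⊤) (by trivial)
  let Y' : Over S := Over.mk (W.ι ≫ Y.hom)
  let i : Y' ⟶ Y := Over.homMk W.ι rfl
  have h3 : LocallyOfFinitePresentation (i ≫ g).left :=
    inferInstanceAs (LocallyOfFinitePresentation (W.ι ≫ g.left))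
  refine ⟨Y', i ≫ g, R.downward_closed hg i, ?_, h3, ?_, ?_⟩
  · exact inferInstanceAs (Flat (W.ι ≫ g.left))
  · exact BB.source (i ≫ g) inferInstance hT hW
  · exact ⟨(⟨y, hyW⟩ : W), rfl⟩

/-- Finite refinement by affine schemes of finite type. -/
theorem exists_finite_BB {T : Over S} (hT : BB T) {R : Sieve T} (hR : R ∈ EtFppf.J S T) :
    ∃ (n : ℕ) (V : Fin n → Over S) (f : ∀ i, V i ⟶ T), (∀ i, R (f i)) ∧
      (∀ i, BB (V i)) ∧ (∀ i, Flat (f i).left ∧ LocallyOfFinitePresentation (f i).left) ∧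
        Groth.Agent.Etdl.H432.Sec.IsCov f := by
  have := hT.1
  choose Y g h1 h2 h3 h4 h5 using exists_BB hT hR
  obtain ⟨t, ht⟩ := isCompact_univ.elim_finite_subcover (fun x => Set.range (g x).left)
    (fun x => (g x).left.isOpenMap.isOpen_range) (fun x _ => Set.mem_iUnion.2 ⟨x, h5 x⟩)
  refine ⟨t.card, fun i => Y (t.equivFin.symm i), fun i => g (t.equivFin.symm i),
    fun i => h1 _, fun i => h4 _, fun i => ⟨h2 _, h3 _⟩, ?_⟩
  intro x
  obtain ⟨y, hy⟩ := Set.mem_iUnion.1 (ht (Set.mem_univ x))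
  obtain ⟨hyt, hy⟩ := Set.mem_iUnion.1 hy
  refine ⟨t.equivFin ⟨y, hyt⟩, h2 _, h3 _, ?_⟩
  change x ∈ Set.range (g (t.equivFin.symm (t.equivFin ⟨y, hyt⟩)).1).left
  rw [Equiv.symm_apply_apply]
  exact hy

theorem finRef (S : Scheme.{u}) : FinRef (EtFppf.J S) (BB (S := S)) := by
  intro U hU R hR
  obtain ⟨n, V, f, h1, h2, h3, h4⟩ := exists_finite_BB hU hR
  exact ⟨n, V, f, h2, h1, h4.mem_J⟩

set_option backward.isDefEq.respectTransparency.types false in
theorem lfp_sigmaDesc {X : Scheme.{u}} {n : ℕ} {Y : Fin n → Scheme.{u}} (f : ∀ i, Y i ⟶ X)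
    (hf : ∀ i, LocallyOfFinitePresentation (f i)) : LocallyOfFinitePresentation (Sigma.desc f) :=
  IsZariskiLocalAtSource.sigmaDesc hf

theorem finBasis (S : Scheme.{u}) : FinBasis.{u + 1} (EtFppf.J S) (BB (S := S)) (@CC S) where
  mem V U f hf := by
    rw [Groth.Agent.Etrest.BigEtSite.mem_J_iff]
    intro x
    obtain ⟨-, -, h1, h2, ⟨h3⟩⟩ := hf
    obtain ⟨y, hy⟩ := h3 x
    exact ⟨V, f, ⟨V, 𝟙 V, f, ⟨⟩, Category.id_comp f⟩, h1, h2, y, hy⟩
  nerve_mem V U f hf n := CC.nerve_mem f hf n
  exists_cov U hU R hR := by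
    obtain ⟨n, V, f, h1, h2, h3, h4⟩ := exists_finite_BB hU hR
    have h5 : LocallyOfFinitePresentation (sd f).left :=
      lfp_sigmaDesc _ fun i => (h3 i).2
    have h6 : Flat (sd f).left := by
      have := fun i => (h3 i).1
      exact inferInstanceAs (Flat (Sigma.desc fun i => (f i).left))
    refine ⟨sg V, sd f, ⟨?_, hU, h6, h5, ?_⟩, n, V, si V, ?_, fun F => bijective_sg V F⟩
    · exact BB.source (sd f) inferInstance hU (isAffine_sg V fun i => (h2 i).1)
    · refine ⟨fun x => ?_⟩
      obtain ⟨i, -, -, y, rfl⟩ := h4 x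
      refine ⟨(si V i).left y, ?_⟩
      rw [← Scheme.Hom.comp_apply, ← Over.comp_left, si_sd]
    · intro i
      rw [si_sd]
      exact h1 i

end K810.CtbFppf
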