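import Groth.Agent.TateLoc.K810.CtbReps
import Mathlib.Algebra.Category.Grp.FilteredColimits

/-!
# Countability of fppf cohomology over a countable Noetherian ring
-/

set_option autoImplicit false
universe u

open CategoryTheory Category Limits Opposite AlgebraicGeometry

noncomputable section

namespace K810.CtbFppf

open K810.Ctb Groth.Agent.Proet Groth.Agent.Proet.ZU

variable {S : Scheme.{u}} [IsAffine S] [Countable Γ(S, ⊤)] [IsNoetherianRing Γ(S, ⊤)]

/-- The fppf cohomology of a sheaf with countable sections over the affine schemes of finite type over a countable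
Noetherian ring is countable. -/
theorem countable_H (F : BigSite.Ab Scheme.fppfPrecoverage S) (hF : Ctb (BB (S := S)) F.obj) (n : ℕ) :
    Countable (BigSite.H Scheme.fppfPrecoverage S F n) := by
  have hT : IsTerminal (Over.mk (𝟙 S)) := Over.mkIdTerminal
  have hU : BB (Over.mk (𝟙 S)) := ⟨inferInstanceAs (IsAffine S), inferInstanceAs (LocallyOfFiniteType (𝟙 S))⟩
  have hP : PreservesFilteredColimitsOfSize.{0, 0} (forget AddCommGrpCat.{u + 1}) :=
    preservesFilteredColimitsOfSize_shrink.{0, u + 1, 0, u + 1} _
  have h1 := countable_ext.{u + 1} (J := EtFppf.J S) (Cov := @CC S) (reps S) (finRef S) (finBasis S)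
    (fun V U f hf => ⟨hf.1, hf.2.1⟩) (fun V U V' U' f f' a h => CC.iso f f' a h) (Over.mk (𝟙 S)) hU n F hF
  have e : Groth.Agent.Proet.ZU.HU F n (Over.mk (𝟙 S)) ≃+ Sheaf.H F n := HTop hT F n
  exact e.symm.injective.countable

end K810.CtbFppf
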