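import Groth.Agent.TateLoc.K810.CtbFppf

/-!
# Countably many affine schemes of finite type over a countable Noetherian ring
-/

set_option autoImplicit false
universe u

open CategoryTheory Category Limits Opposite AlgebraicGeometry

noncomputable section

namespace K810.CtbFppf

open K810.Ctb

theorem countable_mvPolynomial (R : Type u) [CommRing R] [Countable R] (n : ℕ) :
    Countable (MvPolynomial (Fin n) R) := by
  rw [← Cardinal.mk_le_aleph0_iff]
  refine (MvPolynomial.cardinalMk_le_max_lift (σ := Fin n) (R := R)).trans ?_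
  have h1 : Cardinal.mk R ≤ Cardinal.aleph0 := Cardinal.mk_le_aleph0_iff.2 inferInstance
  have h2 : Cardinal.mk (Fin n) ≤ Cardinal.aleph0 := Cardinal.mk_le_aleph0_iff.2 inferInstance
  refine max_le (max_le ?_ ?_) le_rfl
  · simpa using h1
  · simp

variable {S : Scheme.{u}} [IsAffine S]

/-- The global sections of an affine scheme of finite type are a quotient of a polynomial ring. -/
theorem exists_surj {U : Over S} (hU : BB U) : letI := U.hom.appTop.hom.toAlgebra
    ∃ (n : ℕ) (f : MvPolynomial (Fin n) Γ(S, ⊤) →ₐ[Γ(S, ⊤)] Γ(U.left, ⊤)), Function.Surjective f := by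
  letI := U.hom.appTop.hom.toAlgebra
  have := hU.1
  have h : U.hom.appTop.hom.FiniteType := HasRingHomProperty.appTop @LocallyOfFiniteType _ hU.2
  have h' : Algebra.FiniteType Γ(S, ⊤) Γ(U.left, ⊤) := h
  exact Algebra.FiniteType.iff_quotient_mvPolynomial''.1 h'

theorem countable_sections [Countable Γ(S, ⊤)] {U : Over S} (hU : BB U) : Countable Γ(U.left, ⊤) := by
  letI := U.hom.appTop.hom.toAlgebra
  obtain ⟨n, f, hf⟩ := exists_surj hU
  have := countable_mvPolynomial Γ(S, ⊤) n
  exact hf.countable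

/-- Morphisms to an affine scheme of finite type from a scheme with countably many functions. -/
theorem countable_hom_BB {U V : Over S} (hU : Countable Γ(U.left, ⊤)) (hV : BB V) : Countable (U ⟶ V) := by
  letI := V.hom.appTop.hom.toAlgebra
  have := hV.1
  obtain ⟨n, f, hf⟩ := exists_surj hV
  refine Function.Injective.countable
    (f := fun (g : U ⟶ V) (i : Fin n) => g.left.appTop.hom (f (MvPolynomial.X i))) ?_
  intro g g' h
  ext1
  refine ext_of_isAffine ?_
  apply CommRingCat.hom_ext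
  have key : g.left.appTop.hom.comp f.toRingHom = g'.left.appTop.hom.comp f.toRingHom := by
    apply MvPolynomial.ringHom_ext
    · intro r
      have h1 : f.toRingHom (MvPolynomial.C r) = V.hom.appTop.hom r := f.commutes r
      rw [RingHom.comp_apply, RingHom.comp_apply, h1]
      have h2 : ∀ q : U ⟶ V, q.left.appTop.hom (V.hom.appTop.hom r) = U.hom.appTop.hom r := by
        intro q
        rw [← Over.w q, Scheme.Hom.comp_appTop]
        rfl
      rw [h2, h2]
    · intro i
      exact congrFun h i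
  ext x
  obtain ⟨y, rfl⟩ := hf x
  exact RingHom.congr_fun key y

/-- The standard affine schemes of finite type. -/
def qo (S : Scheme.{u}) [IsAffine S] (i : Σ n : ℕ, Finset (MvPolynomial (Fin n) Γ(S, ⊤))) : Over S :=
  Over.mk (Spec.map (CommRingCat.ofHom (algebraMap Γ(S, ⊤)
    (MvPolynomial (Fin i.1) Γ(S, ⊤) ⧸ Ideal.span (i.2 : Set (MvPolynomial (Fin i.1) Γ(S, ⊤)))))) ≫
      S.isoSpec.inv)

theorem BB_qo (i : Σ n : ℕ, Finset (MvPolynomial (Fin n) Γ(S, ⊤))) : BB (qo S i) := by
  refine ⟨inferInstanceAs (IsAffine (Spec _)), ?_⟩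
  have h1 : LocallyOfFiniteType (Spec.map (CommRingCat.ofHom (algebraMap Γ(S, ⊤)
    (MvPolynomial (Fin i.1) Γ(S, ⊤) ⧸ Ideal.span (i.2 : Set (MvPolynomial (Fin i.1) Γ(S, ⊤))))))) := by
    rw [HasRingHomProperty.Spec_iff (P := @LocallyOfFiniteType)]
    exact (RingHom.finiteType_algebraMap).2 inferInstance
  exact inferInstanceAs (LocallyOfFiniteType (Spec.map _ ≫ S.isoSpec.inv))

theorem exists_iso_qo [IsNoetherianRing Γ(S, ⊤)] {U : Over S} (hU : BB U) :
    ∃ i, Nonempty (U ≅ qo S i) := by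
  letI := U.hom.appTop.hom.toAlgebra
  have := hU.1
  obtain ⟨n, f, hf⟩ := exists_surj hU
  obtain ⟨s, hs⟩ : (RingHom.ker f).FG := (isNoetherianRing_iff_ideal_fg _).1 inferInstance _
  let e : (MvPolynomial (Fin n) Γ(S, ⊤) ⧸ Ideal.span (s : Set (MvPolynomial (Fin n) Γ(S, ⊤)))) ≃ₐ[Γ(S, ⊤)]
      Γ(U.left, ⊤) :=
    (Ideal.quotientEquivAlgOfEq Γ(S, ⊤) hs).trans (Ideal.quotientKerAlgEquivOfSurjective hf)
  let e' : CommRingCat.of (MvPolynomial (Fin n) Γ(S, ⊤) ⧸ Ideal.span (s : Set (MvPolynomial (Fin n) Γ(S, ⊤))))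
      ≅ Γ(U.left, ⊤) := e.toRingEquiv.toCommRingCatIso
  refine ⟨⟨n, s⟩, ⟨Over.isoMk (U.left.isoSpec ≪≫ Scheme.Spec.mapIso e'.op) ?_⟩⟩
  change (U.left.isoSpec.hom ≫ Spec.map e'.hom) ≫ Spec.map (CommRingCat.ofHom _) ≫ S.isoSpec.inv = U.hom
  rw [Category.assoc, ← Spec.map_comp_assoc]
  have h1 : CommRingCat.ofHom (algebraMap Γ(S, ⊤)
      (MvPolynomial (Fin n) Γ(S, ⊤) ⧸ Ideal.span (s : Set (MvPolynomial (Fin n) Γ(S, ⊤))))) ≫ e'.hom =
        U.hom.appTop := by
    apply CommRingCat.hom_ext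
    ext x
    exact e.commutes x
  rw [h1, ← Category.assoc, Scheme.isoSpec_hom_naturality, Category.assoc, Iso.hom_inv_id,
    Category.comp_id]

/-- The affine schemes of finite type over a countable Noetherian ring. -/
def reps (S : Scheme.{u}) [IsAffine S] [Countable Γ(S, ⊤)] [IsNoetherianRing Γ(S, ⊤)] :
    Reps (BB (S := S)) where
  I := ULift.{u} (Σ n : ℕ, Finset (MvPolynomial (Fin n) Γ(S, ⊤)))
  cI := by
    have := fun n => countable_mvPolynomial Γ(S, ⊤) n
    infer_instance
  o i := qo S i.down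
  mem i := BB_qo i.down
  exists_iso U hU := by
    obtain ⟨i, hi⟩ := exists_iso_qo hU
    exact ⟨⟨i⟩, hi⟩
  cHom i j := countable_hom_BB (countable_sections (BB_qo i.down)) (BB_qo j.down)

end K810.CtbFppf
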