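import Groth.Agent.TateLoc.K810.Ctb

/-!
# Closing off countable sheaves
-/

set_option autoImplicit false
universe w' u

open CategoryTheory Category Limits Opposite Simplicial Abelian

noncomputable section

namespace K810.Ctb

open Groth.Agent.Proet Groth.Agent.Proet.ZU Groth.Agent.Proet.CechEl Groth.Agent.Proet.CechAcyclic
  Groth.Agent.Proet.FiltSheaf

attribute [local irreducible] Groth.Agent.Proet.CechEl.cd

variable {C : Type (u + 1)} [Category.{u} C] {J : GrothendieckTopology C}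

section Nerve

variable [HasFiniteWidePullbacks C]

/-- Isomorphic arrows have isomorphic Čech nerves. -/
def nerveIso {V U V' U' : C} {f : V ⟶ U} {f' : V' ⟶ U'} (a : Arrow.mk f ≅ Arrow.mk f') :
    nerve f ≅ nerve f' :=
  (SimplicialObject.cechNerve (C := C)).mapIso a

end Nerve

section Step

variable {B : C → Prop} (R : Reps B) (hR : FinRef J B) [HasSheafify J AddCommGrpCat.{u + 1}]
  [J.WEqualsLocallyBijective AddCommGrpCat.{u + 1}]

omit [J.WEqualsLocallyBijective AddCommGrpCat.{u + 1}] in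
theorem ctb_biprod {F G : Sheaf J AddCommGrpCat.{u + 1}} (hF : Ctb B F.obj) (hG : Ctb B G.obj) :
    Ctb B (F ⊞ G).obj := by
  intro U hU
  have h1 := hF U hU
  have h2 := hG U hU
  refine Function.Injective.countable (f := fun z : (F ⊞ G).obj.obj (op U) =>
    (((biprod.fst : F ⊞ G ⟶ F).hom.app (op U) z, (biprod.snd : F ⊞ G ⟶ G).hom.app (op U) z) :
      F.obj.obj (op U) × G.obj.obj (op U))) ?_
  have key : ∀ z : (F ⊞ G).obj.obj (op U), z =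
      (biprod.inl : F ⟶ F ⊞ G).hom.app (op U) ((biprod.fst : F ⊞ G ⟶ F).hom.app (op U) z) +
      (biprod.inr : G ⟶ F ⊞ G).hom.app (op U) ((biprod.snd : F ⊞ G ⟶ G).hom.app (op U) z) := by
    intro z
    have h := congrArg (fun φ : F ⊞ G ⟶ F ⊞ G => φ.hom.app (op U) z) (biprod.total (X := F) (Y := G))
    exact h.symm
  intro z z' h
  obtain ⟨h1, h2⟩ := Prod.mk.inj h
  rw [key z, key z', h1, h2]

/-- A countable sheaf over `J₀`. -/
structure St (B : C → Prop) (J₀ : Sheaf J AddCommGrpCat.{u + 1}) where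
  /-- the sheaf -/
  A : Sheaf J AddCommGrpCat.{u + 1}
  /-- the map -/
  ι : A ⟶ J₀
  ctb : Ctb B A.obj

variable [HasFiniteWidePullbacks C] {Cov : ∀ ⦃V U : C⦄, (V ⟶ U) → Prop}

variable (Cov) in
/-- The cocycles to be killed. -/
structure Eqn (P : Cᵒᵖ ⥤ AddCommGrpCat.{u + 1}) where
  /-- source -/
  i : R.I
  /-- target -/
  j : R.I
  /-- cover -/
  f : R.o i ⟶ R.o j
  hf : Cov f
  /-- degree -/
  n : ℕ
  /-- cocycle -/
  x : P.obj (op ((nerve f) _⦋n + 1⦌))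
  hx : cd (nerve f) P (n + 1) x = 0

theorem countable_eqn (hn : ∀ ⦃V U : C⦄ (f : V ⟶ U), Cov f → ∀ n : ℕ, B ((nerve f) _⦋n⦌))
    {P : Cᵒᵖ ⥤ AddCommGrpCat.{u + 1}} (hP : Ctb B P) : Countable (Eqn R Cov P) := by
  have := R.cI
  let T := Σ (i j : R.I), Σ (f : {f : R.o i ⟶ R.o j // Cov f}), Σ n : ℕ,
    P.obj (op ((nerve f.1) _⦋n + 1⦌))
  have hT : Countable T := by
    have h1 : ∀ i j : R.I, Countable (R.o i ⟶ R.o j) := R.cHom
    have h2 : ∀ (i j : R.I) (f : {f : R.o i ⟶ R.o j // Cov f}) (n : ℕ),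
        Countable (P.obj (op ((nerve f.1) _⦋n + 1⦌))) := fun i j f n =>
      hP _ (hn f.1 f.2 (n + 1))
    infer_instance
  refine Function.Injective.countable (f := fun e : Eqn R Cov P =>
    (⟨e.i, e.j, ⟨e.f, e.hf⟩, e.n, e.x⟩ : T)) ?_
  rintro ⟨i, j, f, hf, n, x, hx⟩ ⟨i', j', f', hf', n', x', hx'⟩ h
  simp only [Sigma.mk.injEq] at h
  obtain ⟨rfl, h⟩ := h
  have h := eq_of_heq h
  simp only [Sigma.mk.injEq] at h
  obtain ⟨rfl, h⟩ := h
  have h := eq_of_heq h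
  simp only [Sigma.mk.injEq, Subtype.mk.injEq] at h
  obtain ⟨rfl, h⟩ := h
  have h := eq_of_heq h
  simp only [Sigma.mk.injEq] at h
  obtain ⟨rfl, h⟩ := h
  have h := eq_of_heq h
  subst h
  rfl

omit [HasSheafify J AddCommGrpCat.{u + 1}] [J.WEqualsLocallyBijective AddCommGrpCat.{u + 1}] in
theorem exists_sol {J₀ : Sheaf J AddCommGrpCat.{u + 1}}
    (hJ₀ : ∀ ⦃V U : C⦄ (f : V ⟶ U), Cov f → CechExact (nerve f) J₀.obj) {A : Sheaf J AddCommGrpCat.{u + 1}}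
    (ι : A ⟶ J₀) (e : Eqn R Cov A.obj) :
    ∃ y : J₀.obj.obj (op ((nerve e.f) _⦋e.n⦌)),
      cd (nerve e.f) J₀.obj e.n y = ι.hom.app (op ((nerve e.f) _⦋e.n + 1⦌)) e.x := by
  have h1 := cd_naturality (nerve e.f) ι.hom (e.n + 1) e.x
  have h2 : cd (nerve e.f) J₀.obj (e.n + 1) (ι.hom.app (op ((nerve e.f) _⦋e.n + 1⦌)) e.x) = 0 := by
    refine h1.trans ?_
    rw [e.hx]
    exact map_zero _
  exact hJ₀ e.f e.hf e.n _ h2

/-- objects of the new generators -/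
def Eqn.obj {P : Cᵒᵖ ⥤ AddCommGrpCat.{u + 1}} (e : Eqn R Cov P) : C := (nerve e.f) _⦋e.n⦌

variable (J Cov) in
/-- The sheaf of new generators. -/
def newSheaf (P : Cᵒᵖ ⥤ AddCommGrpCat.{u + 1}) : Sheaf J AddCommGrpCat.{u + 1} :=
  (presheafToSheaf J AddCommGrpCat.{u + 1}).obj (freePre (fun e : Eqn R Cov P => e.obj))

/-- The new generators. -/
def newGen {P : Cᵒᵖ ⥤ AddCommGrpCat.{u + 1}} (e : Eqn R Cov P) :
    (newSheaf J R Cov P).obj.obj (op e.obj) :=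
  (toSheafify J (freePre (fun e : Eqn R Cov P => e.obj))).app (op e.obj) (freeGen e (𝟙 e.obj))

/-- The map given by sections. -/
def newDesc {P : Cᵒᵖ ⥤ AddCommGrpCat.{u + 1}} {J₀ : Sheaf J AddCommGrpCat.{u + 1}}
    (y : ∀ e : Eqn R Cov P, J₀.obj.obj (op e.obj)) : newSheaf J R Cov P ⟶ J₀ :=
  ((sheafificationAdjunction J AddCommGrpCat.{u + 1}).homEquiv _ J₀).symm (freeDesc y)

omit [J.WEqualsLocallyBijective AddCommGrpCat.{u + 1}] in
theorem newDesc_gen {P : Cᵒᵖ ⥤ AddCommGrpCat.{u + 1}} {J₀ : Sheaf J AddCommGrpCat.{u + 1}}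
    (y : ∀ e : Eqn R Cov P, J₀.obj.obj (op e.obj)) (e : Eqn R Cov P) :
    (newDesc R y).hom.app (op e.obj) (newGen R e) = y e := by
  have h1 : toSheafify J (freePre (fun e : Eqn R Cov P => e.obj)) ≫ (newDesc R y).hom = freeDesc y :=
    ((sheafificationAdjunction J AddCommGrpCat.{u + 1}).homEquiv _ J₀).apply_symm_apply (freeDesc y)
  have h2 := congrArg (fun φ => φ.app (op e.obj) (freeGen e (𝟙 e.obj))) h1
  refine h2.trans ?_
  refine (freeDesc_gen y e (𝟙 e.obj)).trans ?_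
  rw [op_id, J₀.obj.map_id]
  rfl

include hR in
theorem ctb_newSheaf (hn : ∀ ⦃V U : C⦄ (f : V ⟶ U), Cov f → ∀ n : ℕ, B ((nerve f) _⦋n⦌))
    {P : Cᵒᵖ ⥤ AddCommGrpCat.{u + 1}} (hP : Ctb B P) : Ctb B (newSheaf J R Cov P).obj := by
  have := countable_eqn R hn hP
  refine ctb_sheafify R hR (ctb_freePre ?_)
  intro W e hW
  obtain ⟨i, ⟨a⟩⟩ := R.exists_iso W hW
  have : Countable (R.o i ⟶ e.obj) := countable_hom R i (hn e.f e.hf e.n)
  exact Function.Injective.countable (f := fun g => a.inv ≫ g)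
    (fun b c h => (cancel_epi a.inv).1 h)

include R hR in
/-- One step of closing off. -/
theorem exists_step (hCov : ∀ ⦃V U : C⦄ (f : V ⟶ U), Cov f → B V ∧ B U)
    (hn : ∀ ⦃V U : C⦄ (f : V ⟶ U), Cov f → ∀ n : ℕ, B ((nerve f) _⦋n⦌))
    (hiso : ∀ ⦃V U V' U' : C⦄ (f : V ⟶ U) (f' : V' ⟶ U') (_ : Arrow.mk f ≅ Arrow.mk f'), Cov f → Cov f')
    {J₀ : Sheaf J AddCommGrpCat.{u + 1}}
    (hJ₀ : ∀ ⦃V U : C⦄ (f : V ⟶ U), Cov f → CechExact (nerve f) J₀.obj) (s : St B J₀) :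
    ∃ (s' : St B J₀) (h : s.A ⟶ s'.A), h ≫ s'.ι = s.ι ∧
      ∀ ⦃V U : C⦄ (f : V ⟶ U), Cov f → ∀ (n : ℕ) (x : s.A.obj.obj (op ((nerve f) _⦋n + 1⦌))),
        cd (nerve f) s.A.obj (n + 1) x = 0 →
        ∃ y : s'.A.obj.obj (op ((nerve f) _⦋n⦌)),
          s'.ι.hom.app (op ((nerve f) _⦋n + 1⦌)) (cd (nerve f) s'.A.obj n y) =
            s.ι.hom.app (op ((nerve f) _⦋n + 1⦌)) x := by
  choose y hy using exists_sol R hJ₀ s.ι
  let P : Sheaf J AddCommGrpCat.{u + 1} := newSheaf J R Cov s.A.obj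
  let ψ : P ⟶ J₀ := newDesc R y
  have hψ : ∀ e, ψ.hom.app (op e.obj) (newGen R e) = y e := newDesc_gen R y
  have hP : Ctb B P.obj := ctb_newSheaf R hR hn s.ctb
  let s' : St B J₀ := ⟨s.A ⊞ P, biprod.desc s.ι ψ, ctb_biprod s.ctb hP⟩
  refine ⟨s', biprod.inl, biprod.inl_desc _ _, ?_⟩
  intro V U f hf n x hx
  obtain ⟨i, ⟨eV⟩⟩ := R.exists_iso V (hCov f hf).1
  obtain ⟨j, ⟨eU⟩⟩ := R.exists_iso U (hCov f hf).2
  let f' : R.o i ⟶ R.o j := eV.inv ≫ f ≫ eU.hom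
  let a : Arrow.mk f ≅ Arrow.mk f' := Arrow.isoMk eV eU (by simp [f'])
  have hf' : Cov f' := hiso f f' a hf
  let N : nerve f ≅ nerve f' := nerveIso a
  let x' : s.A.obj.obj (op ((nerve f') _⦋n + 1⦌)) := s.A.obj.map (N.inv.app (op ⦋n + 1⦌)).op x
  have hx' : cd (nerve f') s.A.obj (n + 1) x' = 0 := by
    have h := cd_map N.inv s.A.obj (n + 1) x
    refine h.trans ?_
    rw [hx]
    exact map_zero _
  let t : Eqn R Cov s.A.obj := ⟨i, j, f', hf', n, x', hx'⟩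
  let z : s'.A.obj.obj (op ((nerve f') _⦋n⦌)) := (biprod.inr : P ⟶ s.A ⊞ P).hom.app (op t.obj) (newGen R t)
  have hz : s'.ι.hom.app (op ((nerve f') _⦋n⦌)) z = y t := by
    have h1 := congrArg (fun φ : P ⟶ J₀ => φ.hom.app (op t.obj) (newGen R t)) (biprod.inr_desc s.ι ψ)
    exact h1.trans (hψ t)
  refine ⟨s'.A.obj.map (N.hom.app (op ⦋n⦌)).op z, ?_⟩
  have h2 : ∀ (w : s'.A.obj.obj (op ((nerve f') _⦋n + 1⦌))),
      s'.ι.hom.app (op ((nerve f) _⦋n + 1⦌)) (s'.A.obj.map (N.hom.app (op ⦋n + 1⦌)).op w) =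
      J₀.obj.map (N.hom.app (op ⦋n + 1⦌)).op (s'.ι.hom.app (op ((nerve f') _⦋n + 1⦌)) w) := fun w =>
    FiltSheaf.app_map_apply s'.ι (N.hom.app (op ⦋n + 1⦌)) w
  have h3 : cd (nerve f') J₀.obj n (y t) = s.ι.hom.app (op ((nerve f') _⦋n + 1⦌)) x' := hy t
  have h4 : N.hom.app (op ⦋n + 1⦌) ≫ N.inv.app (op ⦋n + 1⦌) = 𝟙 _ := by
    rw [← NatTrans.comp_app, N.hom_inv_id]
    rfl
  have h5 := cd_map N.hom s'.A.obj n z
  have h6 := cd_naturality (nerve f') s'.ι.hom n z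
  have h7 : s.ι.hom.app (op ((nerve f') _⦋n + 1⦌)) x' =
      J₀.obj.map (N.inv.app (op ⦋n + 1⦌)).op (s.ι.hom.app (op ((nerve f) _⦋n + 1⦌)) x) :=
    FiltSheaf.app_map_apply s.ι (N.inv.app (op ⦋n + 1⦌)) x
  have h8 : J₀.obj.map (N.hom.app (op ⦋n + 1⦌)).op (J₀.obj.map (N.inv.app (op ⦋n + 1⦌)).op
      (s.ι.hom.app (op ((nerve f) _⦋n + 1⦌)) x)) = s.ι.hom.app (op ((nerve f) _⦋n + 1⦌)) x := by
    have h9 := FiltSheaf.map_comp_apply J₀.obj (N.inv.app (op ⦋n + 1⦌)) (N.hom.app (op ⦋n + 1⦌))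
      (s.ι.hom.app (op ((nerve f) _⦋n + 1⦌)) x)
    refine h9.symm.trans ?_
    rw [h4, op_id, J₀.obj.map_id]
    rfl
  refine (congrArg (s'.ι.hom.app (op ((nerve f) _⦋n + 1⦌))) h5).trans ?_
  refine (h2 _).trans ?_
  refine (congrArg _ h6.symm).trans ?_
  refine (congrArg (fun v => J₀.obj.map (N.hom.app (op ⦋n + 1⦌)).op (cd (nerve f') J₀.obj n v)) hz).trans ?_
  refine (congrArg (fun v => J₀.obj.map (N.hom.app (op ⦋n + 1⦌)).op v) (h3.trans h7)).trans ?_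
  exact h8

end Step

end K810.Ctb
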