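import Groth.Prelude.Def_HopfRep
import Mathlib.RingTheory.Coalgebra.Convolution
import Mathlib.RingTheory.Bialgebra.Convolution
import Mathlib.LinearAlgebra.TensorProduct.Basis
import Mathlib.RingTheory.Noetherian.Nilpotent
import Mathlib.RingTheory.Artinian.Ring

/-!
# The dual algebra of a finite dimensional Hopf algebra

* `F`: the extension of an algebra map `f : A^* → K` to `Hom(A, R)`; it is multiplicative.
* `isUnipotent`: if every prime of `A^*` contains the augmentation ideal, `A` is unipotent.
-/

set_option autoImplicit false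
set_option linter.unusedSectionVars false
universe u v
open TensorProduct

namespace K810.DualLoc

variable {k : Type u} [Field k] {A : Type u} [CommRing A] [HopfAlgebra k A] [Coalgebra.IsCocomm k A] [Module.Finite k A]

variable (k A) in
/-- The dual algebra. -/
abbrev DA : Type u := WithConv (A →ₗ[k] k)

noncomputable section

instance : Module.Finite k (DA k A) :=
  Module.Finite.equiv (WithConv.linearEquiv k (A →ₗ[k] k)).symm

variable (k A) in
/-- a basis -/
def b : Module.Basis (Module.Free.ChooseBasisIndex k A) k A := Module.Free.chooseBasis k A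

/-- dual basis vector -/
def bd (i : Module.Free.ChooseBasisIndex k A) : DA k A := WithConv.toConv ((b k A).coord i)

theorem bd_apply (i : Module.Free.ChooseBasisIndex k A) (a : A) : (bd i : DA k A) a = (b k A).coord i a := rfl

theorem sum_b (a : A) : a = ∑ i, (bd i : DA k A) a • b k A i := ((b k A).sum_repr a).symm

theorem sum_bd (δ : DA k A) : δ = ∑ i, δ (b k A i) • (bd i : DA k A) := by
  apply (WithConv.linearEquiv k (A →ₗ[k] k)).injective
  apply (b k A).ext
  intro j
  rw [map_sum, LinearMap.sum_apply, Finset.sum_eq_single j]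
  · change _ = δ (b k A j) • (b k A).coord j (b k A j)
    rw [Module.Basis.coord_apply, Module.Basis.repr_self, Finsupp.single_eq_same, smul_eq_mul, mul_one]
    rfl
  · intro i _ hi
    change δ (b k A i) • (b k A).coord i (b k A j) = 0
    rw [Module.Basis.coord_apply, Module.Basis.repr_self, Finsupp.single_eq_of_ne' (Ne.symm hi), smul_zero]
  · intro h
    exact absurd (Finset.mem_univ j) h

section F

variable {K R : Type u} [CommRing K] [Algebra k K] [CommRing R] [Algebra k R] (f : DA k A →ₐ[k] K) (γ : K →ₐ[k] R)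

/-- The extension of `f` to `R`-valued functionals. -/
def F (φ : WithConv (A →ₗ[k] R)) : R := ∑ i, φ (b k A i) * γ (f (bd i))

theorem F_one : F f γ (1 : WithConv (A →ₗ[k] R)) = 1 := by
  have h : (1 : DA k A) = ∑ i, CoalgebraStruct.counit (R := k) (b k A i) • (bd i : DA k A) := sum_bd 1
  have h2 := congrArg (fun z => γ (f z)) h
  simp only [map_one, map_sum, map_smul] at h2
  rw [F, h2]
  refine Finset.sum_congr rfl fun i _ => ?_
  rw [Algebra.smul_def]
  rfl

theorem F_mul (φ φ' : WithConv (A →ₗ[k] R)) : F f γ (φ * φ') = F f γ φ * F f γ φ' := by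
  have h1 : ∀ y : A ⊗[k] A, LinearMap.mul' k R (TensorProduct.map φ.ofConv φ'.ofConv y) =
      ∑ i, ∑ j, φ (b k A i) * φ' (b k A j) *
        algebraMap k R (LinearMap.mul' k k (TensorProduct.map (bd i : DA k A).ofConv (bd j : DA k A).ofConv y)) := by
    intro y
    induction y using TensorProduct.induction_on with
    | zero => simp
    | tmul a a' =>
      have ha : φ a = ∑ i, φ (b k A i) * algebraMap k R ((bd i : DA k A) a) := by
        conv_lhs => rw [sum_b (k := k) a]
        change φ.ofConv _ = _
        rw [map_sum]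
        refine Finset.sum_congr rfl fun i _ => ?_
        rw [map_smul, Algebra.smul_def, mul_comm]
      have ha' : φ' a' = ∑ i, φ' (b k A i) * algebraMap k R ((bd i : DA k A) a') := by
        conv_lhs => rw [sum_b (k := k) a']
        change φ'.ofConv _ = _
        rw [map_sum]
        refine Finset.sum_congr rfl fun i _ => ?_
        rw [map_smul, Algebra.smul_def, mul_comm]
      rw [TensorProduct.map_tmul, LinearMap.mul'_apply]
      change φ a * φ' a' = _
      rw [ha, ha', Finset.sum_mul_sum]
      refine Finset.sum_congr rfl fun i _ => Finset.sum_congr rfl fun j _ => ?_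
      rw [TensorProduct.map_tmul, LinearMap.mul'_apply, map_mul]
      change _ = _ * _ * (algebraMap k R ((bd i : DA k A) a) * algebraMap k R ((bd j : DA k A) a'))
      ring
    | add x y hx hy =>
      rw [map_add, map_add, hx, hy, ← Finset.sum_add_distrib]
      refine Finset.sum_congr rfl fun i _ => ?_
      rw [← Finset.sum_add_distrib]
      refine Finset.sum_congr rfl fun j _ => ?_
      rw [map_add, map_add, map_add, mul_add]
  have h2 : ∀ i j, γ (f (bd i)) * γ (f (bd j)) = ∑ l, algebraMap k R (((bd i : DA k A) * bd j) (b k A l)) * γ (f (bd l)) := by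
    intro i j
    have h3 := sum_bd ((bd i : DA k A) * bd j)
    rw [← map_mul, ← map_mul]
    conv_lhs => rw [h3]
    rw [map_sum, map_sum]
    refine Finset.sum_congr rfl fun l _ => ?_
    rw [map_smul, map_smul, Algebra.smul_def]
  have h4 : F f γ (φ * φ') = ∑ l, ∑ i, ∑ j, φ (b k A i) * φ' (b k A j) *
      (algebraMap k R (((bd i : DA k A) * bd j) (b k A l)) * γ (f (bd l))) := by
    rw [F]
    refine Finset.sum_congr rfl fun l _ => ?_
    rw [LinearMap.convMul_apply, h1, Finset.sum_mul]
    refine Finset.sum_congr rfl fun i _ => ?_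
    rw [Finset.sum_mul]
    refine Finset.sum_congr rfl fun j _ => ?_
    rw [LinearMap.convMul_apply]
    ring
  rw [h4, Finset.sum_comm, F, F, Finset.sum_mul_sum]
  refine Finset.sum_congr rfl fun i _ => ?_
  rw [Finset.sum_comm]
  refine Finset.sum_congr rfl fun j _ => ?_
  rw [← Finset.mul_sum, ← h2]
  ring

theorem F_comp {R' : Type u} [CommRing R'] [Algebra k R'] (ρ : R →ₐ[k] R') (φ : WithConv (A →ₗ[k] R)) :
    F f (ρ.comp γ) (WithConv.toConv (ρ.toLinearMap ∘ₗ φ.ofConv)) = ρ (F f γ φ) := by
  rw [F, F, map_sum]
  refine Finset.sum_congr rfl fun i _ => ?_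
  rw [map_mul]
  rfl

/-- If `F` is trivial on the universal point then `f` is the augmentation. -/
theorem eq_of_F (h : F f (Algebra.TensorProduct.includeRight : K →ₐ[k] A ⊗[k] K)
    (WithConv.toConv (Algebra.TensorProduct.includeLeft : A →ₐ[k] A ⊗[k] K).toLinearMap) = 1) (δ : DA k A) :
    f δ = algebraMap k K (δ 1) := by
  let T : A ⊗[k] K →ₗ[k] K := (TensorProduct.lid k K).toLinearMap ∘ₗ TensorProduct.map δ.ofConv LinearMap.id
  have h1 := congrArg T h
  have h2 : T 1 = algebraMap k K (δ 1) := by
    change TensorProduct.lid k K (TensorProduct.map δ.ofConv LinearMap.id ((1 : A) ⊗ₜ (1 : K))) = _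
    rw [TensorProduct.map_tmul, TensorProduct.lid_tmul, Algebra.smul_def]
    simp
  rw [← h2, ← h1, F, map_sum]
  conv_lhs => rw [sum_bd δ]
  rw [map_sum]
  refine Finset.sum_congr rfl fun i _ => ?_
  change _ = TensorProduct.lid k K (TensorProduct.map δ.ofConv LinearMap.id ((b k A i ⊗ₜ (1 : K)) * ((1 : A) ⊗ₜ f (bd i))))
  rw [Algebra.TensorProduct.tmul_mul_tmul, TensorProduct.map_tmul, TensorProduct.lid_tmul, mul_one, one_mul, map_smul]
  rfl

end F

section unip

variable {V : Type v} [AddCommGroup V] [Module k V] [HopfRep.Comod k A V]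

/-- The action of the dual algebra on a comodule. -/
def act (δ : DA k A) : V →ₗ[k] V :=
  (TensorProduct.rid k V).toLinearMap ∘ₗ LinearMap.lTensor V δ.ofConv ∘ₗ HopfRep.Comod.coact (k := k) (A := A)

theorem act_one (v : V) : act (1 : DA k A) v = v := by
  have h := LinearMap.congr_fun (HopfRep.Comod.counit_comp (k := k) (A := A) (V := V)) v
  have h1 : (act (1 : DA k A) v : V) = TensorProduct.rid k V ((CoalgebraStruct.counit (R := k) (A := A)).lTensor V
      (HopfRep.Comod.coact (k := k) (A := A) v)) := rfl
  rw [h1]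
  have h2 := congrArg (TensorProduct.rid k V) h
  refine h2.trans ?_
  simp

theorem act_mul (δ δ' : DA k A) (v : V) : act (δ * δ') v = act δ (act δ' v) := by
  have h := LinearMap.congr_fun (HopfRep.Comod.coassoc (k := k) (A := A) (V := V)) v
  let T : V ⊗[k] (A ⊗[k] A) →ₗ[k] V := (TensorProduct.rid k V).toLinearMap ∘ₗ
    LinearMap.lTensor V (LinearMap.mul' k k ∘ₗ TensorProduct.map δ.ofConv δ'.ofConv)
  have h1 := congrArg T h
  have h2 : ∀ y : V ⊗[k] A, T ((CoalgebraStruct.comul (R := k) (A := A)).lTensor V y) =
      TensorProduct.rid k V (LinearMap.lTensor V (δ * δ').ofConv y) := by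
    intro y
    induction y using TensorProduct.induction_on with
    | zero => simp
    | tmul w a =>
      change TensorProduct.rid k V (w ⊗ₜ _) = TensorProduct.rid k V (w ⊗ₜ _)
      congr 2
    | add x y hx hy => rw [map_add, map_add, hx, hy, map_add, map_add]
  have h3 : ∀ y : V ⊗[k] A, T ((TensorProduct.assoc k V A A)
      ((HopfRep.Comod.coact (k := k) (A := A) : V →ₗ[k] V ⊗[k] A).rTensor A y)) =
        act δ (TensorProduct.rid k V (LinearMap.lTensor V δ'.ofConv y)) := by
    intro y
    induction y using TensorProduct.induction_on with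
    | zero => simp
    | tmul w a =>
      rw [LinearMap.rTensor_tmul, LinearMap.lTensor_tmul, TensorProduct.rid_tmul, map_smul]
      change _ = δ'.ofConv a • TensorProduct.rid k V (LinearMap.lTensor V δ.ofConv (HopfRep.Comod.coact (k := k) (A := A) w))
      generalize HopfRep.Comod.coact (k := k) (A := A) w = z
      induction z using TensorProduct.induction_on with
      | zero => simp
      | tmul w' a' =>
        rw [TensorProduct.assoc_tmul]
        change TensorProduct.rid k V (w' ⊗ₜ (δ.ofConv a' * δ'.ofConv a)) = _ • TensorProduct.rid k V (w' ⊗ₜ δ.ofConv a')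
        rw [TensorProduct.rid_tmul, TensorProduct.rid_tmul, smul_smul, mul_comm]
      | add x y hx hy =>
        rw [TensorProduct.add_tmul, map_add, map_add, hx, hy, map_add, map_add, smul_add]
    | add x y hx hy => rw [map_add, map_add, map_add, hx, hy, map_add, map_add, map_add]
  have h4 := h3 (HopfRep.Comod.coact (k := k) (A := A) v)
  have h5 := h2 (HopfRep.Comod.coact (k := k) (A := A) v)
  exact h5.symm.trans (h1.symm.trans h4)

theorem act_add (δ δ' : DA k A) (v : V) : act (δ + δ') v = act δ v + act δ' v := by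
  change TensorProduct.rid k V (LinearMap.lTensor V (δ.ofConv + δ'.ofConv) _) = _
  rw [LinearMap.lTensor_add, LinearMap.add_apply, map_add]
  rfl

theorem act_smul (c : k) (δ : DA k A) (v : V) : act (c • δ) v = c • act δ v := by
  change TensorProduct.rid k V (LinearMap.lTensor V (c • δ.ofConv) _) = _
  rw [LinearMap.lTensor_smul, LinearMap.smul_apply, map_smul]
  rfl

theorem coact_eq (v : V) (h : ∀ δ : DA k A, δ 1 = 0 → act δ v = 0) :
    HopfRep.Comod.coact (k := k) (A := A) v = v ⊗ₜ[k] 1 := by
  have h1 : ∀ δ : DA k A, act δ v = δ 1 • v := by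
    intro δ
    have h2 : δ = (δ - (δ 1) • (1 : DA k A)) + (δ 1) • (1 : DA k A) := by abel
    conv_lhs => rw [h2]
    rw [act_add, act_smul, act_one, h, zero_add]
    change δ 1 - δ 1 • CoalgebraStruct.counit (R := k) (1 : A) = 0
    rw [Bialgebra.counit_one, smul_eq_mul, mul_one, sub_self]
  apply (TensorProduct.equivFinsuppOfBasisRight (b k A)).injective
  ext i
  have h3 : ∀ y : V ⊗[k] A, TensorProduct.equivFinsuppOfBasisRight (b k A) y i =
      TensorProduct.rid k V (LinearMap.lTensor V (bd i : DA k A).ofConv y) := by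
    intro y
    induction y using TensorProduct.induction_on with
    | zero => simp
    | tmul w a =>
      rw [TensorProduct.equivFinsuppOfBasisRight_apply_tmul_apply, LinearMap.lTensor_tmul, TensorProduct.rid_tmul]
      rfl
    | add x y hx hy => rw [map_add, Finsupp.add_apply, hx, hy, map_add, map_add]
  rw [h3, h3]
  refine (h1 (bd i)).trans ?_
  rw [LinearMap.lTensor_tmul, TensorProduct.rid_tmul]

variable (k A) in
/-- evaluation at `1` -/
def aug : DA k A →ₐ[k] k where
  toFun δ := δ 1
  map_one' := by
    change CoalgebraStruct.counit (R := k) (1 : A) = 1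
    exact Bialgebra.counit_one
  map_mul' δ δ' := by
    rw [LinearMap.convMul_apply, Bialgebra.comul_one]
    rfl
  map_zero' := rfl
  map_add' _ _ := rfl
  commutes' c := by
    rw [LinearMap.convAlgebraMap_apply, Bialgebra.counit_one, map_one, smul_eq_mul, mul_one]
    rfl

/-- If every prime ideal of the dual algebra contains the augmentation ideal then `A` is unipotent. -/
theorem isUnipotent (h : ∀ p : Ideal (DA k A), p.IsPrime → RingHom.ker (aug k A) ≤ p) : HopfRep.IsUnipotent k A := by
  have : IsNoetherianRing (DA k A) := isNoetherian_of_isNoetherianRing_of_finite k (DA k A) |> isNoetherian_of_tower k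
  have h1 : RingHom.ker (aug k A) ≤ nilradical (DA k A) := by
    rw [nilradical_eq_sInf]
    exact le_sInf h
  obtain ⟨N, hN⟩ := IsNoetherianRing.isNilpotent_nilradical (DA k A)
  have h2 : RingHom.ker (aug k A) ^ N = ⊥ := by
    rw [eq_bot_iff, ← Ideal.zero_eq_bot, ← hN]
    exact Ideal.pow_right_mono h1 N
  intro V _ _ _ _ _ hbot
  have hex : ∃ n, ∀ δ ∈ RingHom.ker (aug k A) ^ n, ∀ v : V, act δ v = 0 := ⟨N, fun δ hδ v => by
    rw [h2, Ideal.mem_bot] at hδ
    subst hδ
    change TensorProduct.rid k V (LinearMap.lTensor V 0 _) = 0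
    simp⟩
  classical
  have h3 := Nat.find_spec hex
  have h4 : Nat.find hex ≠ 0 := by
    intro h0
    rw [h0, pow_zero] at h3
    obtain ⟨v, hv⟩ := exists_ne (0 : V)
    exact hv ((act_one (A := A) v).symm.trans (h3 1 (by rw [Ideal.one_eq_top]; trivial) v))
  obtain ⟨n, hn⟩ := Nat.exists_eq_succ_of_ne_zero h4
  have h5 := Nat.find_min hex (show n < Nat.find hex by omega)
  push Not at h5
  obtain ⟨δ, hδ, v, hv⟩ := h5
  apply hv
  have h6 : act δ v ∈ HopfRep.fixedPts k A V := by
    refine coact_eq _ fun δ' hδ' => ?_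
    rw [← act_mul]
    apply h3
    rw [hn, pow_succ']
    exact Ideal.mul_mem_mul hδ' hδ
  rw [hbot] at h6
  exact h6

end unip

end

end K810.DualLoc
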