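import Groth.Agent.TateLoc.K810.DualLoc
import Groth.Agent.TateLoc.K810.DualDS
import Groth.Agent.Sga3B.AffPts
import Groth.Agent.Sga3.H811.Pts
import Groth.Agent.Books.AffBridge2

/-!
# Algebra maps out of the dual algebra as sections of the dual sheaf

`exists_sec`: an algebra map `f : A^* → K` gives a section of `𝓗om(Spec A, 𝔾_m)` over `Spec K`; if it is trivial then `f` is the
augmentation.
-/

set_option autoImplicit false
set_option linter.unusedSectionVars false
universe u
open CategoryTheory Category Limits Opposite AlgebraicGeometry MonoidalCategory CartesianMonoidalCategory MonObj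
open TensorProduct

noncomputable section

namespace K810.DualSec

open K810.DualLoc K810.DualDS Groth.Agent.Sga3B.AffPts Groth.Agent.Books.AffBridge Groth.Agent.Books.AffBridge2
  Groth.Agent.Sga3.H811.Pts

local notation "fp" => Scheme.fppfPrecoverage

variable {k : Type u} [Field k] {A : Type u} [CommRing A] [HopfAlgebra k A] [Coalgebra.IsCocomm k A] [Module.Finite k A]
  {K : Type u} [CommRing K] [Algebra k K] (f : DA k A →ₐ[k] K)

section alg

variable {R : Type u} [CommRing R] [Algebra k R] (γ : K →ₐ[k] R)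

/-- The value on an algebra map. -/
def FA (π : WithConv (A →ₐ[k] R)) : R := F f γ (WithConv.toConv π.ofConv.toLinearMap)

theorem FA_one : FA f γ 1 = 1 := F_one f γ

theorem FA_mul (π π' : WithConv (A →ₐ[k] R)) : FA f γ (π * π') = FA f γ π * FA f γ π' := by
  rw [FA, AlgHom.toLinearMap_convMul, F_mul]
  rfl

/-- The value as a unit. -/
def FU (π : WithConv (A →ₐ[k] R)) : Rˣ where
  val := FA f γ π
  inv := FA f γ π⁻¹
  val_inv := by rw [← FA_mul, mul_inv_cancel, FA_one]
  inv_val := by rw [← FA_mul, inv_mul_cancel, FA_one]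

end alg

/-- The value of the character at a point, as an invertible function. -/
def cv {U : Over (Spec (CommRingCat.of k))} (g : U ⟶ SpecOver k K) (p : U ⟶ SpecOver k A) : Γ(U.left, ⊤)ˣ :=
  FU (R := Fn U) f ((Equiv.ofBijective _ (affPt_bijective U)).symm g) ((affEquiv U).symm p)

theorem cv_mul {U : Over (Spec (CommRingCat.of k))} (g : U ⟶ SpecOver k K) (p p' : U ⟶ SpecOver k A) :
    (cv f g (p * p') : Γ(U.left, ⊤)) = cv f g p * cv f g p' := by
  change FA (R := Fn U) f _ _ = FA (R := Fn U) f _ _ * FA (R := Fn U) f _ _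
  rw [← FA_mul, map_mul]

theorem cv_comp {U V : Over (Spec (CommRingCat.of k))} (h : V ⟶ U) (g : U ⟶ SpecOver k K) (p : U ⟶ SpecOver k A) :
    (cv f (h ≫ g) (h ≫ p) : Γ(V.left, ⊤)) = h.left.appTop (cv f g p : Γ(U.left, ⊤)) := by
  obtain ⟨γ, rfl⟩ := (affPt_bijective U).2 g
  obtain ⟨π, rfl⟩ := (affEquiv U).surjective p
  have h1 : (Equiv.ofBijective _ (affPt_bijective (A := K) V)).symm (h ≫ affPt U γ) = (fnMap h).comp γ := by
    rw [comp_affPt, Equiv.symm_apply_eq]
    rfl
  have h2 : (affEquiv V).symm (h ≫ affEquiv U π) = WithConv.toConv ((fnMap h).comp π.ofConv) := by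
    rw [MulEquiv.symm_apply_eq, affEquiv_apply, comp_affPt]
    rfl
  have h3 : (Equiv.ofBijective _ (affPt_bijective (A := K) U)).symm (affPt U γ) = γ := by
    rw [Equiv.symm_apply_eq]
    rfl
  change FA (R := Fn V) f _ _ = fnMap h (FA (R := Fn U) f _ _)
  rw [h1, h2, h3, MulEquiv.symm_apply_apply]
  exact F_comp f γ (fnMap h) (WithConv.toConv π.ofConv.toLinearMap)

theorem gmPt_mul {U : Over (Spec (CommRingCat.of k))} (g : U ⟶ SpecOver k K) (p p' : U ⟶ SpecOver k A) :
    gmPt U (cv f g (p * p')) = gmPt U (cv f g p) * gmPt U (cv f g p') := by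
  apply gmFn_injective
  rw [gmFn_gmPt, gmFn_mul, gmFn_gmPt, gmFn_gmPt, cv_mul]

theorem comp_gmPt {U V : Over (Spec (CommRingCat.of k))} (h : V ⟶ U) (g : U ⟶ SpecOver k K) (p : U ⟶ SpecOver k A) :
    gmPt V (cv f (h ≫ g) (h ≫ p)) = h ≫ gmPt U (cv f g p) := by
  apply gmFn_injective
  rw [gmFn_gmPt, gmFn_comp, gmFn_gmPt, cv_comp]

/-- The character attached to `f`, over `Spec K`. -/
def sec : (CGrpSh.pts fp (SpecOver k A)).over (SpecOver k K) ⟶ (CGrpSh2.Gm fp (Spec (CommRingCat.of k))).over (SpecOver k K) where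
  hom :=
    { app := fun U => AddCommGrpCat.ofHom (AddMonoidHom.mk'
        (fun x : ULift (Additive ((unop U).left ⟶ SpecOver k A)) =>
          (ULift.up (Additive.ofMul (gmPt (unop U).left (cv f (unop U).hom (Additive.toMul x.down)))) :
            ULift (Additive ((unop U).left ⟶ Red.Gm (Spec (CommRingCat.of k))))))
        (fun x y => by
          exact congrArg (fun z => ULift.up (Additive.ofMul z))
            (gmPt_mul f (unop U).hom (Additive.toMul x.down) (Additive.toMul y.down))))
      naturality := fun U V h => by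
        refine AddCommGrpCat.ext fun x => ?_
        have h1 := comp_gmPt f h.unop.left (unop U).hom (Additive.toMul (ULift.down x))
        rw [Over.w h.unop] at h1
        exact congrArg (fun z => ULift.up (Additive.ofMul z)) h1 }

theorem val_sec {U : Over (Spec (CommRingCat.of k))} (g : U ⟶ SpecOver k K) (p : U ⟶ SpecOver k A) :
    val (sec f) g p = gmPt U (cv f g p) := rfl

/-- If the character attached to `f` is trivial then `f` is the augmentation. -/
theorem eq_aug (h : sec f = 0) (δ : DA k A) : f δ = algebraMap k K (δ 1) := by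
  apply eq_of_F
  have h1 := val_sec f (specMap k (Algebra.TensorProduct.includeRight : K →ₐ[k] A ⊗[k] K))
    (specMap k (Algebra.TensorProduct.includeLeft : A →ₐ[k] A ⊗[k] K))
  rw [h] at h1
  have h2 := congrArg Red.gmFn h1
  rw [gmFn_gmPt] at h2
  have h3 : Red.gmFn (val (0 : (CGrpSh.pts fp (SpecOver k A)).over (SpecOver k K) ⟶
      (CGrpSh2.Gm fp (Spec (CommRingCat.of k))).over (SpecOver k K))
      (specMap k (Algebra.TensorProduct.includeRight : K →ₐ[k] A ⊗[k] K))
      (specMap k (Algebra.TensorProduct.includeLeft : A →ₐ[k] A ⊗[k] K))) = 1 := gmFn_one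
  rw [h3] at h2
  have h4 : ∀ (B C : Type u) [CommRing B] [Algebra k B] [CommRing C] [Algebra k C] (φ : C →ₐ[k] B),
      affPt (SpecOver k B) ((fnSpec (R := k) B).symm.toAlgHom.comp φ) = specMap k φ := by
    intro B C _ _ _ _ φ
    rw [affPt_spec]
    congr 1
    ext c
    exact (fnSpec (R := k) B).apply_symm_apply _
  have h5 : @Eq (Fn (SpecOver k (A ⊗[k] K)))
      (cv f (specMap k (Algebra.TensorProduct.includeRight : K →ₐ[k] A ⊗[k] K))
        (specMap k (Algebra.TensorProduct.includeLeft : A →ₐ[k] A ⊗[k] K))).val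
      ((fnSpec (R := k) (A ⊗[k] K)).symm (F f (Algebra.TensorProduct.includeRight : K →ₐ[k] A ⊗[k] K)
        (WithConv.toConv (Algebra.TensorProduct.includeLeft : A →ₐ[k] A ⊗[k] K).toLinearMap))) := by
    have h6 : (Equiv.ofBijective _ (affPt_bijective (A := K) (SpecOver k (A ⊗[k] K)))).symm
        (specMap k (Algebra.TensorProduct.includeRight : K →ₐ[k] A ⊗[k] K)) =
        (fnSpec (R := k) (A ⊗[k] K)).symm.toAlgHom.comp Algebra.TensorProduct.includeRight := by
      rw [Equiv.symm_apply_eq]
      exact (h4 _ _ _).symm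
    have h7 : (affEquiv (SpecOver k (A ⊗[k] K))).symm
        (specMap k (Algebra.TensorProduct.includeLeft : A →ₐ[k] A ⊗[k] K)) =
        WithConv.toConv ((fnSpec (R := k) (A ⊗[k] K)).symm.toAlgHom.comp Algebra.TensorProduct.includeLeft) := by
      rw [MulEquiv.symm_apply_eq]
      exact (h4 _ _ _).symm
    change FA (R := Fn (SpecOver k (A ⊗[k] K))) f _ _ = _
    rw [h6, h7]
    exact F_comp f _ (fnSpec (R := k) (A ⊗[k] K)).symm.toAlgHom
      (WithConv.toConv (Algebra.TensorProduct.includeLeft : A →ₐ[k] A ⊗[k] K).toLinearMap)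
  have h8 : (fnSpec (R := k) (A ⊗[k] K)).symm (F f (Algebra.TensorProduct.includeRight : K →ₐ[k] A ⊗[k] K)
        (WithConv.toConv (Algebra.TensorProduct.includeLeft : A →ₐ[k] A ⊗[k] K).toLinearMap)) = 1 :=
    h5.symm.trans h2.symm
  exact (map_eq_one_iff _ (fnSpec (R := k) (A ⊗[k] K)).symm.injective).1 h8

end K810.DualSec
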