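import Groth.Agent.TateLoc.K810.DivGrp
import Groth.Agent.S6370
import Mathlib.NumberTheory.FunctionField
import Mathlib.RingTheory.DedekindDomain.AdicValuation
import Mathlib.RingTheory.Jacobson.Ring
import Mathlib.RingTheory.Polynomial.Quotient
import Mathlib.FieldTheory.Finite.Basic

/-!
# The units of a global function field

* `Good p L`: `L` is the fraction field of a Dedekind domain with finite residue fields and zero Jacobson radical, of characteristic `p`;
* `good_of_functionField`;
* `pp_units`: `Lˣ` has no divisible elements and bounded torsion.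
-/

set_option autoImplicit false
universe u

namespace K810.FunUnits

open K810.DivGrp IsDedekindDomain Polynomial

/-- `O` is a Dedekind domain with fraction field `L`, finite residue fields and zero Jacobson radical. -/
structure IsBase (O L : Type u) [CommRing O] [Field L] [Algebra O L] : Prop where
  ded : IsDedekindDomain O
  frac : IsFractionRing O L
  fin : ∀ P : Ideal O, P.IsMaximal → Finite (O ⧸ P)
  jac : ∀ x : O, x ≠ 0 → ∃ P : Ideal O, P.IsMaximal ∧ x ∉ P

/-- A field of characteristic `p` which is finite over a rational function field over a finite field. -/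
structure Good (p : ℕ) (L : Type u) [Field L] : Prop where
  prime : p.Prime
  char : CharP L p
  ex : ∃ (Fq : Type u) (_ : Field Fq) (_ : Finite Fq) (_ : Algebra (RatFunc Fq) L), FiniteDimensional (RatFunc Fq) L

theorem Good.of_finite {p : ℕ} {k L : Type u} [Field k] [Field L] [Algebra k L] [FiniteDimensional k L] (h : Good p k) :
    Good p L := by
  obtain ⟨hp, hc, Fq, _, _, _, hfd⟩ := h
  refine ⟨hp, charP_of_injective_algebraMap (algebraMap k L).injective p, Fq, inferInstance, inferInstance,
    ((algebraMap k L).comp (algebraMap (RatFunc Fq) k)).toAlgebra, ?_⟩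
  let _ : Algebra (RatFunc Fq) L := ((algebraMap k L).comp (algebraMap (RatFunc Fq) k)).toAlgebra
  have : IsScalarTower (RatFunc Fq) k L := IsScalarTower.of_algebraMap_eq fun _ => rfl
  exact Module.Finite.trans (R := RatFunc Fq) k L

theorem Good.of_functionField (Fq : Type u) [Field Fq] [Finite Fq] (k : Type u) [Field k] [Algebra (RatFunc Fq) k]
    [FunctionField Fq k] : ∃ p, Good p k := by
  obtain ⟨p, hp⟩ := CharP.exists Fq
  have hp' : p.Prime := CharP.char_is_prime Fq p
  refine ⟨p, hp', ?_, Fq, inferInstance, inferInstance, inferInstance, inferInstanceAs (FunctionField Fq k)⟩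
  exact charP_of_injective_ringHom ((algebraMap (RatFunc Fq) k).comp (algebraMap Fq (RatFunc Fq))).injective p

theorem finite_quotient_polynomial (F : Type u) [Field F] [Finite F] (I : Ideal F[X]) (hI : I ≠ ⊥) : Finite (F[X] ⧸ I) := by
  obtain ⟨f, hf, hf0⟩ := Submodule.exists_mem_ne_zero_of_ne_bot hI
  have h1 : Module.Finite F (F[X] ⧸ Ideal.span {f}) := by
    have : Module.Finite F (AdjoinRoot f) := (AdjoinRoot.powerBasis hf0).finite
    exact this
  have h2 : Finite (F[X] ⧸ Ideal.span {f}) := Module.finite_of_finite F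
  exact Finite.of_surjective (Ideal.Quotient.factor ((Ideal.span_singleton_le_iff_mem _).2 hf))
    (Ideal.Quotient.factor_surjective _)

theorem Good.exists_isBase {p : ℕ} {L : Type u} [Field L] (h : Good p L) :
    ∃ (O : Type u) (_ : CommRing O) (_ : Algebra O L), IsBase O L := by
  obtain ⟨hp, hc, Fq, _, _, _, hfd⟩ := h
  let _ : Algebra Fq[X] L := ((algebraMap (RatFunc Fq) L).comp (algebraMap Fq[X] (RatFunc Fq))).toAlgebra
  have : IsScalarTower Fq[X] (RatFunc Fq) L := IsScalarTower.of_algebraMap_eq fun _ => rfl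
  have hinj : Function.Injective (algebraMap Fq[X] L) :=
    (algebraMap (RatFunc Fq) L).injective.comp (IsFractionRing.injective Fq[X] (RatFunc Fq))
  have hdim : ringKrullDim Fq[X] = 1 := IsPrincipalIdealRing.ringKrullDim_eq_one _ (Polynomial.not_isField Fq)
  obtain ⟨hD, -, -, hQ⟩ := Groth.Agent.S6370.result Fq[X] (RatFunc Fq) L (integralClosure Fq[X] L) hdim
  have hint : Algebra.IsIntegral Fq[X] (integralClosure Fq[X] L) := inferInstance
  have hfrac : IsFractionRing (integralClosure Fq[X] L) L :=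
    integralClosure.isFractionRing_of_finite_extension (RatFunc Fq) L
  have hjac : IsJacobsonRing (integralClosure Fq[X] L) := isJacobsonRing_of_isIntegral (R := Fq[X])
  refine ⟨integralClosure Fq[X] L, inferInstance, inferInstance, hD, hfrac, ?_, ?_⟩
  · intro P hP
    have h1 := hQ P hP
    have h2 : P.comap (algebraMap Fq[X] (integralClosure Fq[X] L)) ≠ ⊥ :=
      Ring.ne_bot_of_isMaximal_of_not_isField (Ideal.isMaximal_comap_of_isIntegral_of_isMaximal P)
        (Polynomial.not_isField Fq)
    have h3 := finite_quotient_polynomial Fq _ h2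
    exact Module.finite_of_finite (Fq[X] ⧸ P.comap (algebraMap Fq[X] (integralClosure Fq[X] L)))
  · intro x hx
    by_contra hcon
    push Not at hcon
    apply hx
    have h1 : (⊥ : Ideal (integralClosure Fq[X] L)).jacobson = ⊥ :=
      hjac.out (Ideal.isRadical_bot)
    have h2 : x ∈ (⊥ : Ideal (integralClosure Fq[X] L)).jacobson := by
      rw [Ideal.jacobson, Ideal.mem_sInf]
      exact fun P hP => hcon _ hP.2
    rw [h1] at h2
    exact h2

section units

variable {O L : Type u} [CommRing O] [Field L] [Algebra O L] (hb : IsBase O L)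

include hb in
/-- The units of the fraction field of `O`. -/
theorem pp_units (p : ℕ) (hp : p.Prime) [CharP L p] : PP Lˣ := by
  obtain ⟨hded, hfrac, hfin, hjac⟩ := hb
  have hinj : Function.Injective (algebraMap O L) := IsFractionRing.injective O L
  have hO : CharP O p := by
    refine ⟨fun x => ?_⟩
    rw [← CharP.cast_eq_zero_iff L p x, ← map_natCast (algebraMap O L), map_eq_zero_iff _ hinj]
  -- elements with trivial valuations are units of `O`
  have hunit : ∀ x : Lˣ, (∀ v : HeightOneSpectrum O, v.valuation L (x : L) = 1) →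
      ∃ u : Oˣ, algebraMap O L u = x := by
    intro x hx
    obtain ⟨a, ha⟩ := HeightOneSpectrum.mem_integers_of_valuation_le_one L (x : L) fun v => (hx v).le
    obtain ⟨b, hb⟩ := HeightOneSpectrum.mem_integers_of_valuation_le_one L ((x⁻¹ : Lˣ) : L) fun v => by
      rw [Units.val_inv_eq_inv_val, map_inv₀, hx v, inv_one]
    refine ⟨⟨a, b, hinj ?_, hinj ?_⟩, ha⟩
    · rw [map_mul, ha, hb, map_one, Units.mul_inv]
    · rw [map_mul, ha, hb, map_one, Units.inv_mul]
  have hval : ∀ (z : WithZero (Multiplicative ℤ)) (n : ℕ), 0 < n → z ^ n = 1 → z = 1 := by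
    intro z n hn hz
    have hz0 : z ≠ 0 := by
      rintro rfl
      rw [zero_pow hn.ne'] at hz
      exact zero_ne_one hz
    obtain ⟨w, rfl⟩ := WithZero.ne_zero_iff_exists.1 hz0
    rw [← WithZero.coe_pow, ← WithZero.coe_one, WithZero.coe_inj] at hz
    have h1 : n • w.toAdd = 0 := hz
    have h2 : w.toAdd = 0 := (smul_eq_zero.1 h1).resolve_left hn.ne'
    rw [show w = 1 from h2]
    rfl
  have hdivval : ∀ (z : WithZero (Multiplicative ℤ)), z ≠ 0 → (∀ n : ℕ, 0 < n → ∃ y, y ^ n = z) → z = 1 := by
    intro z hz0 hz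
    obtain ⟨w, rfl⟩ := WithZero.ne_zero_iff_exists.1 hz0
    obtain ⟨y, hy⟩ := hz (w.toAdd.natAbs + 1) (Nat.succ_pos _)
    have hy0 : y ≠ 0 := by
      rintro rfl
      rw [zero_pow (Nat.succ_ne_zero _)] at hy
      exact hz0 hy.symm
    obtain ⟨u, rfl⟩ := WithZero.ne_zero_iff_exists.1 hy0
    rw [← WithZero.coe_pow, WithZero.coe_inj] at hy
    have h1 : ((w.toAdd.natAbs + 1 : ℕ) : ℤ) * u.toAdd = w.toAdd := by
      have := congrArg Multiplicative.toAdd hy
      rw [toAdd_pow, nsmul_eq_mul] at this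
      exact this
    have h2 : w.toAdd = 0 := by
      apply Int.eq_zero_of_abs_lt_dvd (m := ((w.toAdd.natAbs + 1 : ℕ) : ℤ)) ⟨u.toAdd, h1.symm⟩
      rw [Int.abs_eq_natAbs]
      push_cast
      omega
    rw [show w = 1 from h2]
    rfl
  -- torsion elements congruent to one
  have htor : ∀ (P : Ideal O) (_ : P.IsMaximal) (x : Lˣ) (u : Oˣ), algebraMap O L u = x → IsOfFinOrder x →
      Ideal.Quotient.mk P (u : O) = 1 → x = 1 := by
    intro P hP x u hu hx hu1
    by_contra hne
    have h0 : orderOf x ≠ 1 := fun h => hne (orderOf_eq_one_iff.1 h)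
    obtain ⟨ℓ, hℓ, m, hm⟩ := Nat.exists_prime_and_dvd h0
    have hox := hx.orderOf_pos
    have hm0 : 0 < m := Nat.pos_of_ne_zero (by
      rintro rfl
      rw [hm, mul_zero] at hox
      exact lt_irrefl 0 hox)
    -- an element of order `ℓ`
    have h1 : x ^ m ≠ 1 := fun h => by
      have := Nat.le_of_dvd hm0 (orderOf_dvd_of_pow_eq_one h)
      rw [hm] at this
      have h2 : m < ℓ * m := by
        calc m = 1 * m := (one_mul _).symm
          _ < ℓ * m := Nat.mul_lt_mul_of_pos_right hℓ.one_lt hm0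
      omega
    have h2 : (x ^ m) ^ ℓ = 1 := by
      rw [← pow_mul, mul_comm m ℓ, ← hm, pow_orderOf_eq_one]
    let y : O := (u : O) ^ m
    have hy1 : y ≠ 1 := fun h => h1 (Units.ext (by
      rw [Units.val_pow_eq_pow_val, ← hu, ← map_pow]
      change algebraMap O L y = _
      rw [h, map_one, Units.val_one]))
    have hy2 : y ^ ℓ = 1 := hinj (by
      rw [map_pow, map_pow, hu, map_one]
      exact congrArg Units.val h2)
    have hy3 : Ideal.Quotient.mk P y = 1 := by rw [map_pow, hu1, one_pow]
    have h3 : (y - 1) * (∑ i ∈ Finset.range ℓ, y ^ i) = 0 := by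
      rw [mul_comm, geom_sum_mul, hy2, sub_self]
    have h4 : ∑ i ∈ Finset.range ℓ, y ^ i = 0 := (mul_eq_zero.1 h3).resolve_left (sub_ne_zero.2 hy1)
    have h5 := congrArg (Ideal.Quotient.mk P) h4
    rw [map_sum, map_zero] at h5
    simp only [map_pow, hy3, one_pow, Finset.sum_const, Finset.card_range, nsmul_eq_mul, mul_one] at h5
    have hnt : Nontrivial (O ⧸ P) := Ideal.Quotient.nontrivial_iff.2 hP.ne_top
    have hcP : CharP (O ⧸ P) p := by
      have := Ideal.Quotient.isDomain P
      obtain ⟨q, hq⟩ := CharP.exists (O ⧸ P)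
      have h6 : ((p : ℕ) : O ⧸ P) = 0 := by
        rw [← map_natCast (Ideal.Quotient.mk P), CharP.cast_eq_zero, map_zero]
      have h7 : q ∣ p := (CharP.cast_eq_zero_iff (O ⧸ P) q p).1 h6
      rcases (Nat.dvd_prime hp).1 h7 with h8 | h8
      · subst h8
        exact absurd rfl (CharP.char_ne_one (O ⧸ P) 1)
      · rwa [h8] at hq
    have h6 : p ∣ ℓ := (CharP.cast_eq_zero_iff (O ⧸ P) p ℓ).1 h5
    have h7 : p = ℓ := (Nat.prime_dvd_prime_iff_eq hp hℓ).1 h6
    subst h7
    have hpf : Fact p.Prime := ⟨hp⟩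
    have h8 : (y - 1) ^ p = 0 := by
      rw [sub_pow_char, hy2, one_pow, sub_self]
    exact hy1 (sub_eq_zero.1 (pow_eq_zero_iff hp.ne_zero |>.1 h8))
  have hu0 : ∀ x : Lˣ, ∀ v : HeightOneSpectrum O, v.valuation L (x : L) ≠ 0 := fun x v =>
    (Valuation.ne_zero_iff _).2 x.ne_zero
  refine ⟨fun x hx => ?_, ?_⟩
  · have hv : ∀ v : HeightOneSpectrum O, v.valuation L (x : L) = 1 := fun v =>
      hdivval _ (hu0 x v) fun n hn => by
        obtain ⟨y, hy⟩ := hx n hn
        exact ⟨v.valuation L (y : L), by rw [← map_pow, ← Units.val_pow_eq_pow_val, hy]⟩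
    obtain ⟨u, hu⟩ := hunit x hv
    have h1 : (u : O) = 1 := by
      by_contra hne
      obtain ⟨P, hP, hxP⟩ := hjac ((u : O) - 1) (sub_ne_zero.2 hne)
      have := hfin P hP
      apply hxP
      obtain ⟨y, hy⟩ := hx (Nat.card (O ⧸ P)ˣ) Nat.card_pos
      obtain ⟨w, hw⟩ := hunit y fun v => hval _ (Nat.card (O ⧸ P)ˣ) Nat.card_pos (by
        rw [← map_pow, ← Units.val_pow_eq_pow_val, hy, hv])
      have h2 : (u : O) = (w : O) ^ Nat.card (O ⧸ P)ˣ := hinj (by
        rw [map_pow, hw, hu, ← hy, Units.val_pow_eq_pow_val])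
      rw [← Ideal.Quotient.eq_zero_iff_mem, map_sub, map_one, sub_eq_zero, h2, map_pow]
      have h3 : (Units.map (Ideal.Quotient.mk P : O →* O ⧸ P) w) ^ Nat.card (O ⧸ P)ˣ = 1 := pow_card_eq_one'
      exact congrArg Units.val h3
    apply Units.ext
    rw [← hu, h1, map_one, Units.val_one]
  · obtain ⟨P, hP, -⟩ := hjac 1 one_ne_zero
    have := hfin P hP
    refine ⟨Nat.card (O ⧸ P)ˣ, Nat.card_pos, fun x hx => ?_⟩
    have hv : ∀ v : HeightOneSpectrum O, v.valuation L (x : L) = 1 := fun v => by
      obtain ⟨n, hn, hn1⟩ := isOfFinOrder_iff_pow_eq_one.1 hx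
      refine hval _ n hn ?_
      rw [← map_pow, ← Units.val_pow_eq_pow_val, hn1, Units.val_one, map_one]
    obtain ⟨u, hu⟩ := hunit x hv
    refine htor P hP (x ^ Nat.card (O ⧸ P)ˣ) (u ^ Nat.card (O ⧸ P)ˣ) ?_ hx.pow ?_
    · rw [Units.val_pow_eq_pow_val, Units.val_pow_eq_pow_val, map_pow, hu]
    · have h3 : (Units.map (Ideal.Quotient.mk P : O →* O ⧸ P) u) ^ Nat.card (O ⧸ P)ˣ = 1 := pow_card_eq_one'
      rw [Units.val_pow_eq_pow_val, map_pow]
      exact congrArg Units.val h3

end units

theorem Good.pp {p : ℕ} {L : Type u} [Field L] (h : Good p L) : PP Lˣ := by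
  obtain ⟨O, _, _, hb⟩ := h.exists_isBase
  have := h.char
  exact pp_units hb p h.prime

end K810.FunUnits
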